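import Cfsg.Agent.Lib.MinIndexOrth.Plane
import Cfsg.Agent.Lib.MinIndexPSp.Basic

/-!
An action of `Ω(V)`, `V = (F × F) ⊥ U`: orbits of the unipotent radical, the annihilators of their
stabilisers, and the action of the Levi elements on them.
-/

set_option autoImplicit false
set_option linter.unusedSectionVars false

namespace CfsgLib.MinIndexOrth

open QuadraticMap Module CfsgLib.Classical.Quad CfsgLib.MinIndexPSp

variable {F U : Type*} [Field F] [AddCommGroup U] [Module F U] {R : QuadraticForm F U}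
variable {Ω : Type*} [MulAction (siegelGroup (plane R)) Ω]

/-- The parameters of the elements of the radical fixing `x`. -/
def Rs (R : QuadraticForm F U) {Ω : Type*} [MulAction (siegelGroup (plane R)) Ω] (x : Ω) :
    AddSubgroup U where
  carrier := {a | sgQ R a • x = x}
  add_mem' {a b} ha hb := by
    show sgQ R (a + b) • x = x
    rw [sgQ_add, mul_smul, show sgQ R b • x = x from hb, show sgQ R a • x = x from ha]
  zero_mem' := by
    show sgQ R 0 • x = x
    rw [sgQ_zero, one_smul]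
  neg_mem' {a} ha := by
    show sgQ R (-a) • x = x
    rw [sgQ_neg, inv_smul_eq_iff, show sgQ R a • x = x from ha]

theorem mem_Rs {x : Ω} {a : U} : a ∈ Rs R x ↔ sgQ R a • x = x := Iff.rfl

theorem Rs_sgQ_smul (a : U) (x : Ω) : Rs R (sgQ R a • x) = Rs R x := by
  ext b
  rw [mem_Rs, mem_Rs, ← mul_smul, ← sgQ_add, add_comm, sgQ_add, mul_smul, smul_left_cancel_iff]

/-- The pairing of `U` with its characters. -/
def pairU (χ : AddChar F ℂ) (R : QuadraticForm F U) (a : U) : AddChar U ℂ :=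
  χ.compAddMonoidHom (polarBilin R a).toAddMonoidHom

theorem pairU_apply (χ : AddChar F ℂ) (a b : U) : pairU χ R a b = χ (polar R a b) := rfl

theorem pairU_add (χ : AddChar F ℂ) (a b : U) : pairU χ R (a + b) = pairU χ R a * pairU χ R b := by
  refine DFunLike.ext _ _ fun c => ?_
  rw [AddChar.mul_apply, pairU_apply, pairU_apply, pairU_apply, polar_add_left,
    AddChar.map_add_eq_mul]

theorem pairU_injective (hnd : NDPolar R) {χ : AddChar F ℂ} (hχ : χ ≠ 1) :
    Function.Injective (pairU χ R) := by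
  intro a b h
  obtain ⟨c, hc⟩ := AddChar.ne_one_iff.1 hχ
  by_contra hne
  refine hc ?_
  obtain ⟨y, hy⟩ : ∃ y, polar R (a - b) y ≠ 0 := by
    by_contra hcon
    push Not at hcon
    exact hne (sub_eq_zero.1 (hnd _ hcon))
  have h1 := DFunLike.congr_fun h ((c / polar R (a - b) y) • y)
  rw [pairU_apply, pairU_apply, polar_smul_right, polar_smul_right, smul_eq_mul, smul_eq_mul] at h1
  have h2 : c / polar R (a - b) y * polar R a y = c + c / polar R (a - b) y * polar R b y := by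
    have : polar R a y = polar R (a - b) y + polar R b y := by
      rw [← polar_add_left, sub_add_cancel]
    rw [this]
    field_simp
  rw [h2, AddChar.map_add_eq_mul] at h1
  exact (mul_eq_right₀ (χ.val_isUnit _).ne_zero).1 h1

/-- The annihilator of `Rs x`. -/
def An (χ : AddChar F ℂ) (R : QuadraticForm F U) {Ω : Type*}
    [MulAction (siegelGroup (plane R)) Ω] (x : Ω) : AddSubgroup U :=
  dualAnn (pairU χ R) (pairU_add χ) (Rs R x)

theorem An_sgQ_smul (χ : AddChar F ℂ) (a : U) (x : Ω) : An χ R (sgQ R a • x) = An χ R x := by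
  rw [An, An, Rs_sgQ_smul]

/-- The orbits of the radical. -/
def orbRel (R : QuadraticForm F U) (Ω : Type*) [MulAction (siegelGroup (plane R)) Ω] :
    Setoid Ω where
  r x y := ∃ a : U, sgQ R a • x = y
  iseqv :=
    { refl := fun x => ⟨0, by rw [sgQ_zero, one_smul]⟩
      symm := fun {x y} ⟨a, h⟩ => ⟨-a, by rw [sgQ_neg, inv_smul_eq_iff, h]⟩
      trans := fun {x y z} ⟨a, h⟩ ⟨b, h'⟩ => ⟨b + a, by rw [sgQ_add, mul_smul, h, h']⟩ }

/-- The type of orbits of the radical. -/
abbrev Orb (R : QuadraticForm F U) (Ω : Type*) [MulAction (siegelGroup (plane R)) Ω] : Type _ :=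
  Quotient (orbRel R Ω)

/-- The orbit of a point. -/
def omk (R : QuadraticForm F U) {Ω : Type*} [MulAction (siegelGroup (plane R)) Ω] (x : Ω) :
    Orb R Ω := Quotient.mk _ x

theorem omk_eq_iff {x y : Ω} : omk R x = omk R y ↔ ∃ a : U, sgQ R a • x = y := Quotient.eq

theorem omk_sgQ (a : U) (x : Ω) : omk R (sgQ R a • x) = omk R x :=
  (omk_eq_iff.2 ⟨a, rfl⟩).symm

theorem omk_surjective : Function.Surjective (omk R : Ω → Orb R Ω) := Quotient.mk_surjective

/-- The stabiliser parameters of an orbit. -/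
def oR (o : Orb R Ω) : AddSubgroup U :=
  Quotient.liftOn o (Rs R) fun x y ⟨a, h⟩ => by rw [← h, Rs_sgQ_smul]

/-- The annihilator of an orbit. -/
def oA (χ : AddChar F ℂ) (o : Orb R Ω) : AddSubgroup U :=
  Quotient.liftOn o (An χ R) fun x y ⟨a, h⟩ => by rw [← h, An_sgQ_smul]

theorem oR_omk (x : Ω) : oR (omk R x) = Rs R x := rfl

theorem oA_omk (χ : AddChar F ℂ) (x : Ω) : oA χ (omk R x) = An χ R x := rfl

/-! ### The Levi elements -/

/-- The Levi elements. -/
def levG (R : QuadraticForm F U) : Subgroup (siegelGroup (plane R)) where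
  carrier := {g | ∃ (l : Fˣ) (h : Orth R), g.1 = levO R l h}
  mul_mem' := by
    rintro g g' ⟨l, h, hg⟩ ⟨l', h', hg'⟩
    exact ⟨l * l', h * h', by rw [Subgroup.coe_mul, hg, hg', levO_mul]⟩
  one_mem' := ⟨1, 1, by rw [OneMemClass.coe_one, levO_one, map_one]⟩
  inv_mem' := by
    rintro g ⟨l, h, hg⟩
    refine ⟨l⁻¹, h⁻¹, ?_⟩
    rw [Subgroup.coe_inv, hg, inv_eq_iff_mul_eq_one, levO_mul, mul_inv_cancel, mul_inv_cancel,
      levO_one, map_one]

/-- A Levi element as an element of `levG`. -/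
def mkLev (R : QuadraticForm F U) (l : Fˣ) (h : Orth R)
    (hm : levO R l h ∈ siegelGroup (plane R)) : levG R := ⟨⟨_, hm⟩, l, h, rfl⟩

theorem exists_eq_mkLev (k : levG R) : ∃ l h hm, k = mkLev R l h hm := by
  obtain ⟨l, h, hk⟩ := k.2
  exact ⟨l, h, hk ▸ k.1.2, Subtype.ext (Subtype.ext hk)⟩

theorem mkLev_sgQ (l : Fˣ) (h : Orth R) (hm : levO R l h ∈ siegelGroup (plane R)) (a : U) :
    (mkLev R l h hm).1 * sgQ R a = sgQ R ((l : F) • h.1 a) * (mkLev R l h hm).1 :=
  Subtype.ext (mul_inv_eq_iff_eq_mul.1 (levO_conj_siegel l h a))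

theorem mkLev_smul_sgQ (l : Fˣ) (h : Orth R) (hm : levO R l h ∈ siegelGroup (plane R)) (a : U)
    (x : Ω) :
    (mkLev R l h hm).1 • sgQ R a • x = sgQ R ((l : F) • h.1 a) • (mkLev R l h hm).1 • x := by
  rw [← mul_smul, mkLev_sgQ, mul_smul]

theorem Rs_mkLev (l : Fˣ) (h : Orth R) (hm : levO R l h ∈ siegelGroup (plane R)) (x : Ω) (a : U) :
    (l : F) • h.1 a ∈ Rs R ((mkLev R l h hm).1 • x) ↔ a ∈ Rs R x := by
  rw [mem_Rs, mem_Rs, ← mkLev_smul_sgQ, smul_left_cancel_iff]

theorem An_mkLev (χ : AddChar F ℂ) (l : Fˣ) (h : Orth R)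
    (hm : levO R l h ∈ siegelGroup (plane R)) (x : Ω) (a : U) :
    ((l⁻¹ : Fˣ) : F) • h.1 a ∈ An χ R ((mkLev R l h hm).1 • x) ↔ a ∈ An χ R x := by
  have e : ∀ r, pairU χ R (((l⁻¹ : Fˣ) : F) • h.1 a) ((l : F) • h.1 r) = pairU χ R a r := by
    intro r
    simp [pairU_apply, orth_polar]
  rw [An, An, mem_dualAnn, mem_dualAnn]
  constructor
  · intro H r hr
    rw [← e]
    exact H _ ((Rs_mkLev l h hm x r).2 hr)
  · intro H r hr
    obtain ⟨r', rfl⟩ : ∃ r', (l : F) • h.1 r' = r :=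
      ⟨(h⁻¹).1 (((l⁻¹ : Fˣ) : F) • r), by
        rw [self_apply_inv, smul_smul, Units.mul_inv, one_smul]⟩
    rw [e]
    exact H _ ((Rs_mkLev l h hm x r').1 hr)

instance instSMulOrb : SMul (levG R) (Orb R Ω) :=
  ⟨fun k => Quotient.map (fun x => k.1 • x) fun x y ⟨a, ha⟩ => by
    obtain ⟨l, h, hm, rfl⟩ := exists_eq_mkLev k
    exact ⟨(l : F) • h.1 a, by rw [← mkLev_smul_sgQ, ha]⟩⟩

theorem smul_omk (k : levG R) (x : Ω) : k • omk R x = omk R (k.1 • x) := rfl

instance instMulActionOrb : MulAction (levG R) (Orb R Ω) where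
  one_smul o := by
    obtain ⟨x, rfl⟩ := omk_surjective o
    rw [smul_omk, OneMemClass.coe_one, one_smul]
  mul_smul k k' o := by
    obtain ⟨x, rfl⟩ := omk_surjective o
    rw [smul_omk, smul_omk, smul_omk, Subgroup.coe_mul, mul_smul]

theorem oR_mkLev (l : Fˣ) (h : Orth R) (hm : levO R l h ∈ siegelGroup (plane R)) (o : Orb R Ω)
    (a : U) : (l : F) • h.1 a ∈ oR (mkLev R l h hm • o) ↔ a ∈ oR o := by
  obtain ⟨x, rfl⟩ := omk_surjective o
  exact Rs_mkLev l h hm x a

theorem oA_mkLev (χ : AddChar F ℂ) (l : Fˣ) (h : Orth R)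
    (hm : levO R l h ∈ siegelGroup (plane R)) (o : Orb R Ω) (a : U) :
    ((l⁻¹ : Fˣ) : F) • h.1 a ∈ oA χ (mkLev R l h hm • o) ↔ a ∈ oA χ o := by
  obtain ⟨x, rfl⟩ := omk_surjective o
  exact An_mkLev χ l h hm x a

/-- The element of `levG` extending an element of `Ω(U)`. -/
def mkL (R : QuadraticForm F U) {h : Orth R} (hh : h ∈ siegelGroup R) : levG R :=
  mkLev R 1 h (by rw [levO_one]; exact liftO_mem hh)

theorem mkL_coe {h : Orth R} (hh : h ∈ siegelGroup R) : ((mkL R hh).1).1 = liftO R h :=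
  levO_one h

theorem oR_mkL {h : Orth R} (hh : h ∈ siegelGroup R) (o : Orb R Ω) (a : U) :
    h.1 a ∈ oR (mkL R hh • o) ↔ a ∈ oR o := by
  have := oR_mkLev 1 h (by rw [levO_one]; exact liftO_mem hh) o a
  rwa [Units.val_one, one_smul] at this

theorem oA_mkL (χ : AddChar F ℂ) {h : Orth R} (hh : h ∈ siegelGroup R) (o : Orb R Ω) (a : U) :
    h.1 a ∈ oA χ (mkL R hh • o) ↔ a ∈ oA χ o := by
  have := oA_mkLev χ 1 h (by rw [levO_one]; exact liftO_mem hh) o a
  rwa [inv_one, Units.val_one, one_smul] at this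

/-! ### Counting -/

section Count

variable [Finite U] [Finite Ω] (hnd : NDPolar R) (χ : AddChar F ℂ) (hχ : χ ≠ 1)

noncomputable instance instFintypeOrb : Fintype (Orb R Ω) := Fintype.ofFinite _

/-- The orbits whose annihilator contains `v`. -/
noncomputable def orbsWith (v : U) : Finset (Orb R Ω) :=
  open scoped _root_.Classical in Finset.univ.filter fun o => v ∈ oA χ o

theorem mem_orbsWith {v : U} {o : Orb R Ω} : o ∈ orbsWith χ v ↔ v ∈ oA χ o := by
  classical
  simp [orbsWith]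

theorem card_orbsWith_mkLev (l : Fˣ) (h : Orth R) (hm : levO R l h ∈ siegelGroup (plane R))
    (v : U) :
    (orbsWith (R := R) (Ω := Ω) χ (((l⁻¹ : Fˣ) : F) • h.1 v)).card =
      (orbsWith (R := R) (Ω := Ω) χ v).card := by
  refine (Finset.card_bij (fun o _ => mkLev R l h hm • o) (fun o ho => ?_)
    (fun o _ o' _ e => smul_left_cancel _ e) fun o ho => ⟨(mkLev R l h hm)⁻¹ • o, ?_, ?_⟩).symm
  · rw [mem_orbsWith] at ho ⊢
    rwa [oA_mkLev]
  · rw [mem_orbsWith] at ho ⊢
    rw [← smul_inv_smul (mkLev R l h hm) o] at ho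
    rwa [oA_mkLev] at ho
  · exact smul_inv_smul _ _

include hnd hχ

theorem mem_Rs_iff (x : Ω) (a : U) :
    a ∈ Rs R x ↔ ∀ y ∈ An χ R x, χ (polar R y a) = 1 :=
  ⟨fun ha _ hy => hy a ha,
    fun h => mem_of_forall_dualAnn _ (pairU_add χ) (pairU_injective hnd hχ) _ h⟩

theorem mem_oR_iff (o : Orb R Ω) (a : U) :
    a ∈ oR o ↔ ∀ y ∈ oA χ o, χ (polar R y a) = 1 := by
  obtain ⟨x, rfl⟩ := omk_surjective o
  exact mem_Rs_iff hnd χ hχ x a

theorem mem_oR_of_perp {o : Orb R Ω} {a : U} (h : ∀ y ∈ oA χ o, polar R y a = 0) : a ∈ oR o :=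
  (mem_oR_iff hnd χ hχ o a).2 fun y hy => by rw [h y hy, AddChar.map_zero_eq_one]

theorem card_oA (o : Orb R Ω) : Nat.card (oA χ o) * Nat.card (oR o) = Nat.card U := by
  obtain ⟨x, rfl⟩ := omk_surjective o
  rw [oA_omk, An, card_dualAnn _ _ (pairU_injective hnd hχ), oR_omk,
    ← AddSubgroup.index_eq_card, mul_comm, AddSubgroup.card_mul_index]

theorem card_fiber (o : Orb R Ω) : Nat.card {x : Ω // omk R x = o} = Nat.card (oA χ o) := by
  classical
  obtain ⟨x, rfl⟩ := omk_surjective o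
  rw [oA_omk, An, card_dualAnn _ _ (pairU_injective hnd hχ)]
  refine (Nat.card_congr (Equiv.ofBijective (Quotient.lift
    (fun a : U => (⟨sgQ R a • x, omk_sgQ a x⟩ : {y : Ω // omk R y = omk R x}))
    fun a b hab => ?_) ⟨?_, ?_⟩)).symm
  · have hab' : -a + b ∈ Rs R x := QuotientAddGroup.leftRel_apply.1 hab
    refine Subtype.ext ?_
    show sgQ R a • x = sgQ R b • x
    conv_lhs => rw [← mem_Rs.1 hab']
    rw [← mul_smul, ← sgQ_add, add_neg_cancel_left]
  · rintro ⟨a⟩ ⟨b⟩ h
    refine Quotient.sound (QuotientAddGroup.leftRel_apply.2 (mem_Rs.2 ?_))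
    have h' : sgQ R a • x = sgQ R b • x := congrArg Subtype.val h
    rw [sgQ_add, mul_smul, ← h', sgQ_neg, inv_smul_smul]
  · rintro ⟨y, hy⟩
    obtain ⟨a, ha⟩ := omk_eq_iff.1 hy.symm
    exact ⟨Quotient.mk _ a, Subtype.ext ha⟩

theorem card_eq_sum : Nat.card Ω = ∑ o : Orb R Ω, Nat.card (oA χ o) := by
  rw [← Finset.sum_congr rfl fun o _ => card_fiber hnd χ hχ o, ← Nat.card_sigma]
  exact Nat.card_congr (Equiv.sigmaFiberEquiv (omk R)).symm

theorem sum_le (s : Finset (Orb R Ω)) : ∑ o ∈ s, Nat.card (oA χ o) ≤ Nat.card Ω := by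
  rw [card_eq_sum hnd χ hχ]
  exact Finset.sum_le_sum_of_subset (Finset.subset_univ s)

open scoped _root_.Classical in
/-- A set of vectors each covered `m` times bounds the degree. -/
theorem le_card_of_cover (s : Finset (Orb R Ω)) (C : Set U) (m c e : ℕ)
    (hm : ∀ v ∈ C, m ≤ (s.filter fun o => v ∈ oA χ o).card)
    (hfrac : ∀ o ∈ s, Nat.card {v : U // v ∈ C ∧ v ∈ oA χ o} * c ≤ Nat.card (oA χ o) * e) :
    m * Nat.card C * c ≤ (∑ o ∈ s, Nat.card (oA χ o)) * e := by
  classical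
  cases nonempty_fintype U
  have key : m * Nat.card C ≤ ∑ o ∈ s, Nat.card {v : U // v ∈ C ∧ v ∈ oA χ o} := by
    calc m * Nat.card C = ∑ v ∈ C.toFinset, m := by
          rw [Finset.sum_const, Set.toFinset_card, Nat.card_eq_fintype_card, smul_eq_mul, mul_comm]
      _ ≤ ∑ v ∈ C.toFinset, (s.filter fun o => v ∈ oA χ o).card :=
          Finset.sum_le_sum fun v hv => hm v (Set.mem_toFinset.1 hv)
      _ = ∑ o ∈ s, (C.toFinset.filter fun v => v ∈ oA χ o).card := by
          simp only [Finset.card_filter]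
          exact Finset.sum_comm
      _ = _ := Finset.sum_congr rfl fun o _ => by
          rw [Nat.card_eq_fintype_card, Fintype.card_subtype]
          congr 1
          ext v
          simp
  calc m * Nat.card C * c ≤ (∑ o ∈ s, Nat.card {v : U // v ∈ C ∧ v ∈ oA χ o}) * c :=
        Nat.mul_le_mul_right c key
    _ = ∑ o ∈ s, Nat.card {v : U // v ∈ C ∧ v ∈ oA χ o} * c := Finset.sum_mul _ _ _
    _ ≤ ∑ o ∈ s, Nat.card (oA χ o) * e := Finset.sum_le_sum hfrac
    _ = _ := (Finset.sum_mul _ _ _).symm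

/-- The points fixed by an element of the radical. -/
theorem card_fix_sgQ (a : U) [DecidablePred fun o : Orb R Ω => a ∈ oR o] :
    Nat.card {x : Ω // sgQ R a • x = x} =
      ∑ o ∈ Finset.univ.filter (fun o : Orb R Ω => a ∈ oR o), Nat.card (oA χ o) := by
  classical
  rw [Finset.sum_filter]
  rw [← Finset.sum_congr rfl fun o _ => show
    Nat.card {x : Ω // sgQ R a • x = x ∧ omk R x = o} = if a ∈ oR o then Nat.card (oA χ o) else 0
      from ?_]
  · rw [← Nat.card_sigma]
    exact Nat.card_congr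
      { toFun := fun x => ⟨omk R x.1, x.1, x.2, rfl⟩
        invFun := fun x => ⟨x.2.1, x.2.2.1⟩
        left_inv := fun _ => rfl
        right_inv := by rintro ⟨o, x, hx, rfl⟩; rfl }
  · split_ifs with h
    · rw [← card_fiber hnd χ hχ o]
      exact Nat.card_congr (Equiv.subtypeEquivRight fun x =>
        ⟨And.right, fun e => ⟨by subst e; exact h, e⟩⟩)
    · rw [Nat.card_eq_zero]
      exact Or.inl ⟨fun x => h (by rw [← x.2.2]; exact x.2.1)⟩

/-- The points fixed by a Levi element. -/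
theorem card_fix_lev_le (k : levG R) [DecidablePred fun o : Orb R Ω => k • o = o] :
    Nat.card {x : Ω // k.1 • x = x} ≤
      ∑ o ∈ Finset.univ.filter (fun o : Orb R Ω => k • o = o), Nat.card (oA χ o) := by
  classical
  rw [← Finset.sum_congr rfl fun o _ => card_fiber hnd χ hχ o, ← Finset.sum_coe_sort,
    ← Nat.card_sigma]
  refine Nat.card_le_card_of_injective (fun x => ⟨⟨omk R x.1, Finset.mem_filter.2
    ⟨Finset.mem_univ _, by rw [smul_omk, x.2]⟩⟩, x.1, rfl⟩) fun x y e => ?_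
  exact Subtype.ext (congrArg (fun s => s.2.1) e)

end Count

/-! ### A fixed point in an orbit -/

/-- A Levi element without fixed vector modulo the stabiliser fixes a unique point of an orbit it
stabilises. -/
theorem existsUnique_fix [Finite U] {l : Fˣ} {h : Orth R}
    {hm : levO R l h ∈ siegelGroup (plane R)} {o : Orb R Ω} (hk : mkLev R l h hm • o = o)
    (hinj : ∀ a, (l : F) • h.1 a - a ∈ oR o → a ∈ oR o) :
    ∃! y : Ω, omk R y = o ∧ (mkLev R l h hm).1 • y = y := by
  obtain ⟨x, rfl⟩ := omk_surjective o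
  rw [oR_omk] at hinj
  rw [smul_omk, omk_eq_iff] at hk
  obtain ⟨c, hc⟩ := hk
  -- `k x = sg (-c) x`
  have hkx : (mkLev R l h hm).1 • x = sgQ R (-c) • x := by
    rw [sgQ_neg, eq_inv_smul_iff, hc]
  let φ : U →+ U := AddMonoidHom.mk' (fun a => (l : F) • h.1 a - a) fun a b => by
    rw [map_add, smul_add]
    abel
  have hφ : Rs R x ≤ (Rs R x).comap φ := fun a ha => by
    have h1 := (Rs_mkLev l h hm x a).2 ha
    rw [hkx, Rs_sgQ_smul] at h1
    exact sub_mem h1 ha
  let ψ := QuotientAddGroup.map (Rs R x) (Rs R x) φ hφ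
  have hψ : Function.Injective ψ := by
    rw [injective_iff_map_eq_zero]
    intro q hq
    induction q using QuotientAddGroup.induction_on with
    | _ a =>
      rw [QuotientAddGroup.map_mk, QuotientAddGroup.eq_zero_iff] at hq
      exact (QuotientAddGroup.eq_zero_iff a).2 (hinj a hq)
  have hfix : ∀ a, (mkLev R l h hm).1 • sgQ R a • x = sgQ R a • x ↔ φ a + -c ∈ Rs R x := by
    intro a
    rw [mkLev_smul_sgQ, hkx, ← mul_smul, ← sgQ_add, mem_Rs]
    rw [show (l : F) • h.1 a + -c = a + (φ a + -c) by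
      show _ = a + ((l : F) • h.1 a - a + -c)
      abel, sgQ_add, mul_smul, smul_left_cancel_iff]
  obtain ⟨q, hq⟩ := Finite.injective_iff_surjective.1 hψ (c : U ⧸ Rs R x)
  induction q using QuotientAddGroup.induction_on with
  | _ a =>
    rw [QuotientAddGroup.map_mk, QuotientAddGroup.eq] at hq
    refine ⟨sgQ R a • x, ⟨omk_sgQ a x, (hfix a).2 ?_⟩, ?_⟩
    · have := neg_mem hq
      rwa [neg_add_rev, neg_neg, add_comm] at this
    · rintro y ⟨hy, hky⟩
      obtain ⟨b, rfl⟩ := omk_eq_iff.1 hy.symm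
      have h1 := sub_mem ((hfix b).1 hky) (neg_mem hq)
      have h2 : φ (b - a) ∈ Rs R x := by
        rw [map_sub]
        convert h1 using 1
        abel
      have h3 := hinj _ h2
      rw [show b = a + (b - a) by abel, sgQ_add, mul_smul, mem_Rs.1 h3]

/-- Lower bound for the fixed points of a Levi element in an orbit it stabilises. -/
theorem card_fix_ge [Finite Ω] [Finite U] {h : Orth R} (hh : h ∈ siegelGroup R) {y : Ω}
    (hy : (mkL R hh).1 • y = y) (D : AddSubgroup U) (hD : ∀ a ∈ D, h.1 a - a ∈ Rs R y) :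
    Nat.card D ≤
      Nat.card {x : Ω // omk R x = omk R y ∧ (mkL R hh).1 • x = x} * Nat.card (Rs R y) := by
  classical
  cases nonempty_fintype U
  let f : D → {x : Ω // omk R x = omk R y ∧ (mkL R hh).1 • x = x} := fun a =>
    ⟨sgQ R a.1 • y, omk_sgQ _ _, by
      rw [mkL, mkLev_smul_sgQ]
      rw [mkL] at hy
      rw [hy, Units.val_one, one_smul]
      conv_lhs => rw [show h.1 a.1 = a.1 + (h.1 a.1 - a.1) by abel, sgQ_add, mul_smul,
        mem_Rs.1 (hD _ a.2)]⟩
  cases nonempty_fintype Ω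
  rw [Nat.card_eq_fintype_card, mul_comm, Nat.card_eq_fintype_card
    (α := {x : Ω // omk R x = omk R y ∧ (mkL R hh).1 • x = x}), ← Finset.card_univ,
    ← Finset.card_univ (α := {x : Ω // omk R x = omk R y ∧ (mkL R hh).1 • x = x})]
  refine Finset.card_le_mul_card_image_of_maps_to (f := f) (fun a _ => Finset.mem_univ _) _
    fun x _ => ?_
  rcases Finset.eq_empty_or_nonempty (Finset.univ.filter fun a => f a = x) with he | ⟨b, hb⟩
  · rw [he]
    simp
  rw [Nat.card_eq_fintype_card, ← Finset.card_univ]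
  refine Finset.card_le_card_of_injOn (fun a => if ha : f a = x then
    (⟨-b.1 + a.1, ?_⟩ : Rs R y) else 0) (fun a _ => Finset.mem_univ _) fun a ha a' ha' e => ?_
  · have e1 : sgQ R a.1 • y = sgQ R b.1 • y :=
      congrArg Subtype.val (ha.trans (Finset.mem_filter.1 hb).2.symm)
    rw [mem_Rs, sgQ_add, mul_smul, e1, sgQ_neg, inv_smul_smul]
  · simp only [Finset.coe_filter, Finset.mem_univ, true_and, Set.mem_ofPred_eq] at ha ha'
    simp only [dif_pos ha, dif_pos ha', Subtype.mk.injEq, add_right_inj] at e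
    exact Subtype.ext e

end CfsgLib.MinIndexOrth
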