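import Cfsg.Agent.Lib.MinIndexOrth.Fixed

/-!
In an action of small degree an annihilator containing a non-singular vector lies in its line or is
everything.
-/

set_option autoImplicit false
set_option linter.unusedSectionVars false

namespace CfsgLib.MinIndexOrth

open QuadraticMap Module CfsgLib.Classical.Quad

variable {F U : Type*} [Field F] [AddCommGroup U] [Module F U] {R : QuadraticForm F U}
variable [Finite F] [Finite U] [FiniteDimensional F U]
variable {Ω : Type*} [MulAction (siegelGroup (plane R)) Ω] [Finite Ω]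
variable (H : Hyp R) (χ : AddChar F ℂ) (hχ : χ ≠ 1) (hlt : Nat.card Ω < Nat.card (Pts R))

theorem card_oA_smul (k : levG R) (o : Orb R Ω) : Nat.card (oA χ (k • o)) = Nat.card (oA χ o) := by
  obtain ⟨l, h, hm, rfl⟩ := exists_eq_mkLev k
  exact (Nat.card_congr (Equiv.subtypeEquiv
    (h.1.toEquiv.trans (MulAction.toPerm (l⁻¹ : Fˣ)))
    (fun a => (oA_mkLev χ l h hm o a).symm))).symm

theorem card_oR_smul (k : levG R) (o : Orb R Ω) : Nat.card (oR (k • o)) = Nat.card (oR o) := by
  obtain ⟨l, h, hm, rfl⟩ := exists_eq_mkLev k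
  exact (Nat.card_congr (Equiv.subtypeEquiv
    (h.1.toEquiv.trans (MulAction.toPerm l))
    (fun a => (oR_mkLev l h hm o a).symm))).symm

include H

/-- The class of a vector is an orbit of the Levi elements, in the annihilator convention. -/
theorem exists_lev_cls {a v : U} (ha : R a ≠ 0) (hv : v ∈ cls R a) :
    ∃ (l : Fˣ) (h : Orth R), levO R l h ∈ siegelGroup (plane R) ∧
      ((l⁻¹ : Fˣ) : F) • h.1 a = v := by
  obtain ⟨s, hs, hR⟩ := hv
  set l : Fˣ := (Units.mk0 s hs)⁻¹
  obtain ⟨h₁, hm₁⟩ := exists_levO H.hnd H.P l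
  have hv0 : v ≠ 0 := fun h => mul_ne_zero (mul_ne_zero hs hs) ha (by rw [← hR, h, QuadraticMap.map_zero])
  have hQ : R (s • h₁.1 a) = R v := by rw [QuadraticMap.map_smul, orth_Q, hR, smul_eq_mul]
  obtain ⟨g, hg, hgv⟩ := level_trans H.hnd H.P
    (smul_ne_zero hs (orth_ne_zero _ (fun h => ha (by rw [h, QuadraticMap.map_zero])))) hv0 hQ
  refine ⟨l, g * h₁, ?_, ?_⟩
  · have := mul_mem (liftO_mem hg) hm₁
    rwa [← levO_one, levO_mul, one_mul] at this
  · rw [mul_apply, show ((l⁻¹ : Fˣ) : F) = s by simp [l], ← map_smul, hgv]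

theorem card_orbsWith_cls {a v : U} (ha : R a ≠ 0) (hv : v ∈ cls R a) :
    (orbsWith (R := R) (Ω := Ω) χ v).card = (orbsWith (R := R) (Ω := Ω) χ a).card := by
  obtain ⟨l, h, hm, rfl⟩ := exists_lev_cls H ha hv
  exact card_orbsWith_mkLev χ l h hm a

include hχ

open scoped _root_.Classical in
theorem orbsWith_mul_le {a : U} (ha : R a ≠ 0) (c e : ℕ)
    (hfrac : ∀ o : Orb R Ω, Nat.card {v : U // v ∈ cls R a ∧ v ∈ oA χ o} * c ≤
      Nat.card (oA χ o) * e) :
    (orbsWith (R := R) (Ω := Ω) χ a).card * H.cl * c ≤ Nat.card Ω * e := by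
  have h := le_card_of_cover H.hnd χ hχ Finset.univ (cls R a)
    (orbsWith (R := R) (Ω := Ω) χ a).card c e (fun v hv => (card_orbsWith_cls H χ ha hv).ge)
    fun o _ => hfrac o
  rw [← card_eq_sum H.hnd χ hχ] at h
  exact le_trans (Nat.mul_le_mul_right _ (Nat.mul_le_mul_left _ (H.hcl a ha))) h

theorem orbsWith_mul_le' {a : U} (ha : R a ≠ 0) :
    (orbsWith (R := R) (Ω := Ω) χ a).card * H.cl ≤ Nat.card Ω := by
  have h := orbsWith_mul_le H χ hχ (Ω := Ω) ha 1 1 fun o => by
    rw [mul_one, mul_one]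
    exact Nat.card_le_card_of_injective (fun v => (⟨v.1, v.2.2⟩ : oA χ o))
      fun v w h => Subtype.ext (congrArg Subtype.val h :)
  simpa using h

omit hχ in
/-- In a group of exponent three a level meets at most two thirds. -/
theorem card_level_three (hq : Nat.card F = 3) (A : AddSubgroup U) {c : F} (hc : c ≠ 0) :
    Nat.card {v : U // R v = c ∧ v ∈ A} * 3 ≤ Nat.card A * 2 := by
  classical
  cases nonempty_fintype U
  have h3 : (3 : F) = 0 := by
    cases nonempty_fintype F
    have := FiniteField.cast_card_eq_zero F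
    rw [← Nat.card_eq_fintype_card, hq] at this
    exact_mod_cast this
  let As : Finset U := Finset.univ.filter fun v => v ∈ A
  let B : Finset U := As.filter fun v => R v = c
  have eA : Nat.card A = As.card := by
    rw [Nat.card_eq_fintype_card]; exact Fintype.card_subtype _
  have eB : Nat.card {v : U // R v = c ∧ v ∈ A} = B.card := by
    rw [Nat.card_eq_fintype_card, Fintype.card_subtype]
    congr 1
    ext v
    simp [B, As, and_comm]
  rw [eA, eB]
  rcases Finset.eq_empty_or_nonempty B with he | ⟨v₀, hv₀⟩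
  · simp [he]
  have hv₀A : v₀ ∈ A := (Finset.mem_filter.1 (Finset.mem_filter.1 hv₀).1).2
  have hv₀R : R v₀ = c := (Finset.mem_filter.1 hv₀).2
  let C : Finset U := As \ B
  have hcov : As ⊆ C ∪ C.image (fun x => x - v₀) ∪ C.image (fun x => x - (2 : F) • v₀) := by
    intro x hx
    have hxA : x ∈ A := (Finset.mem_filter.1 hx).2
    have hinC : ∀ y, y ∈ A → R y ≠ c → y ∈ C := fun y hy hR => Finset.mem_sdiff.2
      ⟨Finset.mem_filter.2 ⟨Finset.mem_univ _, hy⟩, fun hB => hR (Finset.mem_filter.1 hB).2⟩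
    simp only [Finset.mem_union, Finset.mem_image]
    by_cases h0 : R x = c
    · by_cases h1 : R (x + v₀) = c
      · refine Or.inr ⟨x + (2 : F) • v₀, hinC _ (add_mem hxA ?_) fun h2 => hc ?_, by abel⟩
        · rw [two_smul]
          exact add_mem hv₀A hv₀A
        · rw [QuadraticMap.map_add R, h0, hv₀R] at h1
          rw [Q_comb1, h0, hv₀R] at h2
          linear_combination 2 * h1 - h2 + c * h3
      · exact Or.inl (Or.inr ⟨x + v₀, hinC _ (add_mem hxA hv₀A) h1, by abel⟩)
    · exact Or.inl (Or.inl (hinC x hxA h0))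
  have h1 : As.card ≤ C.card + C.card + C.card :=
    (Finset.card_le_card hcov).trans ((Finset.card_union_le _ _).trans (Nat.add_le_add
      ((Finset.card_union_le _ _).trans (Nat.add_le_add_left Finset.card_image_le _))
      Finset.card_image_le))
  have h2 : C.card + B.card = As.card :=
    Finset.card_sdiff_add_card_eq_card (Finset.filter_subset _ _)
  omega

include hlt

omit hχ hlt in
theorem siegel_pow {u b : U} (hu : R u = 0) (hb : polar R u b = 0) (i : ℕ) :
    siegel R u b hu hb ^ i =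
      siegel R u ((i : F) • b) hu (by rw [polar_smul_right, hb, smul_zero]) := by
  induction i with
  | zero =>
    rw [pow_zero, ← siegel_zero (Q := R) hu]
    exact siegel_congr _ _ _ _ rfl (by simp)
  | succ i ih =>
    rw [pow_succ, ih, siegel_mul]
    exact siegel_congr _ _ _ _ rfl (by push_cast; module)

/-- Siegel elements fixing `a` fix every orbit whose annihilator contains `a`. -/
theorem siegel_fix_orbs (hq : 3 ≤ Nat.card F) {a : U} (ha : R a ≠ 0) {o : Orb R Ω}
    (ho : a ∈ oA χ o) {u b : U} (hu : R u = 0) (hub : polar R u b = 0) (hua : polar R u a = 0)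
    (hba : polar R b a = 0) :
    mkL R (siegel_mem (Q := R) hu hub) • o = o := by
  classical
  cases nonempty_fintype F
  set p := ringChar F
  have hp : p.Prime := CharP.char_is_prime F p
  have : Fact p.Prime := ⟨hp⟩
  have hm : (orbsWith (R := R) (Ω := Ω) χ a).card < p := by
    have h1 := orbsWith_mul_le' H χ hχ (Ω := Ω) ha
    rcases Nat.lt_or_ge (Nat.card F) 4 with h4 | h4
    · have hq3 : Nat.card F = 3 := by omega
      have hp3 : p = 3 := by
        have h0 := FiniteField.cast_card_eq_zero F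
        rw [← Nat.card_eq_fintype_card, hq3] at h0
        exact (Nat.prime_dvd_prime_iff_eq hp Nat.prime_three).1 ((ringChar.spec F 3).1 h0)
      have h2 := orbsWith_mul_le H χ hχ (Ω := Ω) ha 3 2 fun o => by
        have e : Nat.card {v : U // v ∈ cls R a ∧ v ∈ oA χ o} ≤
            Nat.card {v : U // R v = R a ∧ v ∈ oA χ o} := by
          refine Nat.card_le_card_of_injective (fun v => ⟨v.1, ?_, v.2.2⟩)
            fun v w h => Subtype.ext (congrArg Subtype.val h :)
          obtain ⟨s, hs, hR⟩ := v.2.1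
          have hss : s * s = 1 := by
            have := FiniteField.pow_card_sub_one_eq_one s hs
            rw [← Nat.card_eq_fintype_card, hq3] at this
            rw [← pow_two]; exact this
          rw [hR, hss, one_mul]
        exact le_trans (Nat.mul_le_mul_right _ e) (card_level_three H hq3 _ ha)
      have h5 := H.h3 hq3
      rw [hp3]
      by_contra hcon
      push Not at hcon
      have h6 : 3 * H.cl * 3 ≤ Nat.card Ω * 2 :=
        le_trans (Nat.mul_le_mul_right _ (Nat.mul_le_mul_right _ hcon)) h2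
      omega
    · refine Nat.lt_of_mul_lt_mul_right (lt_of_le_of_lt h1 (lt_of_lt_of_le hlt (H.hp h4)))
  set k := mkL R (siegel_mem (Q := R) hu hub)
  have hkp : k ^ p = 1 := by
    have hs : siegel R u b hu hub ^ p = 1 := by
      rw [siegel_pow H, ← siegel_zero (Q := R) hu]
      exact siegel_congr _ _ _ _ rfl (by rw [CharP.cast_eq_zero, zero_smul])
    refine Subtype.ext (Subtype.ext ?_)
    simp only [SubmonoidClass.coe_pow, OneMemClass.coe_one]
    rw [mkL_coe, ← map_pow, hs, map_one]
  have hinv : ∀ i : ℕ, k ^ i • o ∈ orbsWith (R := R) (Ω := Ω) χ a := by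
    intro i
    induction i with
    | zero => rw [pow_zero, one_smul, mem_orbsWith]; exact ho
    | succ i ih =>
      rw [pow_succ', mul_smul, mem_orbsWith]
      rw [mem_orbsWith] at ih
      have h := (oA_mkL χ (siegel_mem (Q := R) hu hub) (k ^ i • o) a).2 ih
      rwa [siegel_fix hu hub (by rw [polar_comm]; exact hua) (by rw [polar_comm]; exact hba)] at h
  have hdvd : MulAction.period k o ∣ p :=
    MulAction.pow_smul_eq_iff_period_dvd.1 (by rw [hkp, one_smul])
  rcases hp.eq_one_or_self_of_dvd _ hdvd with h1 | h1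
  · have h := MulAction.pow_period_smul k o
    rwa [h1, pow_one] at h
  · exfalso
    have hinj : Function.Injective fun i : Fin p =>
        (⟨k ^ (i : ℕ) • o, hinv i⟩ : orbsWith (R := R) (Ω := Ω) χ a) := by
      have key : ∀ i j : Fin p, (i : ℕ) ≤ j → k ^ (i : ℕ) • o = k ^ (j : ℕ) • o → i = j := by
        intro i j hij e
        have e' : k ^ ((j : ℕ) - i) • o = o := by
          refine smul_left_cancel (k ^ (i : ℕ)) ?_
          rw [← mul_smul, ← pow_add, Nat.add_sub_cancel' hij, ← e]
        have := MulAction.pow_smul_eq_iff_period_dvd.1 e'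
        rw [h1] at this
        have h2 := Nat.eq_zero_of_dvd_of_lt this (by omega)
        exact Fin.ext (by omega)
      intro i j e
      rcases le_total (i : ℕ) j with h | h
      · exact key i j h (congrArg Subtype.val e)
      · exact (key j i h (congrArg Subtype.val e).symm).symm
    have h3 := Nat.card_le_card_of_injective _ hinj
    rw [Nat.card_fin, Nat.card_eq_fintype_card, Fintype.card_coe] at h3
    omega

/-- Orbits with small stabiliser cover every vector equivalent to one of their parameters. -/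
theorem false_of_small_oR {o : Orb R Ω} {r : U} (hr : r ∈ oR o) (hr0 : r ≠ 0) (B A₀ : ℕ)
    (hB : Nat.card (oR o) ≤ B) (hA : A₀ ≤ Nat.card (oA χ o))
    (hbig : ∀ M, Nat.card (sing R) ≤ M → (R r ≠ 0 → H.cl ≤ M) →
      Nat.card (Pts R) * (B - 1) ≤ M * A₀) : False := by
  classical
  cases nonempty_fintype U
  let C : Finset U := if R r = 0 then Finset.univ.filter (fun v => v ∈ sing R)
    else Finset.univ.filter (fun v => v ∈ cls R r)
  let s : Finset (Orb R Ω) := Finset.univ.filter fun o' =>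
    Nat.card (oR o') ≤ B ∧ A₀ ≤ Nat.card (oA χ o')
  have hmem : ∀ k : levG R, k • o ∈ s := fun k => Finset.mem_filter.2
    ⟨Finset.mem_univ _, by rw [card_oR_smul]; exact hB, by rw [card_oA_smul χ]; exact hA⟩
  have hcov : C ⊆ s.biUnion fun o' => Finset.univ.filter fun v => v ∈ oR o' ∧ v ≠ 0 := by
    intro v hv
    obtain ⟨k, hk, hv0⟩ : ∃ k : levG R, v ∈ oR (k • o) ∧ v ≠ 0 := by
      by_cases h0 : R r = 0
      · rw [show C = _ from if_pos h0] at hv
        obtain ⟨-, hv0, hvQ⟩ := Finset.mem_filter.1 hv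
        obtain ⟨h, hh, rfl⟩ := level_trans H.hnd H.P hr0 hv0 (h0.trans hvQ.symm)
        exact ⟨mkL R hh, (oR_mkL hh o r).2 hr, hv0⟩
      · rw [show C = _ from if_neg h0] at hv
        obtain ⟨-, t, ht, hR⟩ := Finset.mem_filter.1 hv
        obtain ⟨l, h, hm, rfl⟩ := exists_levO_map H.hnd H.P h0 ht hR
        refine ⟨mkLev R l h hm, (oR_mkLev l h hm o r).2 hr, fun e => ?_⟩
        rw [e, QuadraticMap.map_zero] at hR
        exact mul_ne_zero (mul_ne_zero ht ht) h0 hR.symm
    exact Finset.mem_biUnion.2 ⟨_, hmem k, Finset.mem_filter.2 ⟨Finset.mem_univ _, hk, hv0⟩⟩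
  have h1 : C.card ≤ s.card * (B - 1) := by
    refine (Finset.card_le_card hcov).trans (Finset.card_biUnion_le_card_mul _ _ _ fun o' ho' => ?_)
    obtain ⟨-, hB', -⟩ := Finset.mem_filter.1 ho'
    refine Nat.le_sub_one_of_lt (lt_of_lt_of_le ?_ hB')
    rw [Nat.card_eq_fintype_card, Fintype.card_subtype]
    exact Finset.card_lt_card ⟨fun v hv => by simp_all, fun h => by
      have := h (show (0 : U) ∈ Finset.univ.filter (fun v => v ∈ oR o') by simp)
      simp at this⟩
  have h2 : s.card * A₀ ≤ Nat.card Ω := by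
    refine le_trans ?_ (sum_le H.hnd χ hχ s)
    rw [← smul_eq_mul]
    exact Finset.card_nsmul_le_sum _ _ _ fun o' ho' => (Finset.mem_filter.1 ho').2.2
  have hM := hbig C.card (by
      by_cases h0 : R r = 0
      · rw [show C = _ from if_pos h0, Nat.card_eq_fintype_card]
        exact (Fintype.card_subtype _).le
      · rw [show C = _ from if_neg h0]
        refine le_trans H.hS.le (le_trans (H.hcl r h0) ?_)
        rw [Nat.card_eq_fintype_card]
        exact (Fintype.card_subtype _).le)
    (fun h0 => by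
      rw [show C = _ from if_neg h0]
      refine le_trans (H.hcl r h0) ?_
      rw [Nat.card_eq_fintype_card]
      exact (Fintype.card_subtype _).le)
  have h3 : Nat.card (Pts R) * (B - 1) ≤ Nat.card Ω * (B - 1) :=
    calc Nat.card (Pts R) * (B - 1) ≤ C.card * A₀ := hM
      _ ≤ s.card * (B - 1) * A₀ := Nat.mul_le_mul_right _ h1
      _ = s.card * A₀ * (B - 1) := by ring
      _ ≤ _ := Nat.mul_le_mul_right _ h2
  have hB1 : 0 < B - 1 := by
    have : 1 < Nat.card (oR o) :=
      Finite.one_lt_card_iff_nontrivial.2 ⟨⟨⟨r, hr⟩, 0, fun e => hr0 (congrArg Subtype.val e)⟩⟩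
    omega
  have := Nat.le_of_mul_le_mul_right h3 hB1
  omega

omit hlt hχ in
theorem exists_r_of_ne_top {o : Orb R Ω} (hχ : χ ≠ 1) (htop : oA χ o ≠ ⊤) :
    ∃ r ∈ oR o, r ≠ 0 := by
  by_contra hcon
  push Not at hcon
  refine htop (AddSubgroup.eq_top_of_card_eq _ ?_)
  have e : oR o = ⊥ := (AddSubgroup.eq_bot_iff_forall _).2 hcon
  have h := card_oA H.hnd χ hχ o
  rw [e, AddSubgroup.card_bot, mul_one] at h
  exact h

theorem class_two_aux {hF2 : Nat.card F = 2} {a : U} (ha : R a ≠ 0) :
    (∀ c : F, c = 0 ∨ c = 1) ∧ (orbsWith (R := R) (Ω := Ω) χ a).card ≤ 3 ∧ (1 : F) + 1 = 0 ∧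
      polar R a a = 0 ∧ R a = 1 := by
  have hF : ∀ c : F, c = 0 ∨ c = 1 := by
    obtain ⟨x, y, hxy, huniv⟩ := Nat.card_eq_two_iff.1 hF2
    intro c
    have hmem : ∀ z : F, z = x ∨ z = y := fun z => by
      have : z ∈ ({x, y} : Set F) := by rw [huniv]; trivial
      simpa using this
    rcases hmem c with rfl | rfl <;> rcases hmem 0 with h0 | h0 <;> rcases hmem 1 with h1 | h1 <;>
      first
        | exact Or.inl h0.symm
        | exact Or.inr h1.symm
        | exact absurd (h0.trans h1.symm) zero_ne_one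
  obtain ⟨hN6, h4, hbig⟩ := H.h2 hF2
  have hm : (orbsWith (R := R) (Ω := Ω) χ a).card ≤ 3 := by
    have h1 := orbsWith_mul_le' H χ hχ (Ω := Ω) ha
    have : (orbsWith (R := R) (Ω := Ω) χ a).card * H.cl < 4 * H.cl := by omega
    have := Nat.lt_of_mul_lt_mul_right this
    omega
  have h11 : (1 : F) + 1 = 0 := (hF _).resolve_right (by simp)
  have haa : polar R a a = 0 := by
    rw [polar_self', show (2 : F) = 1 + 1 by ring, h11, zero_mul]
  have hRa : R a = 1 := (hF _).resolve_left ha
  exact ⟨hF, hm, h11, haa, hRa⟩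

/-- Two elements, with a second vector orthogonal to `a`. -/
theorem class_two_perp (hF2 : Nat.card F = 2) {o : Orb R Ω} {a z₁ r : U} (ha : R a ≠ 0)
    (hao : a ∈ oA χ o) (hr : r ∈ oR o) (hr0 : r ≠ 0) (hz₁A : z₁ ∈ oA χ o)
    (hz₁a : polar R z₁ a = 0) (hz₁0 : z₁ ≠ 0) (hz₁ne : z₁ ≠ a) : False := by
  classical
  cases nonempty_fintype U
  have ha0 : a ≠ 0 := fun h => ha (by rw [h, QuadraticMap.map_zero])
  have hN := H.hN
  obtain ⟨hN6, h4, hbig⟩ := H.h2 hF2
  obtain ⟨hF, hm, h11, haa, hRa⟩ :=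
    class_two_aux H χ hχ hlt (Ω := Ω) (hF2 := hF2) ha
  obtain ⟨z, hzA, hza, hz0, hzQ⟩ : ∃ z ∈ oA χ o, polar R z a = 0 ∧ z ≠ 0 ∧ R z = 0 := by
    rcases hF (R z₁) with h0 | h0
    · exact ⟨z₁, hz₁A, hz₁a, hz₁0, h0⟩
    · refine ⟨z₁ + a, add_mem hz₁A hao, by simp [hz₁a, haa], fun e => hz₁ne ?_, ?_⟩
      · have hn : -a = a := by
          rw [← neg_one_smul F a, show (-1 : F) = 1 by linear_combination -h11, one_smul]
        rw [eq_neg_of_add_eq_zero_left e, hn]
      · rw [QuadraticMap.map_add R, h0, hRa, hz₁a, add_zero, h11]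
  -- the singular vectors orthogonal to `a`
  let Z0 : Finset U := Finset.univ.filter fun v => R v = 0 ∧ polar R v a = 0
  let ZA : Orb R Ω → Finset U := fun o' => Z0.filter fun v => v ∈ oA χ o'
  set b := (ZA o).card
  have hcov : Z0.erase 0 ⊆ ((orbsWith (R := R) (Ω := Ω) χ a).filter
      fun o' => (ZA o').card = b).biUnion fun o' => (ZA o').erase 0 := by
    intro v hv
    obtain ⟨hv0, hvZ⟩ := Finset.mem_erase.1 hv
    obtain ⟨hvQ, hva⟩ := (Finset.mem_filter.1 hvZ).2
    obtain ⟨h, hh, hha, hhz⟩ := singular_perp_trans H.hnd hF ha hz0 hv0 hzQ hvQ hza hva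
    refine Finset.mem_biUnion.2 ⟨mkL R hh • o, Finset.mem_filter.2 ⟨?_, ?_⟩,
      Finset.mem_erase.2 ⟨hv0, Finset.mem_filter.2 ⟨hvZ, ?_⟩⟩⟩
    · rw [mem_orbsWith, ← hha, oA_mkL]
      exact hao
    · refine (Finset.card_bij (fun w _ => h.1 w) (fun w hw => ?_)
        (fun w _ w' _ e => h.1.injective e) fun w hw => ⟨(h⁻¹).1 w, ?_, self_apply_inv h w⟩).symm
      · simp only [ZA, Z0, Finset.mem_filter, Finset.mem_univ, true_and] at hw ⊢
        rw [orth_Q, oA_mkL, ← hha, orth_polar]
        exact hw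
      · simp only [ZA, Z0, Finset.mem_filter, Finset.mem_univ, true_and] at hw ⊢
        rw [orth_Q, ← oA_mkL χ hh, self_apply_inv, ← orth_polar h, self_apply_inv, hha]
        exact hw
    · rw [← hhz, oA_mkL]
      exact hzA
  have h0Z : (0 : U) ∈ Z0 := by simp [Z0]
  have hZcard : 2 * Z0.card = 2 ^ (finrank F U - 1) := by
    rw [← card_zeros_perp H.hnd hF ha, Nat.card_eq_fintype_card, Fintype.card_subtype]
  have h1 : Z0.card - 1 ≤ 3 * (b - 1) := by
    rw [← Finset.card_erase_of_mem h0Z]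
    refine (Finset.card_le_card hcov).trans ((Finset.card_biUnion_le_card_mul _ _ (b - 1)
      fun o' ho' => ?_).trans (Nat.mul_le_mul_right _ ((Finset.card_filter_le _ _).trans hm)))
    rw [Finset.card_erase_of_mem (Finset.mem_filter.2 ⟨h0Z, zero_mem _⟩),
      (Finset.mem_filter.1 ho').2]
  let K : AddSubgroup U := oA χ o ⊓ (perp R a).toAddSubgroup
  have hK : Nat.card K = b + b := by
    rw [Nat.card_eq_fintype_card, Fintype.card_subtype]
    have e : (Finset.univ.filter fun v : U => v ∈ K) = ZA o ∪ (ZA o).image (· + a) := by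
      ext v
      simp only [K, ZA, Z0, Finset.mem_filter, Finset.mem_univ, true_and, Finset.mem_union,
        Finset.mem_image, AddSubgroup.mem_inf, Submodule.mem_toAddSubgroup, mem_perp]
      constructor
      · rintro ⟨hvA, hva⟩
        rcases hF (R v) with h0 | h0
        · exact Or.inl ⟨⟨h0, hva⟩, hvA⟩
        · refine Or.inr ⟨v - a, ⟨⟨?_, by simp [polar_sub_left, hva, haa]⟩, sub_mem hvA hao⟩,
            sub_add_cancel v a⟩
          rw [sub_eq_add_neg, QuadraticMap.map_add R, QuadraticMap.map_neg, h0, hRa,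
            polar_neg_right, hva, neg_zero, add_zero, h11]
      · rintro (⟨⟨-, hva⟩, hvA⟩ | ⟨w, ⟨⟨-, hwa⟩, hwA⟩, rfl⟩)
        · exact ⟨hvA, hva⟩
        · exact ⟨add_mem hwA hao, by simp [hwa, haa]⟩
    rw [e, Finset.card_union_of_disjoint, Finset.card_image_of_injective _
      (add_left_injective a)]
    rw [Finset.disjoint_left]
    rintro v hv hv'
    obtain ⟨w, hw, rfl⟩ := Finset.mem_image.1 hv'
    simp only [ZA, Z0, Finset.mem_filter, Finset.mem_univ, true_and] at hv hw
    rw [QuadraticMap.map_add R, hw.1.1, hw.1.2, hRa, zero_add, add_zero] at hv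
    exact one_ne_zero hv.1.1
  obtain ⟨j, hj, hjK⟩ : ∃ j ≤ finrank F U, Nat.card K = 2 ^ j := by
    refine (Nat.dvd_prime_pow Nat.prime_two).1 ?_
    rw [← hF2, ← card_univ_eq (F := F)]
    exact AddSubgroup.card_addSubgroup_dvd_card K
  obtain ⟨N, hN'⟩ : ∃ N, finrank F U = N + 4 := ⟨finrank F U - 4, by omega⟩
  rw [show finrank F U - 1 = N + 3 by omega, pow_add] at hZcard
  have hK1 : 2 * b = 2 ^ j := by rw [← hjK, hK]; ring
  have h2N := Nat.one_le_two_pow (n := N)
  have hj2 : N + 2 ≤ j := by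
    by_contra hcon
    push Not at hcon
    have : 2 ^ j ≤ 2 ^ (N + 1) := Nat.pow_le_pow_right (by omega) (by omega)
    rw [pow_add] at this
    omega
  have hA0 : 2 ^ (N + 2) ≤ Nat.card (oA χ o) := by
    refine le_trans (Nat.pow_le_pow_right (by omega) hj2) ?_
    rw [← hjK]
    exact AddSubgroup.card_le_of_le inf_le_left
  have hR4 : Nat.card (oR o) ≤ 4 := by
    have h := card_oA H.hnd χ hχ o
    rw [card_univ_eq (F := F) (U := U), hF2, hN', show N + 4 = (N + 2) + 2 by omega, pow_add] at h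
    exact Nat.le_of_mul_le_mul_left
      (calc 2 ^ (N + 2) * Nat.card (oR o) ≤ Nat.card (oA χ o) * Nat.card (oR o) :=
              Nat.mul_le_mul_right _ hA0
        _ = _ := h) (by positivity)
  refine false_of_small_oR H χ hχ hlt hr hr0 4 (2 ^ (N + 2)) hR4 hA0 fun M hM _ => ?_
  rw [show finrank F U - 2 = N + 2 by omega] at hbig
  calc Nat.card (Pts R) * (4 - 1) = 3 * Nat.card (Pts R) := by ring
    _ ≤ _ := hbig
    _ ≤ _ := Nat.mul_le_mul_right _ hM

/-- Two elements, without a second vector orthogonal to `a`. -/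
theorem class_two_no_perp (hF2 : Nat.card F = 2) {o : Orb R Ω} {a y u₀ : U} (ha : R a ≠ 0)
    (hao : a ∈ oA χ o) (hyA : y ∈ oA χ o) (hy : ∀ c : F, y ≠ c • a) (hu₀ : R u₀ = 0)
    (hu₀a : polar R u₀ a = 0) (hu₀i : ∀ c : F, c • a ≠ u₀)
    (hz : ∀ z ∈ oA χ o, polar R z a = 0 → z ≠ 0 → z = a) : False := by
  classical
  cases nonempty_fintype U
  have ha0 : a ≠ 0 := fun h => ha (by rw [h, QuadraticMap.map_zero])
  have hN := H.hN
  obtain ⟨hN6, h4, hbig⟩ := H.h2 hF2
  obtain ⟨hF, hm, h11, haa, hRa⟩ :=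
    class_two_aux H χ hχ hlt (Ω := Ω) (hF2 := hF2) ha
  have hyne : y ≠ 0 ∧ y ≠ a :=
    ⟨fun e => hy 0 (by rw [e, zero_smul]), fun e => hy 1 (by rw [e, one_smul])⟩
  obtain ⟨u, hu, hua, huy⟩ := exists_singular_sep H.hnd ha0 hu₀ hu₀a hu₀i hy
  let Φ : U →ₗ[F] F × F := ((polarBilin R).flip u).prod ((polarBilin R).flip a)
  have hΦ : ∀ b, b ∈ LinearMap.ker Φ ↔ polar R b u = 0 ∧ polar R b a = 0 := fun b => by
    simp [Φ]
  have hdim : finrank F U ≤ finrank F (LinearMap.ker Φ) + 2 := by
    have h := LinearMap.finrank_range_add_finrank_ker Φ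
    have h2 := Submodule.finrank_le (LinearMap.range Φ)
    rw [Module.finrank_prod, finrank_self] at h2
    omega
  have hsmall : ∀ o' : Orb R Ω, Nat.card (oA χ o') ≤ 4 → a ∈ oA χ o' →
      ((Finset.univ.filter fun v => v ∈ oA χ o') \ {0, a}).card ≤ 2 := by
    intro o' h4' ha'
    rw [Finset.card_sdiff_of_subset (fun v hv => by
      simp only [Finset.mem_insert, Finset.mem_singleton] at hv
      rcases hv with rfl | rfl <;> simp [ha']), Finset.card_pair ha0.symm,
      ← Fintype.card_subtype, ← Nat.card_eq_fintype_card]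
    have e : Nat.card {v // v ∈ oA χ o'} = Nat.card (oA χ o') := rfl
    omega
  have hA4 : Nat.card (oA χ o) ≤ 4 := by
    have hsub : (Finset.univ.filter fun v => v ∈ oA χ o) ⊆ ({0, a, y, y + a} : Finset U) := by
      intro x hx
      have hxA : x ∈ oA χ o := (Finset.mem_filter.1 hx).2
      simp only [Finset.mem_insert, Finset.mem_singleton]
      rcases hF (polar R x a) with h | h
      · by_cases h0 : x = 0
        · exact Or.inl h0
        · exact Or.inr (Or.inl (hz x hxA h h0))
      · have hy1 : polar R y a = 1 := (hF _).resolve_left fun h0 => hyne.2 (hz y hyA h0 hyne.1)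
        by_cases h0 : x - y = 0
        · exact Or.inr (Or.inr (Or.inl (sub_eq_zero.1 h0)))
        · have := hz _ (sub_mem hxA hyA) (by rw [polar_sub_left, h, hy1, sub_self]) h0
          exact Or.inr (Or.inr (Or.inr (by rw [← this]; abel)))
    refine le_trans ?_ ((Finset.card_le_card hsub).trans Finset.card_le_four)
    rw [Nat.card_eq_fintype_card]
    exact (Fintype.card_subtype _).le
  let T : Finset U := (((orbsWith (R := R) (Ω := Ω) χ a).filter
    fun o' => Nat.card (oA χ o') ≤ 4)).biUnion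
    fun o' => (Finset.univ.filter fun v => v ∈ oA χ o') \ {0, a}
  have hT : T.card ≤ 3 * 2 :=
    (Finset.card_biUnion_le_card_mul _ _ 2 fun o' ho' =>
      hsmall o' (Finset.mem_filter.1 ho').2 ((mem_orbsWith χ).1 (Finset.mem_filter.1 ho').1)).trans
      (Nat.mul_le_mul_right _ ((Finset.card_filter_le _ _).trans hm))
  have hyu : polar R y u = 1 := (hF _).resolve_left (by rw [polar_comm]; exact huy)
  let f : U → U := fun b => y + b + (-(polar R y b) - R b) • u
  let K : Finset U := Finset.univ.filter fun b => b ∈ LinearMap.ker Φ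
  have hfT : ∀ b ∈ K, f b ∈ T := by
    intro b hb
    obtain ⟨hbu, hba⟩ := (hΦ b).1 (Finset.mem_filter.1 hb).2
    have hub : polar R u b = 0 := by rw [polar_comm]; exact hbu
    have hsy : (siegel R u b hu hub).1 y = f b := by
      simp [siegel_apply, f, hyu]
    have hsa : (siegel R u b hu hub).1 a = a :=
      siegel_fix hu hub (by rw [polar_comm]; exact hua) (by rw [polar_comm]; exact hba)
    refine Finset.mem_biUnion.2 ⟨mkL R (siegel_mem (Q := R) hu hub) • o,
      Finset.mem_filter.2 ⟨?_, by rw [card_oA_smul χ]; exact hA4⟩,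
      Finset.mem_sdiff.2 ⟨Finset.mem_filter.2 ⟨Finset.mem_univ _, ?_⟩, ?_⟩⟩
    · rw [mem_orbsWith, ← hsa, oA_mkL]
      exact hao
    · rw [← hsy, oA_mkL]
      exact hyA
    · simp only [Finset.mem_insert, Finset.mem_singleton, not_or]
      exact ⟨fun e => hyne.1 ((LinearEquiv.map_eq_zero_iff _).1 (hsy.trans e)),
        fun e => hyne.2 ((siegel R u b hu hub).1.injective (hsy.trans (e.trans hsa.symm)))⟩
  have hKle : K.card ≤ 2 * T.card := by
    refine Finset.card_le_mul_card_image_of_maps_to hfT 2 fun w _ => ?_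
    rcases Finset.eq_empty_or_nonempty (K.filter fun b => f b = w) with he | ⟨b₀, hb₀⟩
    · simp [he]
    refine (Finset.card_le_card (t := ({b₀, b₀ + u} : Finset U)) fun b hb => ?_).trans
      Finset.card_le_two
    have e : f b = f b₀ := (Finset.mem_filter.1 hb).2.trans (Finset.mem_filter.1 hb₀).2.symm
    set t := (-(polar R y b₀) - R b₀) - (-(polar R y b) - R b)
    have e' : b = b₀ + t • u := by
      rw [eq_comm, ← sub_eq_zero] at e ⊢
      rw [← e]
      simp only [f, t]
      module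
    rcases hF t with ht | ht
    · simp [e', ht]
    · simp [e', ht]
  have hKge : 2 ^ (finrank F U - 2) ≤ K.card := by
    rw [show K.card = Nat.card (LinearMap.ker Φ) by
      rw [Nat.card_eq_fintype_card]; exact (Fintype.card_subtype _).symm,
      Module.natCard_eq_pow_finrank (K := F), hF2]
    exact Nat.pow_le_pow_right (by omega) (by omega)
  have h16 : 2 ^ 4 ≤ 2 ^ (finrank F U - 2) := Nat.pow_le_pow_right (by omega) (by omega)
  omega

/-- At least three elements. -/
theorem class_three (hq : 3 ≤ Nat.card F) {o : Orb R Ω} {a y r u₀ : U} (ha : R a ≠ 0)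
    (hao : a ∈ oA χ o) (hr : r ∈ oR o) (hr0 : r ≠ 0) (hyA : y ∈ oA χ o)
    (hy : ∀ c : F, y ≠ c • a) (hu₀ : R u₀ = 0) (hu₀a : polar R u₀ a = 0)
    (hu₀i : ∀ c : F, c • a ≠ u₀) : False := by
  have ha0 : a ≠ 0 := fun h => ha (by rw [h, QuadraticMap.map_zero])
  have hN := H.hN
  have hn := H.two_le_n
  have hinv : ∀ {u b x : U} (hu : R u = 0) (hub : polar R u b = 0), polar R u a = 0 →
      polar R b a = 0 → x ∈ oA χ o → (siegel R u b hu hub).1 x ∈ oA χ o := by
    intro u b x hu hub hua hba hx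
    have := (oA_mkL χ (siegel_mem (Q := R) hu hub) o x).2 hx
    rwa [siegel_fix_orbs H χ hχ hlt hq ha hao hu hub hua hba] at this
  have step : ∀ {x u : U}, x ∈ oA χ o → R u = 0 → polar R u a = 0 → polar R x u ≠ 0 →
      ∀ w, polar R w u = 0 → polar R w a = 0 → w ∈ oA χ o := by
    intro x u hx hu hua hxu
    set φ := polar R x u
    let g : U → U := fun b => φ • b + (-(polar R x b) - R b * φ) • u
    have hg : ∀ b, polar R b u = 0 → polar R b a = 0 → g b ∈ oA χ o := by
      intro b hbu hba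
      have hub : polar R u b = 0 := by rw [polar_comm]; exact hbu
      have h := sub_mem (hinv hu hub hua hba hx) hx
      convert h using 1
      rw [siegel_apply]
      simp only [g]
      module
    obtain ⟨b₁, hb₁u, hb₁a, b₂, hb₂u, hb₂a, hb12⟩ : ∃ b₁, polar R b₁ u = 0 ∧ polar R b₁ a = 0 ∧
        ∃ b₂, polar R b₂ u = 0 ∧ polar R b₂ a = 0 ∧ polar R b₁ b₂ ≠ 0 := by
      by_contra hno
      push Not at hno
      let Φ : U →ₗ[F] F × F := ((polarBilin R).flip u).prod ((polarBilin R).flip a)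
      have hΦ : ∀ b, b ∈ LinearMap.ker Φ ↔ polar R b u = 0 ∧ polar R b a = 0 := fun b => by
        simp [Φ]
      let Ψ : U →ₗ[F] (LinearMap.ker Φ →ₗ[F] F) :=
        (LinearMap.lcomp F F (LinearMap.ker Φ).subtype).comp (polarBilin R)
      have hsurj : LinearMap.range Ψ = ⊤ := by
        refine LinearMap.range_eq_top.2 fun φ => ?_
        obtain ⟨g, hg⟩ := LinearMap.exists_extend φ
        obtain ⟨z, hz⟩ := exists_polar H.hnd g
        exact ⟨z, LinearMap.ext fun b => by rw [← hg]; exact hz _⟩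
      have hle : LinearMap.ker Φ ≤ LinearMap.ker Ψ := fun b hb => LinearMap.ext fun b' =>
        hno b ((hΦ b).1 hb).1 ((hΦ b).1 hb).2 b'.1 ((hΦ b'.1).1 b'.2).1 ((hΦ b'.1).1 b'.2).2
      have h1 := LinearMap.finrank_range_add_finrank_ker Ψ
      rw [hsurj, finrank_top, Subspace.dual_finrank_eq] at h1
      have h2 := Submodule.finrank_mono hle
      have h := LinearMap.finrank_range_add_finrank_ker Φ
      have h3 := Submodule.finrank_le (LinearMap.range Φ)
      rw [Module.finrank_prod, finrank_self] at h3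
      omega
    have hFu : ∀ c : F, c • u ∈ oA χ o := by
      intro c
      set t := -c / (φ * polar R b₁ b₂)
      have h1 := hg (t • b₁ + b₂) (by simp [hb₁u, hb₂u]) (by simp [hb₁a, hb₂a])
      have h2 := hg (t • b₁) (by simp [hb₁u]) (by simp [hb₁a])
      have h3 := hg b₂ hb₂u hb₂a
      convert sub_mem h1 (add_mem h2 h3) using 1
      simp only [g, polar_add_right, polar_smul_right, QuadraticMap.map_smul, smul_eq_mul,
        QuadraticMap.map_add R, polar_smul_left]
      have hφ : polar R x u ≠ 0 := hxu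
      match_scalars <;> simp only [φ, t] <;> field_simp <;> ring
    intro w hwu hwa
    have h1 := hg (φ⁻¹ • w) (by simp [hwu]) (by simp [hwa])
    have h2 := sub_mem h1 (hFu (-(polar R x (φ⁻¹ • w)) - R (φ⁻¹ • w) * φ))
    convert h2 using 1
    simp only [g]
    rw [add_sub_cancel_right, smul_smul, mul_inv_cancel₀ hxu, one_smul]
  obtain ⟨u, hu, hua, huy⟩ := exists_singular_sep H.hnd ha0 hu₀ hu₀a hu₀i hy
  have hs1 := step hyA hu hua (by rw [polar_comm]; exact huy)
  have huo : u ∈ oA χ o := hs1 u (polar_singular_self hu) hua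
  obtain ⟨c₀, hc1, hc2⟩ := exists_polar_pair H.hnd (not_smul_eq_of_indep ha0 (fun c hc => huy (by
    have hc' : R (c • a) = 0 := by rw [hc, hu]
    rw [QuadraticMap.map_smul, smul_eq_mul] at hc'
    have hc0 : c = 0 := by simpa [ha] using hc'
    rw [← hc, hc0, zero_smul, polar_zero_left]))) 1 0
  obtain ⟨k1, k2, k3⟩ := sub_smul_singular hu hc1
  set c := c₀ + (-(R c₀)) • u
  have hca : polar R c a = 0 := by
    rw [polar_comm, k3 a (by rw [polar_comm]; exact hua), hc2]
  have hs2 := step huo k1 hca (by rw [k2]; exact one_ne_zero)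
  have hperp : ∀ w, polar R w a = 0 → w ∈ oA χ o := by
    intro w hwa
    have h1 := hs1 (w - polar R w u • c)
      (by rw [polar_sub_left, polar_smul_left, polar_comm R c u, k2]; simp)
      (by rw [polar_sub_left, polar_smul_left, hwa, hca]; simp)
    have h2 := hs2 (polar R w u • c) (by simp [polar_singular_self k1]) (by simp [hca])
    simpa using add_mem h1 h2
  have hRline : ∀ s ∈ oR o, ∃ t : F, s = t • a := by
    intro s hs
    refine eq_smul_of_perp H.hnd ha0 fun x hxa => ?_
    by_contra hxs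
    obtain ⟨d, hd⟩ := AddChar.ne_one_iff.1 hχ
    have h1 := (mem_oR_iff H.hnd χ hχ o s).1 hs ((d / polar R x s) • x)
      (hperp _ (by simp [hxa]))
    rw [polar_smul_left, smul_eq_mul, div_mul_cancel₀ _ hxs] at h1
    exact hd h1
  have hB : Nat.card (oR o) ≤ Nat.card F := by
    choose t ht using hRline
    refine Nat.card_le_card_of_injective (fun s : oR o => t s.1 s.2) fun s s' e => Subtype.ext ?_
    rw [ht s.1 s.2, ht s'.1 s'.2]
    exact congrArg (· • a) e
  have hA : Nat.card F ^ (finrank F U - 1) ≤ Nat.card (oA χ o) := by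
    rw [← card_perp H.hnd ha0]
    exact Nat.card_le_card_of_injective (fun w => ⟨w.1, hperp w.1 (mem_perp.1 w.2)⟩)
      fun w w' e => Subtype.ext (congrArg Subtype.val e :)
  refine false_of_small_oR H χ hχ hlt hr hr0 (Nat.card F) _ hB hA fun M _ hM => ?_
  have hrns : R r ≠ 0 := by
    obtain ⟨t, rfl⟩ := hRline r hr
    rw [QuadraticMap.map_smul, smul_eq_mul]
    have ht : t ≠ 0 := by rintro rfl; simp at hr0
    exact mul_ne_zero (mul_ne_zero ht ht) ha
  have hcl := hM hrns
  have hpow : 5 * (Nat.card F - 1) ≤ Nat.card F ^ (finrank F U - 1) := by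
    have h4 : Nat.card F ^ 4 ≤ Nat.card F ^ (finrank F U - 1) :=
      Nat.pow_le_pow_right (by omega) (by omega)
    have : 5 * Nat.card F ≤ Nat.card F ^ 4 := by
      rw [pow_succ]
      refine Nat.mul_le_mul_right _ ?_
      calc 5 ≤ 3 ^ 3 := by norm_num
        _ ≤ _ := Nat.pow_le_pow_left hq 3
    omega
  calc Nat.card (Pts R) * (Nat.card F - 1) ≤ 5 * H.cl * (Nat.card F - 1) :=
        Nat.mul_le_mul_right _ H.h5
    _ = H.cl * (5 * (Nat.card F - 1)) := by ring
    _ ≤ _ := Nat.mul_le_mul hcl hpow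

/-- An annihilator with a non-singular vector lies in its line or is everything. -/
theorem nonsingular_class {o : Orb R Ω} {a : U} (ha : R a ≠ 0) (hao : a ∈ oA χ o)
    (htop : oA χ o ≠ ⊤) : ∀ x ∈ oA χ o, ∃ c : F, x = c • a := by
  by_contra hcon
  push Not at hcon
  obtain ⟨y, hyA, hy⟩ := hcon
  obtain ⟨r, hr, hr0⟩ := exists_r_of_ne_top H χ hχ htop
  have ha0 : a ≠ 0 := fun h => ha (by rw [h, QuadraticMap.map_zero])
  obtain ⟨u₀, -, hu₀, hu₀a, hu₀i⟩ := exists_singular_perp H.hnd H.P ha0
  rcases Nat.lt_or_ge (Nat.card F) 3 with hq | hq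
  · have hq1 := Hyp.one_lt_q (F := F)
    have hF2 : Nat.card F = 2 := by omega
    by_cases hz : ∃ z ∈ oA χ o, polar R z a = 0 ∧ z ≠ 0 ∧ z ≠ a
    · obtain ⟨z, hzA, hza, hz0, hzne⟩ := hz
      exact class_two_perp H χ hχ hlt hF2 ha hao hr hr0 hzA hza hz0 hzne
    · push Not at hz
      exact class_two_no_perp H χ hχ hlt hF2 ha hao hyA hy hu₀ hu₀a hu₀i hz
  · exact class_three H χ hχ hlt hq ha hao hr hr0 hyA hy hu₀ hu₀a hu₀i

end CfsgLib.MinIndexOrth
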