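import Cfsg.Agent.Lib.MinIndexOrth.Hyp

/-!
The singular vectors whose root group fixes a point of a transitive action of small degree.
-/

set_option autoImplicit false
set_option linter.unusedSectionVars false

namespace CfsgLib.MinIndexOrth

open QuadraticMap Module CfsgLib.Classical.Quad

variable {F U : Type*} [Field F] [AddCommGroup U] [Module F U] {R : QuadraticForm F U}
variable {Ω : Type*} [MulAction (siegelGroup (plane R)) Ω]

/-- The singular vectors whose root group fixes `x`. -/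
def Tset (R : QuadraticForm F U) {Ω : Type*} [MulAction (siegelGroup (plane R)) Ω] (x : Ω) :
    Set ((F × F) × U) :=
  {v | v ≠ 0 ∧ plane R v = 0 ∧ ∀ (w : (F × F) × U) (hv : plane R v = 0)
    (hw : polar (plane R) v w = 0),
      (⟨_, siegel_mem hv hw⟩ : siegelGroup (plane R)) • x = x}

theorem Tset_smul_mem {g : siegelGroup (plane R)} {x : Ω} {v : (F × F) × U} (h : v ∈ Tset R x) :
    g.1.1 v ∈ Tset R (g • x) := by
  obtain ⟨h0, hQ, hfix⟩ := h
  refine ⟨orth_ne_zero _ h0, by rw [orth_Q, hQ], fun w hv hw => ?_⟩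
  have hw' : polar (plane R) v ((g.1⁻¹).1 w) = 0 := by
    rw [← orth_polar g.1, self_apply_inv]
    exact hw
  have e : (⟨_, siegel_mem hv hw⟩ : siegelGroup (plane R)) * g = g * ⟨_, siegel_mem hQ hw'⟩ := by
    refine Subtype.ext (mul_inv_eq_iff_eq_mul.1 (?_ : g.1 * siegel (plane R) v _ hQ hw' * g.1⁻¹ =
      siegel (plane R) _ w hv hw)).symm
    rw [siegel_conj]
    exact siegel_congr _ _ _ _ rfl (self_apply_inv _ _)
  rw [← mul_smul, e, mul_smul, hfix _ hQ hw']

theorem Tset_smul_iff {g : siegelGroup (plane R)} {x : Ω} {v : (F × F) × U} :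
    g.1.1 v ∈ Tset R (g • x) ↔ v ∈ Tset R x := by
  refine ⟨fun h => ?_, Tset_smul_mem⟩
  have h1 := Tset_smul_mem (g := g⁻¹) h
  rw [inv_smul_smul] at h1
  rwa [Subgroup.coe_inv, inv_apply_self] at h1

theorem Tset_const_smul {x : Ω} {v : (F × F) × U} {c : F} (hc : c ≠ 0) (h : v ∈ Tset R x) :
    c • v ∈ Tset R x := by
  obtain ⟨h0, hQ, hfix⟩ := h
  refine ⟨smul_ne_zero hc h0, by simp [QuadraticMap.map_smul, hQ], fun w hv hw => ?_⟩
  have hw0 : polar (plane R) v w = 0 := by
    rw [polar_smul_left, smul_eq_mul] at hw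
    exact (mul_eq_zero.1 hw).resolve_left hc
  have hw' : polar (plane R) v (c • w) = 0 := by rw [polar_smul_right, hw0, smul_zero]
  have e : (⟨_, siegel_mem hv hw⟩ : siegelGroup (plane R)) = ⟨_, siegel_mem hQ hw'⟩ :=
    Subtype.ext (siegel_smul_left c hQ hw0)
  rw [e]
  exact hfix _ hQ hw'

theorem eP_mem_Tset_iff {x : Ω} : eP F U ∈ Tset R x ↔ Rs R x = ⊤ := by
  constructor
  · rintro ⟨-, -, hfix⟩
    exact eq_top_iff.2 fun a _ => hfix (iu F a) Q_eP (polar_eP_iu a)
  · intro h
    refine ⟨fun h0 => by simpa [eP] using congrArg (fun v => v.1.1) h0, Q_eP, fun w hv hw => ?_⟩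
    obtain ⟨⟨p, s⟩, a⟩ := w
    have hs : s = 0 := by simpa [polar_plane, eP, polar_zero_left] using hw
    have e : (⟨_, siegel_mem hv hw⟩ : siegelGroup (plane R)) = sgQ R a := by
      apply Subtype.ext
      show siegel _ _ _ hv hw = siegel _ _ _ Q_eP (polar_eP_iu a)
      rw [← siegel_add_smul p Q_eP (polar_eP_iu a)]
      exact siegel_congr _ _ _ _ rfl (by simp [iu, eP, hs])
    rw [e]
    exact mem_Rs.1 (by rw [h]; trivial)

section Small

variable [Finite F] [Finite U] [FiniteDimensional F U] [Finite Ω]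
variable [MulAction.IsPretransitive (siegelGroup (plane R)) Ω] (H : Hyp R) (hne : 1 < Nat.card Ω)

include H hne

/-- No point has two non-orthogonal fixing vectors. -/
theorem Tset_polar {x : Ω} {v v' : (F × F) × U} (hv : v ∈ Tset R x) (hv' : v' ∈ Tset R x) :
    polar (plane R) v v' = 0 := by
  by_contra hne'
  have step : ∀ a b z : (F × F) × U, a ∈ Tset R x → b ∈ Tset R x → polar (plane R) a b ≠ 0 →
      plane R z = 0 → polar (plane R) a z ≠ 0 → z ∈ Tset R x := by
    intro a b z ha hb hab hz haz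
    have hb1 : polar (plane R) a ((polar (plane R) a b)⁻¹ • b) = 1 := by
      rw [polar_smul_right, smul_eq_mul, inv_mul_cancel₀ hab]
    have hz1 : polar (plane R) a ((polar (plane R) a z)⁻¹ • z) = 1 := by
      rw [polar_smul_right, smul_eq_mul, inv_mul_cancel₀ haz]
    obtain ⟨w, hw, hwz⟩ := exists_siegel_partner ha.2.1
      (by simp [QuadraticMap.map_smul, hb.2.1]) (by simp [QuadraticMap.map_smul, hz]) hb1 hz1
    have h1 := Tset_smul_mem (g := ⟨_, siegel_mem ha.2.1 hw⟩)
      (Tset_const_smul (inv_ne_zero hab) hb)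
    rw [ha.2.2 w ha.2.1 hw, hwz] at h1
    have h2 := Tset_const_smul haz h1
    rwa [smul_smul, mul_inv_cancel₀ haz, one_smul] at h2
  have hall : ∀ z : (F × F) × U, z ≠ 0 → plane R z = 0 → z ∈ Tset R x := by
    intro z hz0 hz
    by_cases h : polar (plane R) v z = 0
    · obtain ⟨w, hw, h1, h2⟩ :=
        exists_singular_polar (ndPolar_plane H.hnd) hv.1 hz0 hv.2.1 h
      have hwT := step v v' w hv hv' hne' hw h1
      exact step w v z hwT hv (by rw [polar_comm]; exact h1) hz (by rw [polar_comm]; exact h2)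
    · exact step v v' z hv hv' hne' hz h
  have hstab : MulAction.stabilizer (siegelGroup (plane R)) x = ⊤ := by
    refine eq_top_iff.2 ((Subgroup.closure_closure_coe_preimage (k := siegelSet (plane R))).ge.trans
      ((Subgroup.closure_le _).2 ?_))
    rintro (g : siegelGroup (plane R)) ⟨u, w, hu, hw, hg⟩
    change g • x = x
    by_cases hu0 : u = 0
    · subst hu0
      have e : g = 1 := Subtype.ext (by
        show (g : Orth (plane R)) = 1
        rw [show (g : Orth (plane R)) = _ from hg]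
        exact orth_ext fun z => by simp [siegel_apply])
      rw [e, one_smul]
    · have e : g = ⟨_, siegel_mem hu hw⟩ := Subtype.ext hg
      rw [e]
      exact (hall u hu0 hu).2.2 w hu hw
  have : Subsingleton Ω := ⟨fun a b => by
    obtain ⟨g, rfl⟩ := MulAction.exists_smul_eq (siegelGroup (plane R)) x a
    obtain ⟨g', rfl⟩ := MulAction.exists_smul_eq (siegelGroup (plane R)) x b
    have h1 : g ∈ MulAction.stabilizer (siegelGroup (plane R)) x := by rw [hstab]; trivial
    have h2 : g' ∈ MulAction.stabilizer (siegelGroup (plane R)) x := by rw [hstab]; trivial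
    rw [MulAction.mem_stabilizer_iff.1 h1, MulAction.mem_stabilizer_iff.1 h2]⟩
  have := Nat.card_of_subsingleton x
  omega

variable (hlt : Nat.card Ω < Nat.card (Pts R))

include hlt

/-- The fixing vectors of a point are not collinear. -/
theorem Tset_indep {x : Ω} {v : (F × F) × U} (hv : v ∈ Tset R x) :
    ∃ v' ∈ Tset R x, ∀ c : F, c • v ≠ v' := by
  by_contra hcon
  push Not at hcon
  let v₀ : SingVec (plane R) := ⟨v, hv.1, hv.2.1⟩
  have := isPretransitive_pts H.hnd H.P
  choose g hg using fun y : Ω => MulAction.exists_smul_eq (siegelGroup (plane R)) x y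
  have hsurj : Function.Surjective fun y => (g y) • (⟦v₀⟧ : Pts R) := by
    intro p
    obtain ⟨k, rfl⟩ := MulAction.exists_smul_eq (siegelGroup (plane R)) (⟦v₀⟧ : Pts R) p
    refine ⟨k • x, ?_⟩
    have h1 : ((g (k • x))⁻¹ * k).1.1 v ∈ Tset R x := by
      have := Tset_smul_mem (g := (g (k • x))⁻¹ * k) hv
      rwa [mul_smul, inv_smul_eq_iff.2 (hg (k • x)).symm] at this
    obtain ⟨c, hc⟩ := hcon _ h1
    show g (k • x) • (⟦v₀⟧ : Pts R) = k • ⟦v₀⟧
    rw [eq_comm, ← inv_smul_eq_iff, ← mul_smul, smul_mk_pts]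
    exact (Quotient.sound (a := v₀) (b := singPerm (plane R) ((g (k • x))⁻¹ * k).1 v₀)
      (s := sameLine (plane R)) ⟨c, hc⟩).symm
  exact absurd (Nat.card_le_card_of_surjective _ hsurj) (not_le.2 hlt)

/-- A point with a fixed root group gives a totally singular stabiliser in the radical. -/
theorem exists_singular_Rs {x : Ω} {v : (F × F) × U} (hv : v ∈ Tset R x) :
    ∃ x' : Ω, (∀ a ∈ Rs R x', R a = 0) ∧
      ∃ u : U, u ≠ 0 ∧ (∀ c : F, c • u ∈ Rs R x') := by
  obtain ⟨v', hv', hind⟩ := Tset_indep H hne hlt hv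
  have hvv' := Tset_polar H hne hv hv'
  obtain ⟨z₀, hz1, hz2⟩ := exists_polar_pair (ndPolar_plane H.hnd)
    (not_smul_eq_of_indep hv.1 hind) 0 1
  obtain ⟨k1, k2, k3⟩ := sub_smul_singular (R := plane R) hv.2.1 hz2
  set z := z₀ + (-(plane R z₀)) • v
  have hp : IsHPair (plane R) z v := ⟨k1, hv.2.1, by rw [polar_comm]; exact k2⟩
  obtain ⟨g, hg, hgz, hgv⟩ := siegelGroup_map_hpair (ndPolar_plane H.hnd) (planeFrame H.P) hp
    ⟨Q_eP, Q_eP', polar_eP_eP'⟩
  set g' : siegelGroup (plane R) := ⟨g, hg⟩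
  have hT1 : eP' F U ∈ Tset R (g' • x) := hgv ▸ Tset_smul_mem (g := g') hv
  have hT2 : g.1 v' ∈ Tset R (g' • x) := Tset_smul_mem (g := g') hv'
  have hfz : polar (plane R) (g.1 v') (eP F U) = 0 := by
    rw [← hgz, orth_polar, k3 v' (by rw [polar_comm]; exact hvv'), hz1]
  have hfv : polar (plane R) (g.1 v') (eP' F U) = 0 := by
    rw [← hgv, orth_polar, polar_comm]
    exact hvv'
  obtain ⟨u, hu⟩ : ∃ u, g.1 v' = iu F u := by
    refine ⟨(g.1 v').2, ?_⟩
    generalize g.1 v' = w at hfz hfv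
    obtain ⟨⟨p, s⟩, a⟩ := w
    simp [polar_plane, eP, eP', polar_zero_right] at hfz hfv
    simp [iu, hfz, hfv]
  rw [hu] at hT2
  have hu0 : u ≠ 0 := by
    rintro rfl
    exact hT2.1 (by simp [iu, Prod.ext_iff])
  refine ⟨g' • x, fun a ha => ?_, u, hu0, fun c => ?_⟩
  · have h1 := Tset_smul_mem (g := sgQ R a) hT1
    rw [mem_Rs.1 ha] at h1
    have h2 := Tset_polar H hne h1 hT1
    unfold eP' at h2
    rw [sgQ_apply] at h2
    simpa [polar_plane, polar_zero_right] using h2
  · have hQu : R u = 0 := by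
      have := hT2.2.1
      rwa [Q_iu] at this
    have hw : polar (plane R) (iu F u) ((-c) • eP F U) = 0 := by
      rw [polar_smul_right, polar_comm, polar_eP_iu, smul_zero]
    have e : sgQ R (c • u) = ⟨_, siegel_mem hT2.2.1 hw⟩ := by
      apply Subtype.ext
      refine orth_ext fun z => ?_
      obtain ⟨⟨p, s⟩, a⟩ := z
      rw [sgQ_apply, siegel_apply]
      simp [polar_plane, eP, iu, QuadraticMap.map_smul, hQu, plane_apply, polar_zero_right,
        smul_smul, Prod.ext_iff]
      refine ⟨by ring, ?_⟩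
      ring_nf
    rw [mem_Rs, e]
    exact hT2.2.2 _ _ hw

/-- The set of points fixed by the radical is either empty or large. -/
theorem card_fixed_ge {k₀ : ℕ}
    (hk : (Nat.card F + 1) * Nat.card (sing R) = k₀ * (Nat.card F ^ H.n - 1))
    (X : ℕ) (hX : X = (Nat.card F + 1) * (Nat.card F ^ H.n - Nat.card F))
    (hside : ∀ w ∈ sing R, X ≤ Nat.card (sideSet R w)) {x : Ω} (hx : Rs R x = ⊤) :
    k₀ ≤ Nat.card {y : Ω // Rs R y = ⊤} := by
  classical
  cases nonempty_fintype Ω
  let W : Ω → Submodule F U := fun y =>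
    (Submodule.span F (Tset R y)).map (LinearMap.snd F (F × F) U)
  have key : ∀ y : Ω, Rs R y = ⊤ → ∀ t ∈ Submodule.span F (Tset R y),
      t.1.2 = 0 ∧ R t.2 = 0 := by
    intro y hy t ht
    have hy0 : t.1.2 = 0 := by
      induction ht using Submodule.span_induction with
      | mem t ht =>
        have := Tset_polar H hne (eP_mem_Tset_iff.2 hy) ht
        simpa [polar_plane, eP, polar_zero_left] using this
      | zero => rfl
      | add a b _ _ ha hb => simp [ha, hb]
      | smul c a _ ha => simp [ha]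
    refine ⟨hy0, ?_⟩
    have := singular_span (R := plane R) (fun a ha => (ha : a ∈ Tset R y).2.1)
      (fun a ha b hb => Tset_polar H hne ha hb) t ht
    simpa [plane_apply, hy0] using this
  have hWsing : ∀ y : Ω, Rs R y = ⊤ → ∀ w ∈ W y, R w = 0 := by
    rintro y hy w ⟨t, ht, rfl⟩
    exact (key y hy t ht).2
  have hWcard : ∀ y : Ω, Rs R y = ⊤ → Nat.card (W y) ≤ Nat.card F ^ H.n := fun y hy => by
    rw [Module.natCard_eq_pow_finrank (K := F)]
    exact Nat.pow_le_pow_right Nat.card_pos (H.hidx _ (hWsing y hy))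
  have hWmap : ∀ (h : Orth R) (hh : h ∈ siegelGroup R) (y : Ω), Rs R y = ⊤ →
      Rs R ((mkL R hh).1 • y) = ⊤ ∧ ∀ w ∈ W y, h.1 w ∈ W ((mkL R hh).1 • y) := by
    intro h hh y hy
    refine ⟨?_, ?_⟩
    · rw [← eP_mem_Tset_iff] at hy ⊢
      have := Tset_smul_mem (g := (mkL R hh).1) hy
      rwa [mkL_coe, show (liftO R h).1 (eP F U) = eP F U by simp [liftO_apply, eP]] at this
    · rintro w ⟨t, ht, rfl⟩
      refine ⟨(liftO R h).1 t, ?_, rfl⟩
      induction ht using Submodule.span_induction with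
      | mem t ht =>
        have := Tset_smul_mem (g := (mkL R hh).1) ht
        rw [mkL_coe] at this
        exact Submodule.subset_span this
      | zero => rw [map_zero]; exact zero_mem _
      | add a b _ _ ha hb => rw [map_add]; exact add_mem ha hb
      | smul c a _ ha => rw [map_smul]; exact Submodule.smul_mem _ c ha
  obtain ⟨v', hv', hind⟩ := Tset_indep H hne hlt (eP_mem_Tset_iff.2 hx)
  set w₀ := v'.2 with hw₀def
  have hw₀W : w₀ ∈ W x := ⟨v', Submodule.subset_span hv', rfl⟩
  have hw₀Q : R w₀ = 0 := hWsing x hx _ hw₀W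
  have hw₀ : w₀ ≠ 0 := by
    intro h0
    refine hind v'.1.1 ?_
    have h1 := (key x hx v' (Submodule.subset_span hv')).1
    obtain ⟨⟨p, s⟩, a⟩ := v'
    simp only at h1
    simp only [hw₀def] at h0
    simp [eP, h0, h1]
  have hr : Nat.card {y : Ω // Rs R y = ⊤} = (Finset.univ.filter fun y : Ω => Rs R y = ⊤).card := by
    rw [Nat.card_eq_fintype_card, Fintype.card_subtype]
  rw [hr]
  set s := Finset.univ.filter fun y : Ω => Rs R y = ⊤ with hs
  have hq := Hyp.one_lt_q (F := F)
  have hqn2 : Nat.card F ^ 2 ≤ Nat.card F ^ H.n := Nat.pow_le_pow_right (by omega) H.two_le_n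
  have hqn : 0 < Nat.card F ^ H.n - 1 := by
    have : Nat.card F < Nat.card F ^ 2 := by rw [pow_two]; nlinarith
    omega
  have hqnq : 0 < Nat.card F ^ H.n - Nat.card F := by
    have : Nat.card F < Nat.card F ^ 2 := by rw [pow_two]; nlinarith
    omega
  refine Nat.le_of_mul_le_mul_right ?_ hqn
  rw [← hk]
  by_cases hsecond : ∃ y₀ ∈ W x, ∀ c : F, c • w₀ ≠ y₀
  · obtain ⟨y₀, hy₀W, hy₀⟩ := hsecond
    have hc := H.pair_count s (fun y => (W y : Set U)) W (Nat.card F ^ H.n - 1)
      (fun y _ => subset_rfl) (fun y hy => ?_) (fun y hy => hWcard y (Finset.mem_filter.1 hy).2)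
      X hside (fun w hw v => ?_)
    · rw [hX] at hc
      refine Nat.le_of_mul_le_mul_right ?_ hqnq
      calc (Nat.card F + 1) * Nat.card (sing R) * (Nat.card F ^ H.n - Nat.card F)
          = Nat.card (sing R) * ((Nat.card F + 1) * (Nat.card F ^ H.n - Nat.card F)) := by ring
        _ ≤ _ := hc
        _ = _ := by ring
    · refine Nat.le_sub_one_of_lt (lt_of_lt_of_le ?_ (hWcard y (Finset.mem_filter.1 hy).2))
      have := card_split (fun w : U => w ∈ W y) (fun w => w ∈ sing R)
      have h0 : 0 < Nat.card {w : U // w ∈ W y ∧ ¬ w ∈ sing R} :=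
        Nat.card_pos_iff.2 ⟨⟨⟨0, zero_mem _, fun h => h.1 rfl⟩⟩, inferInstance⟩
      show Nat.card {w : U // w ∈ (W y : Set U) ∧ w ∈ sing R} < Nat.card (W y)
      simp only [SetLike.mem_coe]
      calc _ < Nat.card {w : U // w ∈ W y ∧ w ∈ sing R} +
            Nat.card {w : U // w ∈ W y ∧ ¬ w ∈ sing R} := Nat.lt_add_of_pos_right h0
        _ = _ := this.symm
    · have hwy : polar R w₀ y₀ = 0 :=
        polar_zero_of_singular_submodule (hWsing x hx) hw₀W hy₀W
      obtain ⟨h, hh, hhw, hhy⟩ := pair_cover H.hnd H.P H.hidx H.hN hw₀ hw₀Q (hWsing x hx _ hy₀W)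
        hwy hy₀ hw.1 hw.2 v.2.1 (by rw [polar_comm]; exact v.2.2.1) v.2.2.2
      obtain ⟨h1, h2⟩ := hWmap h hh x hx
      refine ⟨(mkL R hh).1 • x, Finset.mem_filter.2 ⟨Finset.mem_univ _, h1⟩, hhw ▸ h2 _ hw₀W, ?_⟩
      obtain ⟨α, β, hαβ⟩ := Submodule.mem_span_pair.1 hhy
      have hβ : β ≠ 0 := by
        rintro rfl
        rw [zero_smul, add_zero, ← hhw, ← map_smul] at hαβ
        exact hy₀ α (h.1.injective hαβ)
      have hv : v.1 = β⁻¹ • h.1 y₀ - (β⁻¹ * α) • w := by
        rw [← hαβ, smul_add, smul_smul, smul_smul, inv_mul_cancel₀ hβ]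
        module
      rw [hv]
      exact sub_mem (Submodule.smul_mem _ _ (h2 _ hy₀W))
        (Submodule.smul_mem _ _ (hhw ▸ h2 _ hw₀W))
  · push Not at hsecond
    have h1 : Nat.card (sing R) ≤ s.card * (Nat.card F - 1) := by
      cases nonempty_fintype U
      let hs' : Finset U := Finset.univ.filter fun w => w ∈ sing R
      have e : Nat.card (sing R) = hs'.card := by
        rw [Nat.card_eq_fintype_card]
        exact Fintype.card_subtype _
      rw [e]
      let s' := s.filter fun y => ∀ w ∈ W y, ∀ w' ∈ W y, w ≠ 0 → ∃ c : F, c • w = w'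
      refine le_trans (Finset.card_le_card (t := s'.biUnion fun y =>
        Finset.univ.filter fun w => w ∈ W y ∧ w ≠ 0) fun w hw => ?_) ?_
      · have hw' : w ∈ sing R := (Finset.mem_filter.1 hw).2
        obtain ⟨h, hh, hhw⟩ := level_trans H.hnd H.P hw₀ hw'.1 (hw₀Q.trans hw'.2.symm)
        obtain ⟨h1, h2⟩ := hWmap h hh x hx
        refine Finset.mem_biUnion.2 ⟨(mkL R hh).1 • x, Finset.mem_filter.2 ⟨Finset.mem_filter.2
          ⟨Finset.mem_univ _, h1⟩, ?_⟩, Finset.mem_filter.2
          ⟨Finset.mem_univ _, hhw ▸ h2 _ hw₀W, hw'.1⟩⟩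
        intro a ha a' ha' ha0
        obtain ⟨hk1, hk2⟩ := hWmap h⁻¹ (inv_mem hh) _ h1
        have hback : (mkL R (inv_mem hh)).1 • (mkL R hh).1 • x = x := by
          rw [← mul_smul]
          have : (mkL R (inv_mem hh)).1 * (mkL R hh).1 = 1 := Subtype.ext (by
            rw [Subgroup.coe_mul, mkL_coe, mkL_coe, ← map_mul, inv_mul_cancel, map_one,
              OneMemClass.coe_one])
          rw [this, one_smul]
        rw [hback] at hk2
        obtain ⟨c, hc⟩ := hsecond _ (hk2 a ha)
        obtain ⟨c', hc'⟩ := hsecond _ (hk2 a' ha')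
        have hc0 : c ≠ 0 := by
          rintro rfl
          rw [zero_smul] at hc
          exact ha0 ((LinearEquiv.map_eq_zero_iff _).1 hc.symm)
        refine ⟨c' * c⁻¹, (h⁻¹).1.injective ?_⟩
        rw [map_smul, ← hc, ← hc', smul_smul, mul_assoc, inv_mul_cancel₀ hc0, mul_one]
      · refine (Finset.card_biUnion_le_card_mul _ _ (Nat.card F - 1) fun y hy => ?_).trans
          (Nat.mul_le_mul_right _ (Finset.card_filter_le _ _))
        obtain ⟨-, hline⟩ := Finset.mem_filter.1 hy
        rcases Finset.eq_empty_or_nonempty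
          (Finset.univ.filter fun w => w ∈ W y ∧ w ≠ 0) with he | ⟨a, ha⟩
        · rw [he]
          simp
        obtain ⟨-, haW, ha0⟩ := Finset.mem_filter.1 ha
        cases nonempty_fintype F
        rw [Nat.card_eq_fintype_card, ← Fintype.card_units, ← Finset.card_univ]
        refine Finset.card_le_card_of_surjOn (fun c : Fˣ => (c : F) • a) ?_
        intro w hw
        obtain ⟨-, hwW, hw0⟩ := Finset.mem_filter.1 hw
        obtain ⟨c, hc⟩ := hline a haW w hwW ha0
        exact ⟨Units.mk0 c (fun h0 => hw0 (by rw [← hc, h0, zero_smul])), by simp, hc⟩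
    calc (Nat.card F + 1) * Nat.card (sing R) ≤ (Nat.card F + 1) * (s.card * (Nat.card F - 1)) :=
          Nat.mul_le_mul_left _ h1
      _ = s.card * ((Nat.card F + 1) * (Nat.card F - 1)) := by ring
      _ ≤ _ := by
          refine Nat.mul_le_mul_left _ (le_trans ?_ (Nat.sub_le_sub_right hqn2 1))
          rw [← Nat.sq_sub_sq, one_pow]

end Small

end CfsgLib.MinIndexOrth
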