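import Cfsg.Agent.Lib.Classical.Quad.Omega

/-!
Linear algebra of a quadratic space used for the minimal index of the orthogonal groups: singular
vectors in perpendicular spaces, moves by Siegel transformations and counts.
-/

set_option autoImplicit false
set_option linter.unusedSectionVars false

namespace CfsgLib.MinIndexOrth

open QuadraticMap Module CfsgLib.Classical.Quad

variable {F U : Type*} [Field F] [AddCommGroup U] [Module F U] {R : QuadraticForm F U}

/-- The vectors orthogonal to `a`. -/
def perp (R : QuadraticForm F U) (a : U) : Submodule F U := LinearMap.ker ((polarBilin R).flip a)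

theorem mem_perp {a x : U} : x ∈ perp R a ↔ polar R x a = 0 := by simp [perp]

theorem exists_polar_family [FiniteDimensional F U] (hnd : NDPolar R) {ι : Type*} (v : ι → U)
    (hli : LinearIndependent F v) (val : ι → F) : ∃ x, ∀ i, polar R (v i) x = val i := by
  obtain ⟨g, hg⟩ := LinearMap.exists_extend (Finsupp.linearCombination F val ∘ₗ hli.repr)
  obtain ⟨x, hx⟩ := exists_polar hnd g
  refine ⟨x, fun i => ?_⟩
  rw [polar_comm, hx]
  have h := LinearMap.congr_fun hg ⟨v i, Submodule.subset_span (Set.mem_range_self i)⟩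
  simp only [LinearMap.coe_comp, Submodule.coe_subtype, Function.comp_apply] at h
  rw [hli.repr_eq_single i _ rfl] at h
  simpa using h

theorem polar_eq_zero_of_singular {x y : U} (hx : R x = 0) (hy : R y = 0) (hxy : R (x + y) = 0) :
    polar R x y = 0 := by
  simp [polar, hx, hy, hxy]

theorem singular_span {s : Set U} (h1 : ∀ x ∈ s, R x = 0)
    (h2 : ∀ x ∈ s, ∀ y ∈ s, polar R x y = 0) : ∀ x ∈ Submodule.span F s, R x = 0 := by
  have hp : ∀ x ∈ s, ∀ y ∈ Submodule.span F s, polar R x y = 0 := fun x hx y hy => by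
    induction hy using Submodule.span_induction with
    | mem y hy => exact h2 x hx y hy
    | zero => exact polar_zero_right _ _
    | add y z _ _ hy hz => rw [polar_add_right, hy, hz, add_zero]
    | smul c y _ hy => rw [polar_smul_right, hy, smul_zero]
  intro x hx
  induction hx using Submodule.span_induction with
  | mem y hy => exact h1 y hy
  | zero => exact QuadraticMap.map_zero _
  | add y z hy' hz' hy hz =>
    have hyz : polar R y z = 0 := by
      clear hy
      induction hy' using Submodule.span_induction with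
      | mem w hw => exact hp w hw z hz'
      | zero => exact polar_zero_left _ _
      | add a b _ _ ha hb => rw [polar_add_left, ha, hb, add_zero]
      | smul c a _ ha => rw [polar_smul_left, ha, smul_zero]
    rw [QuadraticMap.map_add R, hy, hz, hyz]
    simp
  | smul c y _ hy => rw [QuadraticMap.map_smul, hy, smul_zero]

theorem polar_zero_of_singular_submodule {W : Submodule F U} (h : ∀ x ∈ W, R x = 0) {x y : U}
    (hx : x ∈ W) (hy : y ∈ W) : polar R x y = 0 :=
  polar_eq_zero_of_singular (h x hx) (h y hy) (h _ (W.add_mem hx hy))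

variable [FiniteDimensional F U] (hnd : NDPolar R) (P : Frame R)

include hnd

/-- `(a⊥)⊥ = F a`. -/
theorem eq_smul_of_perp {a y : U} (ha : a ≠ 0) (h : ∀ x, polar R x a = 0 → polar R x y = 0) :
    ∃ c : F, y = c • a := by
  by_contra hcon
  push Not at hcon
  obtain ⟨x, h1, h2⟩ := exists_polar_pair hnd (not_smul_eq_of_indep ha fun c hc => hcon c hc.symm) 1 0
  exact one_ne_zero ((h1.symm.trans (by rw [polar_comm]; exact h x (by rw [polar_comm]; exact h2))))

include P in
/-- The orbits of `Ω` on non-zero vectors are the levels. -/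
theorem level_trans {a v : U} (ha : a ≠ 0) (hv : v ≠ 0) (h : R a = R v) :
    ∃ g ∈ siegelGroup R, g.1 a = v := by
  by_cases h0 : R a = 0
  · obtain ⟨g, hg, hga⟩ := siegelGroup_to_e₁ hnd P h0 ha
    obtain ⟨g', hg', hgv⟩ := siegelGroup_to_e₁ hnd P (h ▸ h0) hv
    exact ⟨g'⁻¹ * g, mul_mem (inv_mem hg') hg, by rw [mul_apply, hga, ← hgv, inv_apply_self]⟩
  · obtain ⟨u, z, hp, hvz⟩ := exists_pair_of_nonsingular hnd P h0
    obtain ⟨u', z', hp', hvz'⟩ := exists_pair_of_nonsingular hnd P (h ▸ h0)
    obtain ⟨g, hg, hgu, hgz⟩ := siegelGroup_map_hpair hnd P hp hp'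
    refine ⟨g, hg, ?_⟩
    rw [hvz, map_add, map_smul, hgu, hgz, h, ← hvz']

include P in
open scoped _root_.Classical in
/-- A singular vector orthogonal to and independent of a given one. -/
theorem exists_singular_perp {a : U} (ha : a ≠ 0) :
    ∃ u, u ≠ 0 ∧ R u = 0 ∧ polar R u a = 0 ∧ ∀ c : F, c • a ≠ u := by
  obtain ⟨g, hg, hga⟩ : ∃ g ∈ siegelGroup R, g.1 a =
      if R a = 0 then P.e₁ else P.f₁ + R a • P.e₁ := by
    by_cases h0 : R a = 0
    · rw [if_pos h0]
      exact siegelGroup_to_e₁ hnd P h0 ha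
    · rw [if_neg h0]
      obtain ⟨u, z, hp, hvz⟩ := exists_pair_of_nonsingular hnd P h0
      obtain ⟨g, hg, hgu, hgz⟩ := siegelGroup_map_hpair hnd P hp P.pair₁
      refine ⟨g, hg, ?_⟩
      conv_lhs => rw [hvz]
      rw [map_add, map_smul, hgu, hgz]
  refine ⟨(g⁻¹).1 P.e₂, orth_ne_zero _ P.pair₂.left_ne_zero, by rw [orth_Q, P.pair₂.1], ?_, ?_⟩
  · rw [← orth_polar g, self_apply_inv, hga]
    split_ifs
    · rw [polar_comm, P.e₁e₂]
    · simp [polar_comm R P.e₂ P.f₁, P.f₁e₂, polar_comm R P.e₂ P.e₁, P.e₁e₂]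
  · intro c hc
    have h1 : c • g.1 a = P.e₂ := by rw [← map_smul, hc, self_apply_inv]
    rw [hga] at h1
    split_ifs at h1 with h0
    · exact P.e₁_indep_e₂ c h1
    · have h2 := congrArg (fun z => polar R z P.f₂) h1
      simp [P.f₁f₂, P.e₁f₂, P.pair₂.2.2] at h2

omit hnd in
theorem sub_smul_singular {y c : U} (hy : R y = 0) (h : polar R y c = 1) :
    R (c + (-(R c)) • y) = 0 ∧ polar R y (c + (-(R c)) • y) = 1 ∧
      ∀ x, polar R x y = 0 → polar R x (c + (-(R c)) • y) = polar R x c := by
  refine ⟨?_, ?_, fun x hx => ?_⟩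
  · rw [Q_comb1, hy, polar_comm R c y, h]
    ring
  · rw [polar_add_right, polar_smul_right, polar_singular_self hy, h]
    simp
  · rw [polar_add_right, polar_smul_right, hx]
    simp

/-- The vectors orthogonal to `a` are detected by the singular ones among them. -/
theorem exists_singular_sep {a y u : U} (ha : a ≠ 0) (hu : R u = 0)
    (hua : polar R u a = 0) (hind : ∀ c : F, c • a ≠ u) (hy : ∀ c : F, y ≠ c • a) :
    ∃ b, R b = 0 ∧ polar R b a = 0 ∧ polar R b y ≠ 0 := by
  by_contra hcon
  push Not at hcon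
  obtain ⟨c₀, hc1, hc2⟩ := exists_polar_pair hnd (not_smul_eq_of_indep ha hind) 1 0
  have key : ∀ b, polar R b a = 0 → polar R u b ≠ 0 → polar R b y = 0 := by
    intro b hb hub
    have h := hcon (b + (-(R b / polar R u b)) • u) (by
      rw [Q_comb1, hu, polar_comm R b u]
      field_simp
      ring) (by simp [hb, hua])
    rw [polar_add_left, polar_smul_left, hcon u hu hua] at h
    simpa using h
  have hall : ∀ b, polar R b a = 0 → polar R b y = 0 := by
    intro b hb
    by_cases hub : polar R u b = 0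
    · have hc0 : polar R c₀ a = 0 := by rw [polar_comm]; exact hc2
      have h1 := key (b + c₀) (by simp [hb, hc0]) (by simp [hub, hc1])
      rw [polar_add_left, key c₀ hc0 (by rw [hc1]; exact one_ne_zero), add_zero] at h1
      exact h1
    · exact key b hb hub
  obtain ⟨c, hc⟩ := eq_smul_of_perp hnd ha hall
  exact hy c hc

/-! ### Moves -/

omit hnd in
theorem move_orth {y v c : U} (hy : R y = 0) (hv : R v = 0) (hyv : polar R y v = 0)
    (hc : R c = 0) (h1 : polar R y c = 1) (h2 : polar R v c = 1) :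
    ∃ g ∈ siegelGroup R, g.1 y = v ∧
      ∀ x, polar R x c = 0 → polar R x y = 0 → polar R x v = 0 → g.1 x = x := by
  have hd : polar R c (v - y) = 0 := by
    rw [polar_sub_right, polar_comm R c v, polar_comm R c y, h1, h2, sub_self]
  refine ⟨_, siegel_mem hc hd, ?_, fun x hxc hxy hxv =>
    siegel_fix hc hd hxc (by rw [polar_sub_right, hxv, hxy, sub_self])⟩
  have hQ : R (v - y) = 0 := by
    rw [sub_eq_add_neg, QuadraticMap.map_add R, QuadraticMap.map_neg, hy, hv, polar_neg_right,
      polar_comm R v y, hyv]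
    simp
  rw [siegel_apply, h1, hQ, polar_sub_right, hyv, polar_singular_self hy]
  module

omit hnd in
theorem move_nonorth {y v z : U} (hy : R y = 0) (hv : R v = 0) (hzy : polar R z y = 0)
    (hzv : polar R z v = 0) (hz : R z ≠ 0) (hyv : polar R y v ≠ 0) :
    ∃ g ∈ siegelGroup R, g.1 y = (-(polar R y v * R z)) • v ∧
      ∀ x, polar R x y = 0 → polar R x v = 0 → polar R x z = 0 → g.1 x = x := by
  set φ := polar R y v with hφ
  have h1 : polar R v z = 0 := by rw [polar_comm]; exact hzv
  have h2 : polar R y ((φ * R z)⁻¹ • z) = 0 := by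
    rw [polar_smul_right, polar_comm R y z, hzy, smul_zero]
  refine ⟨siegel R y ((φ * R z)⁻¹ • z) hy h2 * siegel R v z hv h1,
    mul_mem (siegel_mem _ _) (siegel_mem _ _), ?_, fun x hxy hxv hxz => ?_⟩
  · simp only [mul_apply, siegel_apply, map_add, map_smul, polar_smul_right,
      QuadraticMap.map_smul, smul_eq_mul, ← hφ, polar_comm R y z, hzy, hzv,
      polar_comm R v y, polar_comm R v z, polar_singular_self hy, polar_self' z]
    match_scalars <;> field_simp <;> ring
  · rw [mul_apply, siegel_fix hv h1 hxv hxz, siegel_fix hy h2 hxy (by simp [hxz])]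

omit hnd in
theorem exists_nonsingular_perp3 {n : ℕ}
    (hidx : ∀ W : Submodule F U, (∀ x ∈ W, R x = 0) → finrank F W ≤ n)
    (hN : n + 3 ≤ finrank F U) {w y v : U} (hy : R y = 0) (hyv : polar R y v ≠ 0) :
    ∃ z, R z ≠ 0 ∧ polar R z w = 0 ∧ polar R z y = 0 ∧ polar R z v = 0 := by
  by_contra hcon
  push Not at hcon
  set Φ : U →ₗ[F] F × F × F :=
    ((polarBilin R).flip w).prod (((polarBilin R).flip y).prod ((polarBilin R).flip v)) with hΦ
  set K := LinearMap.ker Φ with hK
  have hmem : ∀ x, x ∈ K ↔ polar R x w = 0 ∧ polar R x y = 0 ∧ polar R x v = 0 := by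
    intro x
    simp [hK, hΦ]
  have hKQ : ∀ x ∈ K, R x = 0 := fun x hx => by
    obtain ⟨h1, h2, h3⟩ := (hmem x).1 hx
    by_contra h0
    exact hcon x h0 h1 h2 h3
  have hdim : finrank F U ≤ finrank F K + 3 := by
    have h := LinearMap.finrank_range_add_finrank_ker Φ
    have h2 := Submodule.finrank_le (LinearMap.range Φ)
    rw [Module.finrank_prod, Module.finrank_prod, finrank_self] at h2
    rw [← hK] at h
    omega
  have hlt : K < K ⊔ F ∙ y := by
    refine lt_of_le_of_ne le_sup_left fun he => hyv ((hmem y).1 ?_).2.2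
    rw [he]
    exact Submodule.mem_sup_right (Submodule.mem_span_singleton_self y)
  have hsing : ∀ x ∈ K ⊔ F ∙ y, R x = 0 := by
    intro x hx
    obtain ⟨k, hk, t, ht, rfl⟩ := Submodule.mem_sup.1 hx
    obtain ⟨c, rfl⟩ := Submodule.mem_span_singleton.1 ht
    rw [Q_comb1, hKQ k hk, hy, ((hmem k).1 hk).2.1]
    ring
  have h1 := Submodule.finrank_lt_finrank_of_lt hlt
  have h2 := hidx _ hsing
  omega

include P in
/-- Pairs of orthogonal singular vectors can be mapped into each other's spans. -/
theorem pair_cover {n : ℕ} (hidx : ∀ W : Submodule F U, (∀ x ∈ W, R x = 0) → finrank F W ≤ n)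
    (hN : n + 3 ≤ finrank F U) {w₀ y₀ w v : U}
    (hw₀0 : w₀ ≠ 0) (hw₀ : R w₀ = 0) (hy₀ : R y₀ = 0) (hwy₀ : polar R w₀ y₀ = 0)
    (hi₀ : ∀ c : F, c • w₀ ≠ y₀)
    (hw0 : w ≠ 0) (hw : R w = 0) (hv : R v = 0) (hwv : polar R w v = 0)
    (hi : ∀ c : F, c • w ≠ v) :
    ∃ h ∈ siegelGroup R, h.1 w₀ = w ∧ h.1 y₀ ∈ Submodule.span F {w, v} := by
  obtain ⟨h₁, hm₁, he₁⟩ := level_trans hnd P hw₀0 hw0 (hw₀.trans hw.symm)
  set y := h₁.1 y₀ with hydef
  have hy : R y = 0 := by rw [hydef, orth_Q, hy₀]
  have hwy : polar R w y = 0 := by rw [← he₁, hydef, orth_polar, hwy₀]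
  have hiy : ∀ c : F, c • w ≠ y := fun c hc => hi₀ c (by
    apply h₁.1.injective
    rw [map_smul, he₁]
    exact hc)
  by_cases hvs : v ∈ Submodule.span F ({w, y} : Set U)
  · obtain ⟨α, β, rfl⟩ := Submodule.mem_span_pair.1 hvs
    have hβ : β ≠ 0 := by
      rintro rfl
      exact hi α (by simp)
    refine ⟨h₁, hm₁, he₁, Submodule.mem_span_pair.2 ⟨-(β⁻¹ * α), β⁻¹, ?_⟩⟩
    rw [← hydef, smul_add, smul_smul, smul_smul, inv_mul_cancel₀ hβ]
    module
  · suffices h : ∃ g ∈ siegelGroup R, g.1 w = w ∧ ∃ c : F, g.1 y = c • v by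
      obtain ⟨g, hg, hgw, c, hgy⟩ := h
      refine ⟨g * h₁, mul_mem hg hm₁, by rw [mul_apply, he₁, hgw], ?_⟩
      rw [mul_apply, ← hydef, hgy]
      exact Submodule.smul_mem _ _ (Submodule.subset_span (by simp))
    by_cases hyv : polar R y v = 0
    · have hli : LinearIndependent F ![v, w, y] := by
        refine linearIndependent_finCons.2 ⟨?_, ?_⟩
        · rw [linearIndependent_fin2]
          exact ⟨fun h0 => hiy 0 (by simpa using h0.symm), fun c hc => by
            have hc' : c • y = w := hc
            have hc0 : c ≠ 0 := by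
              rintro rfl
              exact hw0 (by rw [← hc', zero_smul])
            exact hiy c⁻¹ (by rw [← hc', smul_smul, inv_mul_cancel₀ hc0, one_smul])⟩
        · simpa [Matrix.range_cons, Matrix.range_empty, Set.pair_comm] using hvs
      obtain ⟨c, hc⟩ := exists_polar_family hnd _ hli ![1, 0, 1]
      have hcv : polar R v c = 1 := hc 0
      have hcw : polar R w c = 0 := hc 1
      have hcy : polar R y c = 1 := hc 2
      obtain ⟨k1, k2, k3⟩ := sub_smul_singular hy hcy
      obtain ⟨g, hg, hgy, hfix⟩ := move_orth hy hv hyv k1 k2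
        (by rw [k3 v (by rw [polar_comm]; exact hyv), hcv])
      exact ⟨g, hg, hfix w (by rw [k3 w hwy, hcw]) hwy hwv, 1, by rw [hgy, one_smul]⟩
    · obtain ⟨z, hz, hzw, hzy, hzv⟩ := exists_nonsingular_perp3 hidx hN (w := w) hy hyv
      obtain ⟨g, hg, hgy, hfix⟩ := move_nonorth hy hv hzy hzv hz hyv
      exact ⟨g, hg, hfix w hwy hwv (by rw [polar_comm]; exact hzw), _, hgy⟩

/-- In characteristic two with two elements the fixer of `a` is transitive on the singular vectors
orthogonal to `a`. -/
theorem singular_perp_trans (hF : ∀ c : F, c = 0 ∨ c = 1) {a y v : U} (ha : R a ≠ 0)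
    (hy0 : y ≠ 0) (hv0 : v ≠ 0) (hy : R y = 0) (hv : R v = 0) (hya : polar R y a = 0)
    (hva : polar R v a = 0) : ∃ g ∈ siegelGroup R, g.1 a = a ∧ g.1 y = v := by
  have hneg : (-1 : F) = 1 := (hF (-1)).resolve_left (by simp)
  have haa : polar R a a = 0 := by
    rw [polar_self', show (2 : F) = 1 - -1 by ring, hneg, sub_self, zero_mul]
  by_cases hyv : polar R y v = 0
  · by_cases he : y = v
    · exact ⟨1, one_mem _, rfl, by rw [he]; rfl⟩
    have hli : LinearIndependent F ![a, y, v] := by
      refine linearIndependent_finCons.2 ⟨?_, ?_⟩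
      · rw [linearIndependent_fin2]
        refine ⟨hv0, fun c hc => ?_⟩
        have hc' : c • v = y := hc
        rcases hF c with rfl | rfl
        · exact hy0 (by rw [← hc', zero_smul])
        · exact he (by rw [← hc', one_smul])
      · intro hmem
        refine ha (singular_span (s := ({y, v} : Set U)) ?_ ?_ a
          (by simpa [Matrix.range_cons, Matrix.range_empty, Set.pair_comm] using hmem))
        · rintro x (rfl | rfl) <;> assumption
        · rintro x (rfl | rfl) x' (rfl | rfl) <;>
            first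
              | exact polar_singular_self hy
              | exact polar_singular_self hv
              | exact hyv
              | (rw [polar_comm]; exact hyv)
    obtain ⟨c, hc⟩ := exists_polar_family hnd _ hli ![0, 1, 1]
    have hca : polar R a c = 0 := hc 0
    have hcy : polar R y c = 1 := hc 1
    have hcv : polar R v c = 1 := hc 2
    have hay : polar R a y = 0 := by rw [polar_comm]; exact hya
    obtain ⟨k1, k2, k3⟩ := sub_smul_singular hy hcy
    obtain ⟨g, hg, hgy, hfix⟩ := move_orth hy hv hyv k1 k2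
      (by rw [k3 v (by rw [polar_comm]; exact hyv), hcv])
    exact ⟨g, hg, hfix a (by rw [k3 a hay, hca]) hay (by rw [polar_comm]; exact hva), hgy⟩
  · have h1 : polar R y v = 1 := (hF _).resolve_left hyv
    have h2 : R a = 1 := (hF _).resolve_left ha
    obtain ⟨g, hg, hgy, hfix⟩ := move_nonorth hy hv (by rw [polar_comm]; exact hya)
      (by rw [polar_comm]; exact hva) ha hyv
    exact ⟨g, hg, hfix a (by rw [polar_comm]; exact hya) (by rw [polar_comm]; exact hva) haa, by
      rw [hgy, h1, h2, mul_one, hneg, one_smul]⟩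

/-! ### Counts -/

variable [Finite F] [Finite U]

omit hnd in
theorem card_univ_eq : Nat.card U = Nat.card F ^ finrank F U := Module.natCard_eq_pow_finrank

theorem card_perp {a : U} (ha : a ≠ 0) :
    Nat.card (perp R a) = Nat.card F ^ (finrank F U - 1) := by
  have hs : LinearMap.range ((polarBilin R).flip a) = ⊤ := by
    obtain ⟨x, hx⟩ := exists_polar_one hnd ha
    refine LinearMap.range_eq_top.2 fun c => ⟨c • x, ?_⟩
    simp [polar_comm R x a, hx]
  have h := LinearMap.finrank_range_add_finrank_ker ((polarBilin R).flip a)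
  rw [hs, finrank_top, finrank_self] at h
  rw [Module.natCard_eq_pow_finrank (K := F), show finrank F (perp R a) = finrank F U - 1 by
    show finrank F (LinearMap.ker ((polarBilin R).flip a)) = _; omega]

omit hnd in
theorem card_split {α : Type*} [Finite α] (p q : α → Prop) :
    Nat.card {x : α // p x} = Nat.card {x : α // p x ∧ q x} + Nat.card {x : α // p x ∧ ¬ q x} := by
  classical
  rw [← Nat.card_sum]
  exact Nat.card_congr ((Equiv.sumCompl fun x : {x : α // p x} => q x.1).symm.trans
    (Equiv.sumCongr (Equiv.subtypeSubtypeEquivSubtypeInter p q)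
      (Equiv.subtypeSubtypeEquivSubtypeInter p fun x => ¬ q x)))

/-- The singular vectors orthogonal to a singular `w` outside `F w`. -/
abbrev sideSet (R : QuadraticForm F U) (w : U) : Type _ :=
  {v : U // R v = 0 ∧ polar R v w = 0 ∧ ∀ c : F, c • w ≠ v}

theorem card_sideSet {w : U} (hw0 : w ≠ 0) (hw : R w = 0) (hN : 2 ≤ finrank F U) :
    Nat.card (sideSet R w) + Nat.card F + Nat.card F ^ (finrank F U - 1) =
      Nat.card {v : U // R v = 0} + Nat.card F ^ (finrank F U - 2) := by
  classical
  have h1 := card_split (fun v => R v = 0) (fun v => polar R v w = 0)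
  have h2 : Nat.card {v : U // R v = 0 ∧ polar R v w = 0} =
      Nat.card (sideSet R w) + Nat.card F := by
    rw [card_split (fun v => R v = 0 ∧ polar R v w = 0) (fun v => ∀ c : F, c • w ≠ v)]
    congr 1
    · exact Nat.card_congr (Equiv.subtypeEquivRight fun v => by tauto)
    · refine (Nat.card_congr (Equiv.ofBijective (fun c : F => (⟨c • w,
        ⟨by simp [QuadraticMap.map_smul, hw], by simp [polar_singular_self hw]⟩, fun h => h c rfl⟩ :
        {v : U // (R v = 0 ∧ polar R v w = 0) ∧ ¬ ∀ c : F, c • w ≠ v})) ⟨fun c c' h =>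
          smul_left_injective F hw0 (congrArg Subtype.val h), fun v => ?_⟩)).symm
      obtain ⟨c, hc⟩ := not_forall_not.1 v.2.2
      exact ⟨c, Subtype.ext hc⟩
  have h3 : Nat.card {v : U // R v = 0 ∧ ¬ polar R v w = 0} * Nat.card F =
      Nat.card {v : U // ¬ polar R v w = 0} := by
    rw [← Nat.card_prod]
    refine Nat.card_congr
      { toFun := fun p => ⟨p.1.1 + p.2 • w, by simpa [polar_singular_self hw] using p.1.2.2⟩
        invFun := fun v => (⟨v.1 + (-(R v.1 / polar R v.1 w)) • w, by
            rw [Q_comb1, hw]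
            field_simp [v.2]
            ring, by simpa [polar_singular_self hw] using v.2⟩, R v.1 / polar R v.1 w)
        left_inv := fun p => ?_
        right_inv := fun v => Subtype.ext (by module) }
    have e : R (p.1.1 + p.2 • w) / polar R (p.1.1 + p.2 • w) w = p.2 := by
      rw [Q_comb1, hw, p.1.2.1, polar_add_left, polar_smul_left, polar_singular_self hw]
      simp [p.1.2.2]
    refine Prod.ext (Subtype.ext ?_) e
    show p.1.1 + p.2 • w + (-(R (p.1.1 + p.2 • w) / polar R (p.1.1 + p.2 • w) w)) • w = p.1.1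
    rw [e]
    module
  have h4 : Nat.card {v : U // ¬ polar R v w = 0} + Nat.card F ^ (finrank F U - 1) =
      Nat.card F ^ finrank F U := by
    rw [← card_univ_eq (F := F), ← card_perp hnd hw0, ← Nat.card_sum]
    exact Nat.card_congr ((Equiv.sumCongr (Equiv.refl _)
      (Equiv.subtypeEquivRight fun v => mem_perp)).trans
      ((Equiv.sumComm _ _).trans (Equiv.sumCompl fun v => polar R v w = 0)))
  obtain ⟨N, hN'⟩ : ∃ N, finrank F U = N + 2 := ⟨_, (Nat.sub_add_cancel hN).symm⟩
  rw [hN'] at h4 ⊢
  rw [show N + 2 - 2 = N by omega, show N + 2 - 1 = N + 1 by omega] at *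
  set q := Nat.card F
  set B := Nat.card {v : U // R v = 0 ∧ ¬ polar R v w = 0}
  have hB : B + q ^ N = q ^ (N + 1) := by
    refine Nat.eq_of_mul_eq_mul_right (show 0 < q from Nat.card_pos) ?_
    rw [add_mul, h3, ← pow_succ, ← pow_succ]
    exact h4
  omega

/-- In characteristic two half of the vectors orthogonal to a non-singular `a` are singular. -/
theorem card_zeros_perp (hF : ∀ c : F, c = 0 ∨ c = 1) {a : U} (ha : R a ≠ 0) :
    2 * Nat.card {v : U // R v = 0 ∧ polar R v a = 0} = 2 ^ (finrank F U - 1) := by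
  classical
  have hF2 : Nat.card F = 2 := by
    rw [Nat.card_eq_two_iff]
    exact ⟨0, 1, zero_ne_one, Set.eq_univ_of_forall fun c => by simpa using hF c⟩
  have ha0 : a ≠ 0 := fun h => ha (by rw [h, QuadraticMap.map_zero])
  have h1 : (1 : F) + 1 = 0 := (hF _).resolve_right (by simp)
  have haa : polar R a a = 0 := by rw [polar_self', show (2 : F) = 1 + 1 by ring, h1, zero_mul]
  have hRa : R a = 1 := (hF _).resolve_left ha
  rw [← hF2, ← card_perp hnd ha0, hF2]
  have e1 := card_split (fun v => polar R v a = 0) (fun v => R v = 0)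
  have e2 : Nat.card {v : U // polar R v a = 0 ∧ R v = 0} =
      Nat.card {v : U // R v = 0 ∧ polar R v a = 0} :=
    Nat.card_congr (Equiv.subtypeEquivRight fun v => and_comm)
  have e3 : Nat.card {v : U // polar R v a = 0 ∧ ¬ R v = 0} =
      Nat.card {v : U // R v = 0 ∧ polar R v a = 0} := by
    refine Nat.card_congr ((Equiv.addRight a).subtypeEquiv fun v => ?_)
    show _ ↔ R (v + a) = 0 ∧ polar R (v + a) a = 0
    rw [polar_add_left, haa, add_zero, QuadraticMap.map_add R, hRa]
    constructor
    · rintro ⟨hp, hv⟩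
      exact ⟨by rw [hp, add_zero, (hF (R v)).resolve_left hv, h1], hp⟩
    · rintro ⟨hs, hp⟩
      refine ⟨hp, fun h0 => ?_⟩
      rw [hp, h0] at hs
      simp at hs
  have e4 : Nat.card (perp R a) = Nat.card {v : U // polar R v a = 0} :=
    Nat.card_congr (Equiv.subtypeEquivRight fun v => mem_perp)
  rw [e4, e1, e2, e3, two_mul]

end CfsgLib.MinIndexOrth
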