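import Cfsg.Agent.Lib.MinIndexOrth.Action

/-!
The hypotheses on a quadratic space for the lower bound of the minimal index, and first
consequences.
-/

set_option autoImplicit false
set_option linter.unusedSectionVars false

namespace CfsgLib.MinIndexOrth

open QuadraticMap Module CfsgLib.Classical.Quad

variable {F U : Type*} [Field F] [AddCommGroup U] [Module F U]

/-- The vectors whose value is `R a` times a non-zero square. -/
def cls (R : QuadraticForm F U) (a : U) : Set U := {v | ∃ s : F, s ≠ 0 ∧ R v = s * s * R a}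

/-- The non-zero singular vectors. -/
def sing (R : QuadraticForm F U) : Set U := {v | v ≠ 0 ∧ R v = 0}

/-- The numerical and geometric hypotheses. -/
structure Hyp (R : QuadraticForm F U) where
  hnd : NDPolar R
  P : Frame R
  n : ℕ
  two_le_n : 2 ≤ n
  hN : n + 3 ≤ finrank F U
  hidx : ∀ W : Submodule F U, (∀ x ∈ W, R x = 0) → finrank F W ≤ n
  cl : ℕ
  hcl : ∀ a, R a ≠ 0 → cl ≤ Nat.card (cls R a)
  h5 : Nat.card (Pts R) ≤ 5 * cl
  hp : 4 ≤ Nat.card F → Nat.card (Pts R) ≤ ringChar F * cl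
  h3 : Nat.card F = 3 → 2 * Nat.card (Pts R) ≤ 9 * cl
  h2 : Nat.card F = 2 → 6 ≤ finrank F U ∧ Nat.card (Pts R) ≤ 4 * cl ∧
    3 * Nat.card (Pts R) ≤ Nat.card (sing R) * 2 ^ (finrank F U - 2)
  hS : Nat.card (sing R) < cl
  hX : ∀ X, X + Nat.card F + Nat.card F ^ (finrank F U - 1) =
      Nat.card (sing R) + 1 + Nat.card F ^ (finrank F U - 2) →
    Nat.card (Pts R) * (Nat.card F ^ n - Nat.card F) ≤ Nat.card (sing R) * X ∨
    (4 ≤ Nat.card F ∧ X = (Nat.card F + 1) * (Nat.card F ^ n - Nat.card F) ∧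
      ∃ k₀, (Nat.card F + 1) * Nat.card (sing R) = k₀ * (Nat.card F ^ n - 1) ∧
        Nat.card (Pts R) ≤ k₀ * (Nat.card F ^ n + 1))

namespace Hyp

variable [Finite F] [Finite U] [FiniteDimensional F U] {R : QuadraticForm F U}

theorem one_lt_q : 1 < Nat.card F := Finite.one_lt_card

theorem card_zeros_eq : Nat.card {v : U // R v = 0} = Nat.card (sing R) + 1 := by
  classical
  rw [card_split (fun v => R v = 0) (fun v => v = 0), add_comm]
  congr 1
  · exact Nat.card_congr (Equiv.subtypeEquivRight fun v => and_comm)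
  · rw [Nat.card_eq_one_iff_unique]
    exact ⟨⟨fun a b => Subtype.ext (a.2.2.trans b.2.2.symm)⟩,
      ⟨⟨0, QuadraticMap.map_zero _, rfl⟩⟩⟩

/-- The number of singular points of the extension. -/
theorem card_pts_eq :
    Nat.card (Pts R) * (Nat.card F - 1) + 1 + Nat.card F ^ finrank F U =
      Nat.card F * Nat.card F ^ finrank F U + Nat.card F * (Nat.card (sing R) + 1) := by
  rw [card_pts_mul, ← card_zeros_eq, ← card_univ_eq (F := F) (U := U)]
  exact card_zeros_plane

theorem card_pts_sub :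
    Nat.card (Pts R) * (Nat.card F - 1) =
      (Nat.card F - 1) * Nat.card F ^ finrank F U + Nat.card F * Nat.card (sing R) +
        (Nat.card F - 1) := by
  have h := card_pts_eq (R := R)
  obtain ⟨q, hq⟩ : ∃ q, Nat.card F = q + 1 := ⟨_, (Nat.sub_add_cancel Nat.card_pos).symm⟩
  rw [hq] at h ⊢
  rw [Nat.add_sub_cancel] at h ⊢
  ring_nf at h ⊢
  omega

theorem sing_le_pow : Nat.card (sing R) < Nat.card F ^ finrank F U := by
  rw [← card_univ_eq (F := F) (U := U)]
  have h := Finite.card_subtype_le (fun v : U => R v = 0)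
  rw [card_zeros_eq] at h
  omega

variable (H : Hyp R)

include H

/-- The side set of a singular vector is given by the number of singular vectors. -/
theorem card_side {w : U} (hw0 : w ≠ 0) (hw : R w = 0) :
    Nat.card (sideSet R w) + Nat.card F + Nat.card F ^ (finrank F U - 1) =
      Nat.card (sing R) + 1 + Nat.card F ^ (finrank F U - 2) := by
  rw [card_sideSet H.hnd hw0 hw (by have := H.hN; omega), card_zeros_eq]

theorem card_span_le {s : Set U} (h1 : ∀ x ∈ s, R x = 0)
    (h2 : ∀ x ∈ s, ∀ y ∈ s, polar R x y = 0) :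
    Nat.card (Submodule.span F s) ≤ Nat.card F ^ H.n := by
  rw [Module.natCard_eq_pow_finrank (K := F)]
  exact Nat.pow_le_pow_right Nat.card_pos (H.hidx _ (singular_span h1 h2))

omit H in
theorem card_line (w : U) : Nat.card (F ∙ w) ≤ Nat.card F := by
  refine Nat.card_le_card_of_surjective (fun c : F => (⟨c • w,
    Submodule.smul_mem _ c (Submodule.mem_span_singleton_self w)⟩ : F ∙ w)) fun v => ?_
  obtain ⟨c, hc⟩ := Submodule.mem_span_singleton.1 v.2
  exact ⟨c, Subtype.ext hc⟩

/-- Counting the ordered pairs of orthogonal singular vectors through a family of subspaces. -/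
theorem pair_count {ι : Type*} (s : Finset ι) (A : ι → Set U) (W : ι → Submodule F U) (a : ℕ)
    (hAW : ∀ i ∈ s, A i ⊆ W i)
    (hA : ∀ i ∈ s, Nat.card {w : U // w ∈ A i ∧ w ∈ sing R} ≤ a)
    (hW : ∀ i ∈ s, Nat.card (W i) ≤ Nat.card F ^ H.n) (X : ℕ)
    (hX : ∀ w ∈ sing R, X ≤ Nat.card (sideSet R w))
    (hcov : ∀ w ∈ sing R, ∀ v : sideSet R w, ∃ i ∈ s, w ∈ A i ∧ v.1 ∈ W i) :
    Nat.card (sing R) * X ≤ s.card * (a * (Nat.card F ^ H.n - Nat.card F)) := by
  classical
  cases nonempty_fintype U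
  let P2 : Finset (U × U) := Finset.univ.filter fun p =>
    p.1 ∈ sing R ∧ R p.2 = 0 ∧ polar R p.2 p.1 = 0 ∧ ∀ c : F, c • p.1 ≠ p.2
  have h1 : Nat.card (sing R) * X ≤ P2.card := by
    have e : P2.card = ∑ w : sing R, Nat.card (sideSet R w.1) := by
      rw [← Nat.card_sigma, ← Fintype.card_coe, ← Nat.card_eq_fintype_card]
      exact Nat.card_congr
        { toFun := fun p => ⟨⟨p.1.1, (Finset.mem_filter.1 p.2).2.1⟩,
            p.1.2, (Finset.mem_filter.1 p.2).2.2⟩
          invFun := fun p => ⟨(p.1.1, p.2.1), Finset.mem_filter.2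
            ⟨Finset.mem_univ _, p.1.2, p.2.2⟩⟩
          left_inv := fun p => rfl
          right_inv := fun p => rfl }
    rw [e, Nat.card_eq_fintype_card (α := sing R)]
    refine le_trans ?_ (Finset.sum_le_sum fun w _ => hX w.1 w.2)
    simp
  let B : ι → Finset (U × U) := fun i => P2.filter fun p => p.1 ∈ A i ∧ p.2 ∈ W i
  have h2 : P2 ⊆ s.biUnion B := by
    intro p hp
    obtain ⟨i, hi, hwA, hvW⟩ := hcov p.1 (Finset.mem_filter.1 hp).2.1
      ⟨p.2, (Finset.mem_filter.1 hp).2.2⟩
    exact Finset.mem_biUnion.2 ⟨i, hi, Finset.mem_filter.2 ⟨hp, hwA, hvW⟩⟩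
  refine h1.trans ((Finset.card_le_card h2).trans (Finset.card_biUnion_le_card_mul _ _ _ ?_))
  intro i hi
  let I : Finset U := Finset.univ.filter fun w => w ∈ A i ∧ w ∈ sing R
  have hI : I.card ≤ a := by
    refine le_trans ?_ (hA i hi)
    rw [Nat.card_eq_fintype_card, Fintype.card_subtype]
  refine le_trans (Finset.card_le_mul_card_image (f := fun p : U × U => p.1) (B i)
    (Nat.card F ^ H.n - Nat.card F) ?_) ?_
  · intro w hw
    obtain ⟨p, hp, rfl⟩ := Finset.mem_image.1 hw
    obtain ⟨hp2, hwA, -⟩ := Finset.mem_filter.1 hp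
    have hw0 := (Finset.mem_filter.1 hp2).2.1.1
    let K : Finset U := Finset.univ.filter fun v => v ∈ W i ∧ ¬ v ∈ F ∙ p.1
    have hK : K.card + Nat.card F ≤ Nat.card F ^ H.n := by
      refine le_trans ?_ (hW i hi)
      have e1 : Nat.card (W i) = Nat.card {v : U // v ∈ W i ∧ v ∈ F ∙ p.1} +
          Nat.card {v : U // v ∈ W i ∧ ¬ v ∈ F ∙ p.1} :=
        card_split (fun v => v ∈ W i) (fun v => v ∈ F ∙ p.1)
      have e2 : Nat.card {v : U // v ∈ W i ∧ ¬ v ∈ F ∙ p.1} = K.card := by
        rw [Nat.card_eq_fintype_card, Fintype.card_subtype]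
      have e3 : Nat.card F ≤ Nat.card {v : U // v ∈ W i ∧ v ∈ F ∙ p.1} := by
        refine Nat.card_le_card_of_injective (fun c => ⟨c • p.1,
          (W i).smul_mem c (hAW i hi hwA),
          Submodule.smul_mem _ c (Submodule.mem_span_singleton_self _)⟩) fun c c' e => ?_
        exact smul_left_injective F hw0 (congrArg Subtype.val e)
      rw [e1, e2]
      omega
    refine le_trans (Finset.card_le_card_of_injOn (fun x => x.2) (t := K) ?_ ?_)
      (Nat.le_sub_of_add_le hK)
    · intro x hx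
      obtain ⟨hxB, hx1⟩ := Finset.mem_filter.1 hx
      obtain ⟨hx2, -, hxW⟩ := Finset.mem_filter.1 hxB
      refine Finset.mem_filter.2 ⟨Finset.mem_univ _, hxW, fun hmem => ?_⟩
      obtain ⟨c, hc⟩ := Submodule.mem_span_singleton.1 hmem
      exact (Finset.mem_filter.1 hx2).2.2.2.2 c (by rw [hx1]; exact hc)
    · intro x hx y hy e
      exact Prod.ext ((Finset.mem_filter.1 hx).2.trans (Finset.mem_filter.1 hy).2.symm) e
  · rw [mul_comm a]
    refine Nat.mul_le_mul_left _ (le_trans (Finset.card_le_card ?_) hI)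
    intro w hw
    obtain ⟨p, hp, rfl⟩ := Finset.mem_image.1 hw
    obtain ⟨hp2, hwA, -⟩ := Finset.mem_filter.1 hp
    exact Finset.mem_filter.2 ⟨Finset.mem_univ _, hwA, (Finset.mem_filter.1 hp2).2.1⟩

end Hyp

end CfsgLib.MinIndexOrth
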