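import Cfsg.Agent.Lib.MinIndexOrth.Main
import Mathlib.Analysis.Fourier.FiniteAbelian.PontryaginDuality

/-!
The minimal index of a proper subgroup of `PΩ` and its attainment by the stabiliser of a singular
point.
-/

set_option autoImplicit false
set_option linter.unusedSectionVars false

namespace CfsgLib.MinIndexOrth

open QuadraticMap Module CfsgLib.Classical.Quad

variable {F U : Type*} [Field F] [AddCommGroup U] [Module F U] {R : QuadraticForm F U}
variable [Finite F] [Finite U] [FiniteDimensional F U]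

/-- The witness used against a regular action of degree `|U|`. -/
def HasTwist (R : QuadraticForm F U) : Prop :=
  ∃ (a b : U) (ha : R a = 0) (hab : polar R a b = 0) (l : Fˣ) (h : Orth R),
    R b = 0 ∧ a ≠ 0 ∧ (∀ c : F, c • a ≠ b) ∧ levO R l h ∈ siegelGroup (plane R) ∧
      h * siegel R a b ha hab = siegel R a b ha hab * h ∧
      ∀ c, (l : F) • h.1 c = c → c = 0

theorem hasTwist_of_four_le (H : Hyp R) (hq : 4 ≤ Nat.card F) : HasTwist R := by
  obtain ⟨s, hs0, hs⟩ := CfsgLib.Linear.exists_sq_ne_one_of_four_le_card (F := F) hq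
  refine ⟨H.P.e₁, H.P.e₂, H.P.pair₁.1, H.P.e₁e₂, Units.mk0 s hs0 * Units.mk0 s hs0, 1,
    H.P.pair₂.1, H.P.pair₁.left_ne_zero, H.P.e₁_indep_e₂, ?_, by rw [one_mul, mul_one],
    fun c hc => ?_⟩
  · rw [← diagO_eq_levO]
    exact diagO_sq_mem H.hnd H.P _
  · rw [Units.val_mul, Units.val_mk0, one_apply, ← sub_eq_zero] at hc
    have h1 : (s * s - 1) • c = 0 := by linear_combination (norm := module) hc
    exact (smul_eq_zero.1 h1).resolve_left (sub_ne_zero.2 (by rwa [← pow_two]))

/-- The minimal index of a proper subgroup of `Ω(V)`. -/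
theorem index_ge (H : Hyp R)
    (hexc : 4 ≤ Nat.card F → Nat.card (Pts R) ≤ (Nat.card F + 2) * Nat.card (sing R))
    (hz : HasTwist R) {K : Subgroup (siegelGroup (plane R))} (hK : K ≠ ⊤) :
    Nat.card (Pts R) ≤ K.index := by
  have : Finite (Orth (plane R)) :=
    Finite.of_injective (fun g => (g.1 : ((F × F) × U) → (F × F) × U)) fun g h e =>
      orth_ext (congrFun e)
  obtain ⟨χ, hχ⟩ : ∃ χ : AddChar F ℂ, χ ≠ 1 := by
    obtain ⟨χ, hχ⟩ := AddChar.exists_apply_ne_zero.2 (one_ne_zero : (1 : F) ≠ 0)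
    exact ⟨χ, AddChar.ne_one_iff.2 ⟨1, hχ⟩⟩
  rw [Subgroup.index_eq_card]
  refine card_ge (Ω := siegelGroup (plane R) ⧸ K) H χ ?_ hexc hχ hz
  have h1 : K.index ≠ 1 := fun h => hK (Subgroup.index_eq_one.1 h)
  have h0 : K.index ≠ 0 := Subgroup.index_ne_zero_of_finite
  rw [← Subgroup.index_eq_card]
  omega

/-- The minimal index of a proper subgroup of `PΩ(V)`, attained at a singular point. -/
theorem pomega_min_index {ι : Type} [Fintype ι] [DecidableEq ι] {Qf : (ι → F) → F} (H : Hyp R)
    (hexc : 4 ≤ Nat.card F → Nat.card (Pts R) ≤ (Nat.card F + 2) * Nat.card (sing R))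
    (hz : HasTwist R) (e : (ι → F) ≃ₗ[F] (F × F) × U) (he : ∀ v, plane R (e v) = Qf v) :
    (∀ K : Subgroup (Cfsg.POmega F Qf), K ≠ ⊤ → Nat.card (Pts R) ≤ K.index) ∧
      ∃ K : Subgroup (Cfsg.POmega F Qf), K.index = Nat.card (Pts R) := by
  set φ := pomegaEquiv e he (ndPolar_plane H.hnd) (planeFrame H.P)
  let π : siegelGroup (plane R) →* Cfsg.POmega F Qf :=
    φ.symm.toMonoidHom.comp (QuotientGroup.mk' (Subgroup.center (siegelGroup (plane R))))
  have hs : Function.Surjective π := φ.symm.surjective.comp (QuotientGroup.mk'_surjective _)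
  have hker : π.ker = Subgroup.center (siegelGroup (plane R)) := by
    ext g
    rw [MonoidHom.mem_ker]
    show φ.symm (QuotientGroup.mk' _ g) = 1 ↔ _
    rw [MulEquiv.map_eq_one_iff, QuotientGroup.mk'_apply, QuotientGroup.eq_one_iff]
  refine ⟨fun K hK => ?_, ?_⟩
  · rw [← Subgroup.index_comap_of_surjective K hs]
    refine index_ge H hexc hz fun h => hK ?_
    rw [← Subgroup.map_comap_eq_self_of_surjective hs K, h,
      Subgroup.map_top_of_surjective _ hs]
  · have := isPretransitive_pts H.hnd H.P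
    refine ⟨(MulAction.stabilizer (siegelGroup (plane R)) (pP R)).map π, ?_⟩
    rw [Subgroup.index_map_eq _ hs (hker ▸ center_le_stabilizer_pts H.hnd H.P (pP R)),
      MulAction.index_stabilizer_of_transitive]

end CfsgLib.MinIndexOrth
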