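import Cfsg.Agent.Lib.MinIndexOrth.Singular
import Cfsg.Agent.Lib.Classical.Quad.Std

/-!
The minimal index of a proper subgroup of `Ω(V)` and of `PΩ(V)` is the number of singular points.
-/

set_option autoImplicit false
set_option linter.unusedSectionVars false

namespace CfsgLib.MinIndexOrth

open QuadraticMap Module CfsgLib.Classical.Quad

variable {F U : Type*} [Field F] [AddCommGroup U] [Module F U] {R : QuadraticForm F U}
variable {Ω : Type*} [MulAction (siegelGroup (plane R)) Ω]

/-- The root group of `v` acts freely at `x`. -/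
def RegAt (R : QuadraticForm F U) {Ω : Type*} [MulAction (siegelGroup (plane R)) Ω] (x : Ω)
    (v : (F × F) × U) : Prop :=
  ∀ (w : (F × F) × U) (hv : plane R v = 0) (hw : polar (plane R) v w = 0),
    (⟨_, siegel_mem hv hw⟩ : siegelGroup (plane R)) • x = x →
      siegel (plane R) v w hv hw = 1

theorem regAt_smul {g : siegelGroup (plane R)} {x : Ω} {v : (F × F) × U} (h : RegAt R x v) :
    RegAt R (g • x) (g.1.1 v) := by
  intro w hv hw hx
  have hv' : plane R v = 0 := by rw [← orth_Q g.1, hv]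
  have hw' : polar (plane R) v ((g.1⁻¹).1 w) = 0 := by
    rw [← orth_polar g.1, self_apply_inv]
    exact hw
  have hc : g.1 * siegel (plane R) v _ hv' hw' * g.1⁻¹ = siegel (plane R) (g.1.1 v) w hv hw := by
    rw [siegel_conj]
    exact siegel_congr _ _ _ _ rfl (self_apply_inv _ _)
  have e : (⟨_, siegel_mem hv hw⟩ : siegelGroup (plane R)) * g = g * ⟨_, siegel_mem hv' hw'⟩ :=
    Subtype.ext (mul_inv_eq_iff_eq_mul.1 hc).symm
  rw [← mul_smul, e, mul_smul, smul_left_cancel_iff] at hx
  rw [← hc, h _ hv' hw' hx, mul_one, mul_inv_cancel]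

theorem regAt_const_smul {x : Ω} {v : (F × F) × U} {c : F} (hc : c ≠ 0) (h : RegAt R x v) :
    RegAt R x (c • v) := by
  intro w hv hw hx
  have hv' : plane R v = 0 := by
    rw [QuadraticMap.map_smul, smul_eq_mul] at hv
    exact (mul_eq_zero.1 hv).resolve_left (mul_ne_zero hc hc)
  have hw0 : polar (plane R) v w = 0 := by
    rw [polar_smul_left, smul_eq_mul] at hw
    exact (mul_eq_zero.1 hw).resolve_left hc
  have hw' : polar (plane R) v (c • w) = 0 := by rw [polar_smul_right, hw0, smul_zero]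
  have e : siegel (plane R) (c • v) w hv hw = siegel (plane R) v (c • w) hv' hw' :=
    siegel_smul_left c hv' hw0
  have e' : (⟨_, siegel_mem hv hw⟩ : siegelGroup (plane R)) = ⟨_, siegel_mem hv' hw'⟩ :=
    Subtype.ext e
  rw [e] ; exact h _ hv' hw' (by rw [← e']; exact hx)

/-- The root group of the point `p` acts freely at `x`. -/
def RegP (R : QuadraticForm F U) {Ω : Type*} [MulAction (siegelGroup (plane R)) Ω] (x : Ω)
    (p : Pts R) : Prop :=
  ∀ v : SingVec (plane R), (⟦v⟧ : Pts R) = p → RegAt R x v.1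

variable [Finite F] [Finite U] [FiniteDimensional F U]

theorem regP_smul_iff {g : siegelGroup (plane R)} {x : Ω} {p : Pts R} :
    RegP R (g • x) (g • p) ↔ RegP R x p := by
  have key : ∀ (g : siegelGroup (plane R)) (x : Ω) (p : Pts R), RegP R x p →
      RegP R (g • x) (g • p) := by
    intro g x p h v hv
    have h1 : (⟦singPerm (plane R) (g⁻¹ : siegelGroup (plane R)).1 v⟧ : Pts R) = p := by
      rw [← smul_mk_pts, hv, inv_smul_smul]
    have h2 := regAt_smul (g := g) (h _ h1)
    have e : g.1.1 ((singPerm (plane R) (g⁻¹ : siegelGroup (plane R)).1 v).1) = v.1 :=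
      self_apply_inv g.1 v.1
    rwa [e] at h2
  refine ⟨fun h => ?_, key g x p⟩
  have := key g⁻¹ _ _ h
  rwa [inv_smul_smul, inv_smul_smul] at this

/-- The singular point of `eP`. -/
def pP (R : QuadraticForm F U) : Pts R :=
  ⟦⟨eP F U, fun h => by simpa [eP] using congrArg (fun v => v.1.1) h, Q_eP⟩⟧

theorem sgQ_inj {a : U} (h : sgQ R a = 1) : a = 0 := by
  have h1 := congrArg (fun g : siegelGroup (plane R) => (g.1.1 ((0, 1), 0)).2) h
  rw [show (((sgQ R a).1.1 ((0, 1), 0)).2) = a by rw [sgQ_apply]; simp] at h1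
  simpa using h1

theorem regP_pP_iff {x : Ω} : RegP R x (pP R) ↔ Rs R x = ⊥ := by
  constructor
  · intro h
    refine (AddSubgroup.eq_bot_iff_forall _).2 fun a ha => ?_
    have h1 := h _ rfl (iu F a) Q_eP (polar_eP_iu a) (mem_Rs.1 ha)
    exact sgQ_inj (Subtype.ext h1)
  · intro h v hv
    obtain ⟨c, hc⟩ := Quotient.exact hv.symm
    have hc0 : c ≠ 0 := by
      rintro rfl
      exact v.2.1 (by rw [← hc, zero_smul])
    rw [← hc]
    refine regAt_const_smul hc0 fun w hv' hw hx => ?_
    obtain ⟨⟨p, s⟩, a⟩ := w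
    have hs : s = 0 := by simpa [polar_plane, eP, polar_zero_left] using hw
    have e : siegel (plane R) (eP F U) ((p, s), a) hv' hw = (sgQ R a).1 := by
      show siegel _ _ _ hv' hw = siegel _ _ _ Q_eP (polar_eP_iu a)
      rw [← siegel_add_smul p Q_eP (polar_eP_iu a)]
      exact siegel_congr _ _ _ _ rfl (by simp [iu, eP, hs])
    have e' : (⟨_, siegel_mem hv' hw⟩ : siegelGroup (plane R)) = sgQ R a := Subtype.ext e
    rw [e'] at hx
    have ha : a = 0 := by
      have : a ∈ Rs R x := mem_Rs.2 hx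
      rwa [h, AddSubgroup.mem_bot] at this
    show siegel (plane R) (eP F U) ((p, s), a) hv' hw = 1
    rw [e, ha, sgQ_zero, OneMemClass.coe_one]

variable [Finite Ω] [MulAction.IsPretransitive (siegelGroup (plane R)) Ω]
variable (H : Hyp R) (χ : AddChar F ℂ) (hχ : χ ≠ 1) (hne : 1 < Nat.card Ω)
variable (hlt : Nat.card Ω < Nat.card (Pts R))
variable (hexc : 4 ≤ Nat.card F → Nat.card (Pts R) ≤ (Nat.card F + 2) * Nat.card (sing R))

include H hχ hne hlt hexc

/-- An annihilator is everything or lies in a line. -/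
theorem classify (o : Orb R Ω) :
    oA χ o = ⊤ ∨ ∃ w : U, ∀ x ∈ oA χ o, ∃ c : F, x = c • w := by
  by_cases htop : oA χ o = ⊤
  · exact Or.inl htop
  right
  by_cases hns : ∃ a ∈ oA χ o, R a ≠ 0
  · obtain ⟨a, hao, ha⟩ := hns
    exact ⟨a, nonsingular_class H χ hχ hlt ha hao htop⟩
  · push Not at hns
    exact singular_class H χ hχ hne hlt hns hexc

/-- No point is fixed by the radical. -/
theorem oA_ne_bot (o : Orb R Ω) : oA χ o ≠ ⊥ := by
  intro hbot
  obtain ⟨x, rfl⟩ := omk_surjective o
  have hRs : Rs R x = ⊤ := by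
    have h := card_oA H.hnd χ hχ (omk R x)
    rw [hbot, AddSubgroup.card_bot, one_mul] at h
    exact AddSubgroup.eq_top_of_card_eq _ h
  obtain ⟨x', hsing, u, hu0, hu⟩ := exists_singular_Rs H hne hlt (eP_mem_Tset_iff.2 hRs)
  have hq1 := Hyp.one_lt_q (F := F)
  have hN := H.hN
  have hR : Nat.card (Rs R x') ≤ Nat.card F ^ H.n := by
    refine le_trans (Nat.card_le_card_of_injective
      (fun a => (⟨a.1, Submodule.subset_span a.2⟩ : Submodule.span F (Rs R x' : Set U)))
      fun a b h => Subtype.ext (congrArg Subtype.val h :)) ?_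
    exact H.card_span_le hsing fun a ha b hb =>
      polar_eq_zero_of_singular (hsing a ha) (hsing b hb) (hsing _ (add_mem ha hb))
  have h := card_oA H.hnd χ hχ (omk R x')
  rw [oR_omk, card_univ_eq (F := F) (U := U)] at h
  rcases classify H χ hχ hne hlt hexc (omk R x') with htop | ⟨w, hw⟩
  · rw [htop, AddSubgroup.card_top, card_univ_eq (F := F) (U := U)] at h
    have h1 : Nat.card (Rs R x') = 1 :=
      Nat.eq_of_mul_eq_mul_left (show 0 < Nat.card F ^ finrank F U from pow_pos (by omega) _)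
        (h.trans (mul_one _).symm)
    rw [AddSubgroup.card_eq_one] at h1
    have h2 := hu 1
    rw [h1, AddSubgroup.mem_bot, one_smul] at h2
    exact hu0 h2
  · have hA : Nat.card (oA χ (omk R x')) ≤ Nat.card F := by
      refine le_trans (Nat.card_le_card_of_injective (fun a => (⟨a.1, by
        obtain ⟨c, hc⟩ := hw a.1 a.2
        rw [hc]
        exact Submodule.smul_mem _ _ (Submodule.mem_span_singleton_self w)⟩ : F ∙ w))
        fun a b h => Subtype.ext (congrArg Subtype.val h :)) (Hyp.card_line w)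
    have h1 : Nat.card F ^ finrank F U ≤ Nat.card F ^ (H.n + 1) := by
      rw [← h, pow_succ, mul_comm (Nat.card F ^ H.n)]
      exact Nat.mul_le_mul hA hR
    have := (Nat.pow_le_pow_iff_right hq1).1 h1
    omega

/-- Some orbit is regular. -/
theorem exists_regular : ∃ o : Orb R Ω, oA χ o = ⊤ := by
  classical
  by_contra hno
  push Not at hno
  have hline : ∀ o : Orb R Ω, ∃ w : U, ∀ x ∈ oA χ o, ∃ c : F, x = c • w := fun o =>
    (classify H χ hχ hne hlt hexc o).resolve_left (hno o)
  obtain ⟨x₀⟩ : Nonempty Ω := (Nat.card_pos_iff.1 (by omega : 0 < Nat.card Ω)).1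
  set o := omk R x₀
  obtain ⟨w, hw⟩ := hline o
  obtain ⟨v, hv, hv0⟩ : ∃ v ∈ oA χ o, v ≠ 0 := by
    by_contra hcon
    push Not at hcon
    exact oA_ne_bot H χ hχ hne hlt hexc o ((AddSubgroup.eq_bot_iff_forall _).2 hcon)
  obtain ⟨t, rfl⟩ := hw v hv
  have ht : t ≠ 0 := by rintro rfl; simp at hv0
  have hw0 : w ≠ 0 := by rintro rfl; simp at hv0
  obtain ⟨a, ha0, haQ, haw, hai⟩ := exists_singular_perp H.hnd H.P hw0
  obtain ⟨u, -, hu, hua, hui⟩ := exists_singular_perp H.hnd H.P ha0
  obtain ⟨b, hbQ, hba, hbw⟩ := exists_singular_sep H.hnd ha0 hu hua hui (y := w) fun c hc => by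
    by_cases hc0 : c = 0
    · exact hw0 (by rw [hc, hc0, zero_smul])
    · exact hai c⁻¹ (by rw [hc, smul_smul, inv_mul_cancel₀ hc0, one_smul])
  have hab : polar R a b = 0 := by rw [polar_comm]; exact hba
  have hind : ∀ c : F, c • a ≠ b := fun c hc => hbw (by rw [← hc, polar_smul_left, haw, smul_zero])
  obtain ⟨kc, hkc⟩ := exists_conj_root H.hnd H.P haQ hbQ hab hind ha0
  set g := mkL R (siegel_mem (Q := R) haQ hab)
  have hfix : Nat.card {x : Ω // g.1 • x = x} = Nat.card {x : Ω // sgQ R (-a) • x = x} := by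
    have hg' : g.1 = ⟨_, liftO_mem (siegel_mem (w := b) haQ hab)⟩ := Subtype.ext (mkL_coe _)
    rw [← hkc, hg']
    refine Nat.card_congr ((MulAction.toPerm kc).subtypeEquiv fun x => ?_)
    show _ ↔ (kc * _ * kc⁻¹) • kc • x = kc • x
    rw [← mul_smul, mul_assoc, inv_mul_cancel, mul_one, mul_smul, smul_left_cancel_iff]
  have hperp : ∀ o' : Orb R Ω, g • o' = o' → ∀ x ∈ oA χ o',
      polar R x a = 0 ∧ polar R x b = 0 := by
    intro o' hgo x hx
    by_cases hx0 : x = 0
    · simp [hx0]
    obtain ⟨w', hw'⟩ := hline o'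
    have hgx : (siegel R a b haQ hab).1 x ∈ oA χ o' := by
      have := (oA_mkL χ (siegel_mem (Q := R) haQ hab) o' x).2 hx
      rwa [hgo] at this
    obtain ⟨c₁, hc₁⟩ := hw' x hx
    obtain ⟨c₂, hc₂⟩ := hw' _ hgx
    have hc1 : c₁ ≠ 0 := by rintro rfl; exact hx0 (by rw [hc₁, zero_smul])
    set c := c₂ / c₁
    have hcx : (siegel R a b haQ hab).1 x = c • x := by
      rw [hc₂, hc₁, smul_smul, div_mul_cancel₀ _ hc1]
    rw [siegel_apply, hbQ, zero_mul, sub_zero] at hcx
    have key : polar R x a = 0 ∧ polar R x b = 0 := by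
      by_cases hc' : c = 1
      · rw [hc', one_smul, add_assoc, add_eq_left] at hcx
        obtain ⟨h1, h2⟩ := LinearIndependent.pair_iff.1 (not_smul_eq_of_indep ha0 hind) _ _ hcx
        exact ⟨h1, by simpa using h2⟩
      · have hp : ∀ z, polar R a z = 0 → polar R b z = 0 → (c - 1) * polar R x z = 0 := by
          intro z h1 h2
          have h3 := congrArg (fun y => polar R y z) hcx
          simp only [polar_add_left, polar_smul_left, h1, h2, smul_eq_mul, mul_zero, add_zero] at h3
          linear_combination -h3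
        exact ⟨(mul_eq_zero.1 (hp a (polar_singular_self haQ) hba)).resolve_left
            (sub_ne_zero.2 hc'),
          (mul_eq_zero.1 (hp b hab (polar_singular_self hbQ))).resolve_left (sub_ne_zero.2 hc')⟩
    exact key
  have hlt' : Nat.card {x : Ω // g.1 • x = x} < Nat.card {x : Ω // sgQ R (-a) • x = x} := by
    rw [card_fix_sgQ H.hnd χ hχ]
    refine lt_of_le_of_lt (card_fix_lev_le H.hnd χ hχ g)
      (Finset.sum_lt_sum_of_subset (i := o) ?_ ?_ ?_ Nat.card_pos fun _ _ _ => Nat.zero_le _)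
    · intro o' ho'
      refine Finset.mem_filter.2 ⟨Finset.mem_univ _, neg_mem (mem_oR_of_perp H.hnd χ hχ ?_)⟩
      exact fun x hx => (hperp o' (Finset.mem_filter.1 ho').2 x hx).1
    · refine Finset.mem_filter.2 ⟨Finset.mem_univ _, neg_mem (mem_oR_of_perp H.hnd χ hχ ?_)⟩
      intro x hx
      obtain ⟨c, rfl⟩ := hw x hx
      rw [polar_smul_left, polar_comm R w a, haw, smul_zero]
    · intro ho
      have h1 := (hperp o (Finset.mem_filter.1 ho).2 _ hv).2
      rw [polar_smul_left, smul_eq_mul] at h1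
      exact hbw (by rw [polar_comm]; exact (mul_eq_zero.1 h1).resolve_left ht)
  omega

omit hne hexc hlt hχ in
theorem sing_twice : 2 * Nat.card (sing R) + 2 ≤ Nat.card F ^ finrank F U := by
  have h1 := H.hcl H.P.a H.P.Qa
  have h2 := H.hS
  have h3 : Nat.card (cls R H.P.a) + Nat.card {v : U // R v = 0} ≤ Nat.card U := by
    classical
    rw [← Nat.card_sum]
    refine Nat.card_le_card_of_injective (Sum.elim Subtype.val Subtype.val) ?_
    have hne' : ∀ (v : cls R H.P.a) (w : {v : U // R v = 0}), v.1 ≠ w.1 := by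
      intro v w e
      obtain ⟨s, hs, hR⟩ := v.2
      rw [e, w.2] at hR
      exact mul_ne_zero (mul_ne_zero hs hs) H.P.Qa hR.symm
    rintro (v | v) (w | w) e
    · exact congrArg Sum.inl (Subtype.ext e)
    · exact absurd e (hne' v w)
    · exact absurd e.symm (hne' w v)
    · exact congrArg Sum.inr (Subtype.ext e)
  rw [card_univ_eq (F := F) (U := U), Hyp.card_zeros_eq] at h3
  omega

/-- The degree is the order of `U`, and the radical is regular. -/
theorem all_regular : ∀ x : Ω, Rs R x = ⊥ := by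
  classical
  cases nonempty_fintype Ω
  obtain ⟨o₀, ho₀⟩ := exists_regular H χ hχ hne hlt hexc
  have hq1 := Hyp.one_lt_q (F := F)
  set q := Nat.card F
  set QN := q ^ finrank F U with hQN
  have htop : ∀ o : Orb R Ω, oA χ o = ⊤ → Nat.card (oA χ o) = QN := fun o ho => by
    rw [ho, AddSubgroup.card_top, card_univ_eq (F := F) (U := U)]
  have hsum := card_eq_sum (Ω := Ω) H.hnd χ hχ
  have hP := Hyp.card_pts_sub (R := R)
  have hS2 := sing_twice H
  change Nat.card (Pts R) * (q - 1) = (q - 1) * QN + q * Nat.card (sing R) + (q - 1) at hP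
  change 2 * Nat.card (sing R) + 2 ≤ QN at hS2
  obtain ⟨q', hq'⟩ : ∃ q', q = q' + 2 := ⟨q - 2, by omega⟩
  rw [hq', show q' + 2 - 1 = q' + 1 by omega] at hP
  -- the regular orbit is unique
  have hone : ∀ o : Orb R Ω, oA χ o = ⊤ → o = o₀ := by
    intro o ho
    by_contra hne'
    have h := sum_le (Ω := Ω) H.hnd χ hχ {o, o₀}
    rw [Finset.sum_pair hne', htop o ho, htop o₀ ho₀] at h
    have : Nat.card (Pts R) * (q' + 1) ≤ (QN + QN) * (q' + 1) := by
      rw [hP]
      nlinarith [Nat.zero_le q', Nat.mul_le_mul_left q' hS2]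
    have := Nat.le_of_mul_le_mul_right this (by omega)
    omega
  set rest := Finset.univ.erase o₀ with hrest
  have hd : Nat.card Ω = QN + ∑ o ∈ rest, Nat.card (oA χ o) := by
    rw [hsum, ← Finset.add_sum_erase _ _ (Finset.mem_univ o₀), htop o₀ ho₀]
  have hsmall : ∀ o ∈ rest, Nat.card (oA χ o) ≤ q := by
    intro o ho
    rcases classify H χ hχ hne hlt hexc o with h | ⟨w, hw⟩
    · exact absurd (hone o h) (Finset.ne_of_mem_erase ho)
    · refine le_trans (Nat.card_le_card_of_injective (fun a => (⟨a.1, by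
        obtain ⟨c, hc⟩ := hw a.1 a.2
        rw [hc]
        exact Submodule.smul_mem _ _ (Submodule.mem_span_singleton_self w)⟩ : F ∙ w))
        fun a b h => Subtype.ext (congrArg Subtype.val h :)) (Hyp.card_line w)
  rcases Finset.eq_empty_or_nonempty rest with hempty | ⟨o₁, ho₁⟩
  · intro x
    have e : omk R x = o₀ := by
      by_contra hne'
      have : omk R x ∈ rest := Finset.mem_erase.2 ⟨hne', Finset.mem_univ _⟩
      rw [hempty] at this
      simp at this
    have h := card_oA H.hnd χ hχ (omk R x)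
    rw [e, ho₀, AddSubgroup.card_top] at h
    have h1 : Nat.card (oR o₀) = 1 :=
      Nat.eq_of_mul_eq_mul_left (show 0 < Nat.card U from Nat.card_pos) (h.trans (mul_one _).symm)
    rw [← oR_omk, e]
    exact AddSubgroup.card_eq_one.1 h1
  exfalso
  -- the other orbits cover all singular vectors
  obtain ⟨v, hv, hv0⟩ : ∃ v ∈ oA χ o₁, v ≠ 0 := by
    by_contra hcon
    push Not at hcon
    exact oA_ne_bot H χ hχ hne hlt hexc o₁ ((AddSubgroup.eq_bot_iff_forall _).2 hcon)
  let C : Set U := if R v = 0 then sing R else cls R v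
  have hCS : Nat.card (sing R) ≤ Nat.card C := by
    by_cases h0 : R v = 0
    · rw [show C = sing R from if_pos h0]
    · rw [show C = cls R v from if_neg h0]
      exact le_trans H.hS.le (H.hcl v h0)
  have hcov : 1 * Nat.card C * q ≤ (∑ o ∈ rest, Nat.card (oA χ o)) * (q - 1) := by
    refine le_card_of_cover H.hnd χ hχ rest C 1 q (q - 1) (fun z hz => ?_) fun o ho => ?_
    · obtain ⟨k, hk⟩ : ∃ k : levG R, z ∈ oA χ (k • o₁) := by
        by_cases h0 : R v = 0
        · rw [show C = sing R from if_pos h0] at hz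
          obtain ⟨h, hh, rfl⟩ := level_trans H.hnd H.P hv0 hz.1 (h0.trans hz.2.symm)
          exact ⟨mkL R hh, (oA_mkL χ hh o₁ v).2 hv⟩
        · rw [show C = cls R v from if_neg h0] at hz
          obtain ⟨l, h, hm, rfl⟩ := exists_lev_cls H h0 hz
          exact ⟨mkLev R l h hm, (oA_mkLev χ l h hm o₁ v).2 hv⟩
      refine Finset.card_pos.2 ⟨k • o₁, Finset.mem_filter.2 ⟨Finset.mem_erase.2 ⟨fun e => ?_,
        Finset.mem_univ _⟩, hk⟩⟩
      have h1 := card_oA_smul χ k o₁
      rw [e, htop o₀ ho₀] at h1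
      have h2 := hsmall o₁ ho₁
      have h3 : q < QN := by
        rw [hQN]
        calc q = q ^ 1 := (pow_one q).symm
          _ < _ := Nat.pow_lt_pow_right hq1 (by have := H.hN; omega)
      omega
    · have h0 : (0 : U) ∉ C := by
        by_cases h : R v = 0
        · rw [show C = sing R from if_pos h]
          exact fun h' => h'.1 rfl
        · rw [show C = cls R v from if_neg h]
          rintro ⟨s, hs, hR⟩
          rw [QuadraticMap.map_zero] at hR
          exact mul_ne_zero (mul_ne_zero hs hs) h hR.symm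
      have h1 : Nat.card {z : U // z ∈ C ∧ z ∈ oA χ o} < Nat.card (oA χ o) := by
        have hsp := card_split (fun z : U => z ∈ oA χ o) (fun z => z ∈ C)
        have hpos : 0 < Nat.card {z : U // z ∈ oA χ o ∧ ¬ z ∈ C} :=
          Nat.card_pos_iff.2 ⟨⟨⟨0, zero_mem _, h0⟩⟩, inferInstance⟩
        rw [Nat.card_congr (Equiv.subtypeEquivRight fun z => (and_comm : z ∈ C ∧ z ∈ oA χ o ↔ _))]
        show _ < Nat.card {z : U // z ∈ oA χ o}
        omega
      have h2 := hsmall o ho
      have h3 : Nat.card (oA χ o) * (q - 1) + Nat.card (oA χ o) = Nat.card (oA χ o) * q := by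
        rw [Nat.mul_sub_one, Nat.sub_add_cancel (Nat.le_mul_of_pos_right _ (by omega))]
      have h4 := Nat.mul_le_mul_right q (show Nat.card {z : U // z ∈ C ∧ z ∈ oA χ o} + 1 ≤ _ from h1)
      rw [add_mul, one_mul] at h4
      omega
  set r := ∑ o ∈ rest, Nat.card (oA χ o)
  rw [one_mul, hq', show q' + 2 - 1 = q' + 1 by omega] at hcov
  clear hexc
  have hrle : QN + r + 1 ≤ Nat.card (Pts R) := by omega
  have h1 : (r + 1) * (q' + 1) ≤ (q' + 2) * Nat.card (sing R) + (q' + 1) := by
    have := Nat.mul_le_mul_right (q' + 1) hrle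
    rw [hP] at this
    nlinarith
  have hreq : r * (q' + 1) = (q' + 2) * Nat.card (sing R) := by nlinarith
  have hd1 : Nat.card Ω + 1 = Nat.card (Pts R) := by
    refine Nat.eq_of_mul_eq_mul_right (show 0 < q' + 1 by omega) ?_
    rw [hP, hd, add_mul, add_mul, hreq]
    ring
  -- double counting
  have := isPretransitive_pts H.hnd H.P
  have hp0 : Nat.card {x : Ω // RegP R x (pP R)} = QN := by
    rw [← htop o₀ ho₀, ← card_fiber H.hnd χ hχ o₀]
    refine Nat.card_congr (Equiv.subtypeEquivRight fun x => ?_)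
    rw [regP_pP_iff]
    constructor
    · intro h
      refine hone _ (AddSubgroup.eq_top_of_card_eq _ ?_)
      have h' := card_oA H.hnd χ hχ (omk R x)
      rw [oR_omk, h, AddSubgroup.card_bot, mul_one] at h'
      exact h'
    · intro h
      have h' := card_oA H.hnd χ hχ (omk R x)
      rw [oR_omk, h, ho₀, AddSubgroup.card_top] at h'
      exact AddSubgroup.card_eq_one.1
        (Nat.eq_of_mul_eq_mul_left (show 0 < Nat.card U from Nat.card_pos) (h'.trans (mul_one _).symm))
  have hcol : ∀ p : Pts R, Nat.card {x : Ω // RegP R x p} = QN := by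
    intro p
    obtain ⟨g, rfl⟩ := MulAction.exists_smul_eq (siegelGroup (plane R)) (pP R) p
    rw [← hp0]
    exact (Nat.card_congr ((MulAction.toPerm g).subtypeEquiv fun x => regP_smul_iff.symm)).symm
  obtain ⟨x₀⟩ : Nonempty Ω := (Nat.card_pos_iff.1 (by omega : 0 < Nat.card Ω)).1
  have hrow : ∀ x : Ω, Nat.card {p : Pts R // RegP R x p} =
      Nat.card {p : Pts R // RegP R x₀ p} := by
    intro x
    obtain ⟨g, rfl⟩ := MulAction.exists_smul_eq (siegelGroup (plane R)) x₀ x
    exact (Nat.card_congr ((MulAction.toPerm g).subtypeEquiv fun p => regP_smul_iff.symm)).symm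
  have : Finite (SingVec (plane R)) := inferInstance
  cases nonempty_fintype (Pts R)
  have hcount : Nat.card Ω * Nat.card {p : Pts R // RegP R x₀ p} = Nat.card (Pts R) * QN := by
    have e : Nat.card (Σ x : Ω, {p : Pts R // RegP R x p}) =
        Nat.card (Σ p : Pts R, {x : Ω // RegP R x p}) :=
      Nat.card_congr
        { toFun := fun s => ⟨s.2.1, s.1, s.2.2⟩
          invFun := fun s => ⟨s.2.1, s.1, s.2.2⟩
          left_inv := fun _ => rfl
          right_inv := fun _ => rfl }
    rw [Nat.card_sigma, Nat.card_sigma, Finset.sum_congr rfl fun x _ => hrow x,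
      Finset.sum_congr rfl fun p _ => hcol p] at e
    simpa [Finset.sum_const, Nat.card_eq_fintype_card] using e
  have hdvd : Nat.card Ω ∣ QN := by
    refine (Nat.Coprime.dvd_of_dvd_mul_left ?_ ⟨_, hcount.symm⟩)
    rw [← hd1]
    exact Nat.coprime_self_add_right.2 (Nat.coprime_one_right _)
  have hle := Nat.le_of_dvd (by omega) hdvd
  have hr0 : r = 0 := by omega
  rw [hr0, zero_mul] at hreq
  have hSpos : 0 < Nat.card (sing R) :=
    Nat.card_pos_iff.2 ⟨⟨⟨H.P.e₁, H.P.pair₁.left_ne_zero, H.P.pair₁.1⟩⟩, inferInstance⟩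
  nlinarith

omit hlt hχ

/-- The minimal degree of a transitive action of `Ω(V)`. -/
theorem card_ge (hχ : χ ≠ 1)
    (hz : ∃ (a b : U) (ha : R a = 0) (hab : polar R a b = 0) (l : Fˣ) (h : Orth R),
      R b = 0 ∧ a ≠ 0 ∧ (∀ c : F, c • a ≠ b) ∧ levO R l h ∈ siegelGroup (plane R) ∧
        h * siegel R a b ha hab = siegel R a b ha hab * h ∧
        ∀ c, (l : F) • h.1 c = c → c = 0) :
    Nat.card (Pts R) ≤ Nat.card Ω := by
  by_contra hlt
  push Not at hlt
  have hreg := all_regular H χ hχ hne hlt hexc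
  obtain ⟨a, b, ha, hab, l, h, hb, ha0, hind, hm, hcomm, hinj⟩ := hz
  obtain ⟨x₀⟩ : Nonempty Ω := (Nat.card_pos_iff.1 (by omega : 0 < Nat.card Ω)).1
  have hsingle : ∀ o o' : Orb R Ω, o = o' := by
    intro o o'
    by_contra hne'
    have htop : ∀ o : Orb R Ω, Nat.card (oA χ o) = Nat.card F ^ finrank F U := fun o => by
      obtain ⟨x, rfl⟩ := omk_surjective o
      have h := card_oA H.hnd χ hχ (omk R x)
      rw [oR_omk, hreg x, AddSubgroup.card_bot, mul_one] at h
      rw [h, card_univ_eq (F := F) (U := U)]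
    classical
    have h1 := sum_le (Ω := Ω) H.hnd χ hχ {o, o'}
    rw [Finset.sum_pair hne', htop o, htop o'] at h1
    have hP := Hyp.card_pts_sub (R := R)
    have hS2 := sing_twice H
    have hq1 := Hyp.one_lt_q (F := F)
    obtain ⟨q', hq'⟩ : ∃ q', Nat.card F = q' + 2 := ⟨Nat.card F - 2, by omega⟩
    rw [hq', show q' + 2 - 1 = q' + 1 by omega] at hP
    rw [hq'] at h1 hS2
    set QN := (q' + 2) ^ finrank F U
    have : Nat.card (Pts R) * (q' + 1) ≤ (QN + QN) * (q' + 1) := by
      rw [hP]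
      nlinarith [Nat.zero_le q', Nat.mul_le_mul_left q' hS2]
    have := Nat.le_of_mul_le_mul_right this (by omega)
    omega
  set o := omk R x₀
  have hinj' : ∀ c, (l : F) • h.1 c - c ∈ oR o → c ∈ oR o := by
    intro c hc
    rw [oR_omk, hreg, AddSubgroup.mem_bot, sub_eq_zero] at hc
    rw [hinj c hc]
    exact zero_mem _
  obtain ⟨y, ⟨hy, hky⟩, huy⟩ := existsUnique_fix (hm := hm) (hsingle _ o) hinj'
  set g := mkL R (siegel_mem (Q := R) ha hab)
  have hcomm' : (mkLev R l h hm).1 * g.1 = g.1 * (mkLev R l h hm).1 := by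
    refine Subtype.ext ?_
    show levO R l h * levO R 1 (siegel R a b ha hab) = levO R 1 (siegel R a b ha hab) * levO R l h
    rw [levO_mul, levO_mul, mul_one, one_mul, hcomm]
  have hgy : g.1 • y = y := huy _ ⟨hsingle _ _, by rw [← mul_smul, hcomm', mul_smul, hky]⟩
  obtain ⟨kc, hkc⟩ := exists_conj_root H.hnd H.P ha hb hab hind ha0
  have hfix : sgQ R (-a) • kc • y = kc • y := by
    have hg' : g.1 = ⟨_, liftO_mem (siegel_mem (w := b) ha hab)⟩ := Subtype.ext (mkL_coe _)
    rw [← hkc, ← mul_smul, mul_assoc, inv_mul_cancel, mul_one, mul_smul, ← hg', hgy]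
  have h2 : -a ∈ Rs R (kc • y) := mem_Rs.2 hfix
  rw [hreg, AddSubgroup.mem_bot, neg_eq_zero] at h2
  exact ha0 h2

end CfsgLib.MinIndexOrth
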