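import Cfsg.Agent.Lib.MinIndexOrth.Index

/-!
The twisting elements for the minus forms over the fields with two and three elements.
-/

set_option autoImplicit false
set_option linter.unusedSectionVars false

namespace CfsgLib.MinIndexOrth

open QuadraticMap Module CfsgLib.Classical.Quad
open scoped commutatorElement

variable {F U : Type*} [Field F] [AddCommGroup U] [Module F U] {R : QuadraticForm F U}
variable {V' : Type*} [AddCommGroup V'] [Module F V'] {R' : QuadraticForm F V'}

/-- Squares of isometries lie in the Siegel group. -/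
theorem sq_mem_siegelGroup [FiniteDimensional F U] (hnd : NDPolar R) (P : Frame R) (g : Orth R) :
    g * g ∈ siegelGroup R := by
  have hcomm : ∀ x y : Orth R ⧸ siegelGroup R, x * y = y * x := by
    intro x y
    obtain ⟨x, rfl⟩ := QuotientGroup.mk'_surjective _ x
    obtain ⟨y, rfl⟩ := QuotientGroup.mk'_surjective _ y
    rw [← map_mul, ← map_mul, QuotientGroup.mk'_apply, QuotientGroup.mk'_apply, QuotientGroup.eq]
    refine commutator_orth_le hnd P ?_
    have e : (x * y)⁻¹ * (y * x) = ⁅y⁻¹, x⁻¹⁆ := by rw [commutatorElement_def]; group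
    rw [e]
    exact Subgroup.commutator_mem_commutator (Subgroup.mem_top _) (Subgroup.mem_top _)
  rw [← QuotientGroup.eq_one_iff, QuotientGroup.mk_mul]
  have hg : (g : Orth R ⧸ siegelGroup R) ∈ Subgroup.closure (Set.range (reflClass P)) := by
    rw [closure_reflClass hnd P]; trivial
  generalize (g : Orth R ⧸ siegelGroup R) = gq at hg ⊢
  induction hg using Subgroup.closure_induction with
  | mem x hx =>
    obtain ⟨c, rfl⟩ := hx
    exact reflClass_mul_self P c
  | one => rw [one_mul]
  | mul x y _ _ hx hy =>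
    rw [show x * y * (x * y) = x * (y * x) * y by group, hcomm y x,
      show x * (x * y) * y = (x * x) * (y * y) by group, hx, hy, one_mul]
  | inv x _ hx => rw [← mul_inv_rev, hx, inv_one]

/-- An isometry without fixed vector. -/
def HasFree (R : QuadraticForm F U) : Prop := ∃ y : Orth R, ∀ c, y.1 c = c → c = 0

/-- An isometry without fixed vector commuting with a root element. -/
def HasRootFree (R : QuadraticForm F U) : Prop :=
  ∃ (a b : U) (ha : R a = 0) (hab : polar R a b = 0) (y : Orth R), R b = 0 ∧ a ≠ 0 ∧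
    (∀ c : F, c • a ≠ b) ∧ y * siegel R a b ha hab = siegel R a b ha hab * y ∧
      ∀ c, y.1 c = c → c = 0

theorem HasFree.congr (e : U ≃ₗ[F] V') (he : ∀ x, R' (e x) = R x) (h : HasFree R) :
    HasFree R' := by
  obtain ⟨y, hy⟩ := h
  refine ⟨orthCongr e he y, fun c hc => ?_⟩
  rw [orthCongr_apply] at hc
  have h1 := hy (e.symm c) (e.injective (by rw [hc, e.apply_symm_apply]))
  rwa [LinearEquiv.map_eq_zero_iff] at h1

theorem HasRootFree.congr (e : U ≃ₗ[F] V') (he : ∀ x, R' (e x) = R x) (h : HasRootFree R) :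
    HasRootFree R' := by
  obtain ⟨a, b, ha, hab, y, hb, ha0, hind, hcomm, hy⟩ := h
  have hpol : ∀ u w, polar R' (e u) (e w) = polar R u w := fun u w => by
    simp only [polar, ← map_add, he]
  have hsg : orthCongr e he (siegel R a b ha hab) =
      siegel R' (e a) (e b) (by rw [he, ha]) (by rw [hpol, hab]) := by
    refine orth_ext fun x => ?_
    obtain ⟨u, rfl⟩ := e.surjective x
    rw [orthCongr_apply, e.symm_apply_apply, siegel_apply, siegel_apply, map_add, map_add,
      map_smul, map_smul, hpol, hpol, he]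
  refine ⟨e a, e b, by rw [he, ha], by rw [hpol, hab], orthCongr e he y, by rw [he, hb],
    (LinearEquiv.map_ne_zero_iff e).2 ha0, fun c hc => hind c (e.injective (by rw [map_smul, hc])),
    ?_, fun c hc => ?_⟩
  · rw [← hsg, ← map_mul, ← map_mul, hcomm]
  · rw [orthCongr_apply] at hc
    have h1 := hy (e.symm c) (e.injective (by rw [hc, e.apply_symm_apply]))
    rwa [LinearEquiv.map_eq_zero_iff] at h1

/-- A block without fixed vector on two hyperbolic planes. -/
def blockO (R : QuadraticForm F U) (y : Orth R) : Orth (plane (plane R)) :=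
  ⟨{ toFun := fun v => ((-v.2.1.1, v.1.2 - v.2.1.2), ((v.1.1 + v.2.1.1, v.1.2), y.1 v.2.2))
     invFun := fun v => ((v.2.1.1 + v.1.1, v.2.1.2), ((-v.1.1, v.2.1.2 - v.1.2), (y⁻¹).1 v.2.2))
     map_add' := fun v w => by
       simp only [Prod.fst_add, Prod.snd_add, map_add, Prod.mk_add_mk]
       refine Prod.ext (Prod.ext ?_ ?_) (Prod.ext (Prod.ext ?_ rfl) rfl) <;> simp <;> abel
     map_smul' := fun c v => by
       simp only [Prod.smul_fst, Prod.smul_snd, map_smul, RingHom.id_apply, Prod.smul_mk,
         smul_add, smul_sub, smul_neg]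
     left_inv := fun v => by
       refine Prod.ext (Prod.ext ?_ rfl) (Prod.ext (Prod.ext ?_ ?_) (inv_apply_self y _))
       · show v.1.1 + v.2.1.1 + -v.2.1.1 = v.1.1
         abel
       · show - -v.2.1.1 = v.2.1.1
         abel
       · show v.1.2 - (v.1.2 - v.2.1.2) = v.2.1.2
         abel
     right_inv := fun v => by
       refine Prod.ext (Prod.ext ?_ ?_) (Prod.ext (Prod.ext ?_ rfl) (self_apply_inv y _))
       · show - -v.1.1 = v.1.1
         abel
       · show v.2.1.2 - (v.2.1.2 - v.1.2) = v.1.2
         abel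
       · show v.2.1.1 + v.1.1 + -v.1.1 = v.2.1.1
         abel },
   fun v => by
     simp only [LinearEquiv.coe_mk, LinearMap.coe_mk, AddHom.coe_mk, plane_apply, orth_Q]
     ring⟩

theorem blockO_apply (y : Orth R) (v : (F × F) × ((F × F) × U)) :
    (blockO R y).1 v = ((-v.2.1.1, v.1.2 - v.2.1.2), ((v.1.1 + v.2.1.1, v.1.2), y.1 v.2.2)) := rfl

theorem blockO_free {y : Orth R} (hy : ∀ c, y.1 c = c → c = 0)
    {v : (F × F) × ((F × F) × U)} (h : (blockO R y).1 v = v) : v = 0 := by
  rw [blockO_apply] at h
  obtain ⟨⟨x1, y1⟩, ⟨x2, y2⟩, u⟩ := v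
  simp only [Prod.mk.injEq] at h
  obtain ⟨⟨h1, h2⟩, ⟨h3, h4⟩, h5⟩ := h
  have hu := hy u h5
  have hx1 : x1 = 0 := add_eq_right.1 h3
  have hy1 : y1 = 0 := h4.trans (sub_eq_self.1 h2)
  have hx2 : x2 = 0 := by rw [hx1, neg_eq_zero] at h1; exact h1
  simp [hu, hx1, hx2, hy1, ← h4]

/-- Two more hyperbolic planes keep an isometry without fixed vector. -/
theorem HasFree.plane_plane (h : HasFree R) : HasFree (plane (plane R)) := by
  obtain ⟨y, hy⟩ := h
  exact ⟨blockO R y, fun c hc => blockO_free hy hc⟩

/-- Two hyperbolic planes carry a root element commuting with an isometry without fixed vector. -/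
theorem HasFree.rootFree (h : HasFree R) : HasRootFree (plane (plane R)) := by
  obtain ⟨y, hy⟩ := h
  have hab : polar (plane (plane R)) (eP F ((F × F) × U)) (iu F (eP F U)) = 0 :=
    polar_eP_iu _
  refine ⟨eP F ((F × F) × U), iu F (eP F U), Q_eP, hab, blockO R y, by rw [Q_iu, Q_eP],
    fun e => ?_, fun c hc => ?_, ?_, fun c hc => blockO_free hy hc⟩
  · simpa [eP] using congrArg (fun v => v.1.1) e
  · have := congrArg (fun v => v.2.1.1) hc
    simp [eP, iu] at this
  · refine orth_ext fun v => ?_
    obtain ⟨⟨x1, y1⟩, ⟨x2, y2⟩, u⟩ := v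
    simp only [mul_apply, siegel_apply, blockO_apply, polar_plane, plane_apply,
      eP, iu, polar_zero_right, QuadraticMap.map_zero, Prod.smul_mk, smul_zero, Prod.mk_add_mk,
      smul_eq_mul, add_zero, mul_zero, mul_one, zero_mul, zero_add, one_mul, sub_zero]
    refine Prod.ext (Prod.ext ?_ ?_) (Prod.ext (Prod.ext ?_ ?_) rfl) <;> ring

theorem hasFree_hypForm_add_two {W : Type*} [AddCommGroup W] [Module F W] {K : QuadraticForm F W}
    {n : ℕ} (h : HasFree (hypForm n K)) : HasFree (hypForm (n + 2) K) := by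
  refine h.plane_plane.congr
    ((hypSuccEquiv (n + 1)).trans ((LinearEquiv.refl F (F × F)).prodCongr (hypSuccEquiv n))).symm
    fun x => ?_
  rw [← plane_hypSuccEquiv]
  obtain ⟨v, rfl⟩ :=
    (((hypSuccEquiv (F := F) (W := W) (n + 1)).trans
      ((LinearEquiv.refl F (F × F)).prodCongr (hypSuccEquiv n)))).surjective x
  simp only [LinearEquiv.trans_apply]
  rw [plane_apply, plane_apply, ← plane_hypSuccEquiv n K]
  simp

theorem hasRootFree_hypForm_add_two {W : Type*} [AddCommGroup W] [Module F W]
    {K : QuadraticForm F W} {n : ℕ} (h : HasFree (hypForm n K)) :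
    HasRootFree (hypForm (n + 2) K) := by
  refine h.rootFree.congr
    ((hypSuccEquiv (n + 1)).trans ((LinearEquiv.refl F (F × F)).prodCongr (hypSuccEquiv n))).symm
    fun x => ?_
  rw [← plane_hypSuccEquiv]
  obtain ⟨v, rfl⟩ :=
    (((hypSuccEquiv (F := F) (W := W) (n + 1)).trans
      ((LinearEquiv.refl F (F × F)).prodCongr (hypSuccEquiv n)))).surjective x
  simp only [LinearEquiv.trans_apply]
  rw [plane_apply, plane_apply, ← plane_hypSuccEquiv n K]
  simp

section Two

variable (h2 : (2 : F) = 0)

/-- An isometry of the binary form without fixed vector. -/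
def binFreeO (h2 : (2 : F) = 0) : Orth (binForm (1 : F) 1) :=
  ⟨{ toFun := fun v => ![v 1, v 0 + v 1]
     invFun := fun v => ![v 0 + v 1, v 0]
     map_add' := fun v w => by funext i; fin_cases i <;> simp; ring
     map_smul' := fun c v => by funext i; fin_cases i <;> simp; ring
     left_inv := fun v => by
       funext i
       fin_cases i <;> simp
       linear_combination v 1 * h2
     right_inv := fun v => by
       funext i
       fin_cases i <;> simp
       linear_combination v 0 * h2 },
   fun v => by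
     simp [binForm_apply]
     linear_combination (v 1 * v 1 + v 0 * v 1) * h2⟩

include h2 in
theorem hasFree_bin_zero : HasFree (hypForm 0 (binForm (1 : F) 1)) := by
  refine HasFree.congr hypZeroEquiv.symm (fun x => ?_) ⟨binFreeO h2, fun c hc => ?_⟩
  · simp [hypForm_apply, hypZeroEquiv]
  · have h0 : c 1 = c 0 := congrFun hc 0
    have h1 : c 0 + c 1 = c 1 := congrFun hc 1
    have hc0 : c 0 = 0 := add_eq_right.1 h1
    funext i
    fin_cases i
    · exact hc0
    · exact h0.trans hc0

/-- An isometry without fixed vector on a plane and the binary form. -/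
def planeFreeO (h2 : (2 : F) = 0) : Orth (plane (binForm (1 : F) 1)) :=
  ⟨{ toFun := fun v => ((v.1.1 + v.1.2 + v.2 0, v.1.1), ![v.1.1 + v.2 1, v.2 0])
     invFun := fun v => ((v.1.2, v.1.1 + v.1.2 + v.2 1), ![v.2 1, v.2 0 + v.1.2])
     map_add' := fun v w => by
       refine Prod.ext (Prod.ext ?_ rfl) ?_
       · simp; ring
       · funext i; fin_cases i <;> simp; ring
     map_smul' := fun c v => by
       refine Prod.ext (Prod.ext ?_ rfl) ?_
       · simp; ring
       · funext i; fin_cases i <;> simp; ring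
     left_inv := fun v => by
       refine Prod.ext (Prod.ext rfl ?_) ?_
       · simp
         linear_combination (v.1.1 + v.2 0) * h2
       · funext i
         fin_cases i <;> simp
         linear_combination v.1.1 * h2
     right_inv := fun v => by
       refine Prod.ext (Prod.ext ?_ rfl) ?_
       · simp
         linear_combination (v.1.2 + v.2 1) * h2
       · funext i
         fin_cases i <;> simp
         linear_combination v.1.2 * h2 },
   fun v => by
     simp [plane_apply, binForm_apply]
     linear_combination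
       (v.1.1 * v.1.1 + v.1.1 * v.2 0 + v.1.1 * v.2 1) * h2⟩

include h2 in
theorem hasFree_bin_one : HasFree (hypForm 1 (binForm (1 : F) 1)) := by
  have h : HasFree (plane (binForm (1 : F) 1)) := by
    refine ⟨planeFreeO h2, fun c hc => ?_⟩
    obtain ⟨⟨x, y⟩, z⟩ := c
    have e1 : x + y + z 0 = x := congrArg (fun v => v.1.1) hc
    have e2 : x = y := congrArg (fun v => v.1.2) hc
    have e3 : x + z 1 = z 0 := congrArg (fun v => v.2 0) hc
    have e4 : z 0 = z 1 := congrArg (fun v => v.2 1) hc
    have hx : x = 0 := by linear_combination e3 - (1 : F) * e4 * (-1)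
    have hz : z 0 = 0 := by linear_combination e1 + e2 - hx
    refine Prod.ext (Prod.ext hx (e2.symm.trans hx)) ?_
    funext i
    fin_cases i
    · exact hz
    · exact e4.symm.trans hz
  refine h.congr ((hypSuccEquiv 0).trans
    ((LinearEquiv.refl F (F × F)).prodCongr hypZeroEquiv)).symm fun x => ?_
  rw [← plane_hypSuccEquiv]
  obtain ⟨v, rfl⟩ := ((hypSuccEquiv (F := F) (W := Fin 2 → F) 0).trans
    ((LinearEquiv.refl F (F × F)).prodCongr hypZeroEquiv)).surjective x
  simp [plane_apply, hypForm_apply, hypZeroEquiv]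

include h2 in
theorem hasFree_bin : ∀ n, HasFree (hypForm n (binForm (1 : F) 1))
  | 0 => hasFree_bin_zero h2
  | 1 => hasFree_bin_one h2
  | n + 2 => hasFree_hypForm_add_two (hasFree_bin n)

include h2 in
theorem hasTwist_two [Finite F] (n : ℕ) (hn : 2 ≤ n)
    (hnd : NDPolar (hypForm n (binForm (1 : F) 1))) (P : Frame (hypForm n (binForm (1 : F) 1))) :
    HasTwist (hypForm n (binForm (1 : F) 1)) := by
  obtain ⟨k, rfl⟩ : ∃ k, n = k + 2 := ⟨n - 2, by omega⟩
  obtain ⟨a, b, ha, hab, y, hb, ha0, hind, hcomm, hy⟩ :=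
    hasRootFree_hypForm_add_two (hasFree_bin h2 k)
  refine ⟨a, b, ha, hab, 1, y * y, hb, ha0, hind, ?_, ?_, fun c hc => ?_⟩
  · rw [levO_one]
    exact liftO_mem (sq_mem_siegelGroup hnd P y)
  · rw [mul_assoc, hcomm, ← mul_assoc, hcomm, mul_assoc]
  · rw [Units.val_one, one_smul, mul_apply] at hc
    refine hy c (sub_eq_zero.1 (hy _ ?_))
    rw [map_sub, hc]
    have h : (2 : F) • (c - y.1 c) = 0 := by rw [h2, zero_smul]
    linear_combination (norm := module) h

end Two

/-- The twisting element over the field with three elements. -/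
theorem hasTwist_three [Finite F] (n : ℕ) (hn : 2 ≤ n) (h3 : (3 : F) = 0) {a b : F}
    (hab : IsAniso a b) :
    HasTwist (hypForm n (binForm a b)) := by
  classical
  cases nonempty_fintype F
  have h20 : (2 : F) ≠ 0 := fun h => one_ne_zero (α := F) (by linear_combination h3 - h)
  obtain ⟨k₁, hk₁⟩ := exists_binForm_eq hab 1
  obtain ⟨k₂, hk₂⟩ := exists_binForm_eq hab (-1 : F)
  set R := hypForm n (binForm a b)
  let u₁ : ((Fin n → F) × (Fin n → F)) × (Fin 2 → F) := (0, k₁)
  let u₂ : ((Fin n → F) × (Fin n → F)) × (Fin 2 → F) := (0, k₂)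
  have hu₁ : R u₁ = 1 := by simp [R, u₁, hypForm_apply, hk₁]
  have hu₂ : R u₂ = -1 := by simp [R, u₂, hypForm_apply, hk₂]
  have hφ : polar R u₁ u₂ ≠ 0 := by
    intro h0
    have hs : R (u₁ + u₂) = 0 := by rw [QuadraticMap.map_add R, hu₁, hu₂, h0]; ring
    have hw : k₁ + k₂ = 0 := binForm_eq_zero hab (by
      simpa [R, u₁, u₂, hypForm_apply] using hs)
    have e : u₂ = -u₁ := by
      refine Prod.ext (by simp [u₁, u₂]) ?_
      show k₂ = -k₁
      exact eq_neg_of_add_eq_zero_right hw
    rw [e, QuadraticMap.map_neg, hu₁] at hu₂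
    exact h20 (by linear_combination hu₂)
  let P : Frame R := hypFrameKernel hn k₁ (by rw [hk₁]; exact one_ne_zero)
  have hnd : NDPolar R := ndPolar_hypForm (ndPolar_binForm hab) n
  let i₀ : Fin n := ⟨0, by omega⟩
  let i₁ : Fin n := ⟨1, by omega⟩
  let a' : ((Fin n → F) × (Fin n → F)) × (Fin 2 → F) := ((Pi.single i₀ 1, 0), 0)
  let b' : ((Fin n → F) × (Fin n → F)) × (Fin 2 → F) := ((Pi.single i₁ 1, 0), 0)
  have ha' : R a' = 0 := by simp [R, a', hypForm_apply]
  have hb' : R b' = 0 := by simp [R, b', hypForm_apply]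
  have hab' : polar R a' b' = 0 := by simp [R, a', b', polar_hypForm, polar_zero_right]
  have hfix : ∀ x : ((Fin n → F) × (Fin n → F)) × (Fin 2 → F), x.2 = 0 →
      (refl R u₁ * refl R u₂).1 x = x := by
    intro x hx
    have e₂ : polar R x u₂ = 0 := by simp [R, u₂, polar_hypForm, hx, polar_zero_left]
    have e₁ : polar R x u₁ = 0 := by simp [R, u₁, polar_hypForm, hx, polar_zero_left]
    rw [mul_apply, refl_fix e₂, refl_fix e₁]
  refine ⟨a', b', ha', hab', -1, refl R u₁ * refl R u₂, hb', fun e => ?_, fun c e => ?_,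
    levO_refl_mem hnd P (-1) u₁ u₂ (by rw [hu₁, hu₂, Units.val_neg, Units.val_one]), ?_,
    fun c hc => ?_⟩
  · simpa [a', i₀] using congrFun (congrArg (fun v => v.1.1) e) i₀
  · simpa [a', b', i₀, i₁] using congrFun (congrArg (fun v => v.1.1) e) i₁
  · rw [← mul_inv_eq_iff_eq_mul, siegel_conj]
    exact siegel_congr _ _ _ _ (hfix a' rfl) (hfix b' rfl)
  · rw [Units.val_neg, Units.val_one, neg_one_smul] at hc
    have h1 : (refl R u₂).1 c = (refl R u₁).1 (-c) := by
      have := congrArg (fun v => (refl R u₁).1 v) (neg_eq_iff_eq_neg.1 hc)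
      simp only [mul_apply] at this
      rwa [← mul_apply, refl_mul_self, one_apply] at this
    rw [map_neg, refl_apply, refl_apply, hu₁, hu₂, div_neg, neg_neg, div_one, div_one] at h1
    set s := polar R c u₁ with hs
    set t := polar R c u₂ with ht
    have hc' : c = t • u₂ - s • u₁ := by
      have h3c : (3 : F) • c = 0 := by rw [h3, zero_smul]
      linear_combination (norm := module) h3c - h1
    have hsq : polar R u₁ u₁ = 2 ∧ polar R u₂ u₂ = -2 := by
      rw [polar_self', polar_self', hu₁, hu₂]; constructor <;> ring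
    have e1 : s = t * polar R u₁ u₂ - 2 * s := by
      conv_lhs => rw [hs, hc']
      simp [polar_sub_left, polar_comm R u₂ u₁, hsq.1]
      ring
    have e2 : t = -(2 * t) - s * polar R u₁ u₂ := by
      conv_lhs => rw [ht, hc']
      simp [polar_sub_left, hsq.2]
      ring
    have hs0 : s = 0 := (mul_eq_zero.1 (show s * polar R u₁ u₂ = 0 by
      linear_combination e2 - t * h3)).resolve_right hφ
    have ht0 : t = 0 := (mul_eq_zero.1 (show t * polar R u₁ u₂ = 0 by
      linear_combination -e1 + s * h3)).resolve_right hφ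
    rw [hc', hs0, ht0, zero_smul, zero_smul, sub_zero]

end CfsgLib.MinIndexOrth
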