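import Cfsg.Agent.Lib.MinIndexOrth.Models
import Cfsg.Agent.Lib.MinIndexOrth.Twist

/-!
The minimal index of `PΩ⁻_{2m}(q)`, `m ≥ 4`.
-/

set_option autoImplicit false
set_option linter.unusedSectionVars false

namespace CfsgLib.MinIndexOrth

open QuadraticMap Module CfsgLib.Classical.Quad

/-- The basic estimate: `d (q - 1) ≤ q² ℓ`. -/
theorem minus_bound {r T d : ℕ}
    (hd : d * r + ((r + 1) * (r + 1) * T + 1) = ((r + 1) * (r + 1) * T + 1) * ((r + 1) * T)) :
    d * r ≤ (r + 1) * (r + 1) * (T * ((r + 1) * T + 1)) := by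
  calc d * r ≤ ((r + 1) * (r + 1) * T + 1) * ((r + 1) * T) := by omega
    _ ≤ (r + 1) * ((r + 1) * T + 1) * ((r + 1) * T) := by
        refine Nat.mul_le_mul_right _ ?_
        nlinarith
    _ = _ := by ring

theorem cancel_succ {e X Y c : ℕ} (hd : e + X = X * Y) (hc : Y = c + 1) : e = X * c := by
  subst hc
  rw [mul_add, mul_one] at hd
  omega

theorem sq_le_two {r s : ℕ} (hr : 3 ≤ r) (h : r ≤ s) : (r + 1) * (r + 1) ≤ 2 * s * r := by
  nlinarith [Nat.mul_le_mul_right r h]

theorem sq_le_five {r s : ℕ} (hr : 2 ≤ r) (h : r ≤ 2 * s) : (r + 1) * (r + 1) ≤ 5 * s * r := by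
  nlinarith [Nat.mul_le_mul_right r h]

theorem sq_le_three {r s : ℕ} (hr : 6 ≤ r) (h : r ≤ 2 * s) : (r + 1) * (r + 1) ≤ 3 * s * r := by
  nlinarith [Nat.mul_le_mul_right r h]

theorem minus_small_two {A d : ℕ} (hA : 3 ≤ A)
    (hb : d * 1 ≤ (1 + 1) * (1 + 1) * ((A + 1) * ((1 + 1) * (A + 1) + 1))) :
    3 * d ≤ A * ((1 + 1) * (A + 1) + 1) * ((A + 1) * (A + 1)) := by
  calc 3 * d ≤ 12 * ((A + 1) * ((1 + 1) * (A + 1) + 1)) := by omega
    _ ≤ A * (A + 1) * ((A + 1) * ((1 + 1) * (A + 1) + 1)) :=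
        Nat.mul_le_mul_right _ (by nlinarith)
    _ = _ := by ring

theorem minus_le {r T d k : ℕ} (hr : 0 < r)
    (hd : d * r ≤ (r + 1) * (r + 1) * (T * ((r + 1) * T + 1)))
    (hk : (r + 1) * (r + 1) ≤ k * r) : d ≤ k * (T * ((r + 1) * T + 1)) := by
  refine Nat.le_of_mul_le_mul_right ?_ hr
  calc d * r ≤ (r + 1) * (r + 1) * (T * ((r + 1) * T + 1)) := hd
    _ ≤ k * r * (T * ((r + 1) * T + 1)) := Nat.mul_le_mul_right _ hk
    _ = _ := by ring

theorem minus_gen {r A d : ℕ} (hr : 0 < r) (hT : (r + 1) * (r + 1) ≤ A + 1)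
    (hd : d * r + ((r + 1) * (r + 1) * (A + 1) + 1) =
      ((r + 1) * (r + 1) * (A + 1) + 1) * ((r + 1) * (A + 1))) :
    d ≤ A * ((r + 1) * (A + 1) + 1) * (A + 2) := by
  obtain ⟨c, hc⟩ : ∃ c, (r + 1) * (A + 1) = c + 1 := ⟨r * (A + 1) + A, by ring⟩
  refine Nat.le_of_mul_le_mul_right ?_ hr
  have e0 : d * r = ((r + 1) * (r + 1) * (A + 1) + 1) * c := cancel_succ hd hc
  have e1 : (r + 1) * (r + 1) * (A + 1) + 1 ≤ (r + 1) * ((r + 1) * (A + 1) + 1) := by
    nlinarith
  have e2 : (r + 1) * c ≤ A * (A + 2) := by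
    have h1 : (r + 1) * (r + 1) * (A + 1) ≤ (A + 1) * (A + 1) := Nat.mul_le_mul_right _ hT
    rw [mul_assoc, hc] at h1
    nlinarith
  calc d * r ≤ (r + 1) * ((r + 1) * (A + 1) + 1) * c := e0 ▸ Nat.mul_le_mul_right _ e1
    _ = (r + 1) * c * ((r + 1) * (A + 1) + 1) := by ring
    _ ≤ A * (A + 2) * ((r + 1) * (A + 1) + 1) * r := by
        refine le_trans (Nat.mul_le_mul_right _ e2) (Nat.le_mul_of_pos_right _ hr)
    _ = _ := by ring

theorem minus_hexc {r A d : ℕ} (hr : 3 ≤ r) (hT : (r + 1) * (r + 1) ≤ A + 1)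
    (hd : d * r ≤ (r + 1) * (r + 1) * ((A + 1) * ((r + 1) * (A + 1) + 1))) :
    d ≤ (r + 3) * (A * ((r + 1) * (A + 1) + 1)) := by
  refine Nat.le_of_mul_le_mul_right (le_trans hd ?_) (show 0 < r by omega)
  have e : (r + 1) * (r + 1) * (A + 1) ≤ (r + 3) * r * A := by nlinarith
  calc (r + 1) * (r + 1) * ((A + 1) * ((r + 1) * (A + 1) + 1))
      = (r + 1) * (r + 1) * (A + 1) * ((r + 1) * (A + 1) + 1) := by ring
    _ ≤ (r + 3) * r * A * ((r + 1) * (A + 1) + 1) := Nat.mul_le_mul_right _ e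
    _ = _ := by ring

variable {F : Type*} [Field F] [Finite F]

theorem minus_counts (n : ℕ) (hn : 1 ≤ n) {a b : F} (hab : IsAniso a b) (q A : ℕ)
    (hq : Nat.card F = q) (hA : q ^ n = A + 1) :
    Nat.card (sing (hypForm n (binForm a b))) = A * (q * (A + 1) + 1) ∧
      ∀ c : F, c ≠ 0 → (A + 1) * (q * (A + 1) + 1) ≤
        Nat.card {v : ((Fin n → F) × (Fin n → F)) × (Fin 2 → F) //
          hypForm n (binForm a b) v = c} := by
  classical
  cases nonempty_fintype F
  have hW : q ^ (n - 1) * Nat.card (Fin 2 → F) = (A + 1) * q := by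
    rw [Nat.card_fun, Nat.card_fin, hq, ← hA, ← pow_add, ← pow_succ]
    congr 1
    omega
  refine ⟨?_, fun c hc => ?_⟩
  · have h := Hyp.card_zeros_eq (R := hypForm n (binForm a b))
    rw [card_level_hypForm, card_zeros_binForm hab, mul_assoc, hq, hW, hA, Nat.add_sub_cancel,
      mul_one] at h
    linarith
  · have hlev : Nat.card {v : Fin 2 → F // binForm a b v = c} = q + 1 := by
      rw [card_level_binForm hab hc, ← Nat.card_eq_fintype_card, hq]
    rw [card_level_hypForm, mul_assoc (Nat.card F ^ n - 1), hq, hW, hA, Nat.add_sub_cancel, hlev]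
    exact le_of_eq (by ring)

theorem char_eq (h2 : (2 : F) = 0) : ringChar F = 2 := by
  cases nonempty_fintype F
  have h' : ((2 : ℕ) : F) = 0 := by exact_mod_cast h2
  exact (Nat.prime_dvd_prime_iff_eq (CharP.char_is_prime F _) Nat.prime_two).1
    ((ringChar.spec F 2).1 h')

theorem aniso_two (hF : ∀ c : F, c = 0 ∨ c = 1) {a b : F} (hab : IsAniso a b) : a = 1 ∧ b = 1 := by
  have h11 : (1 : F) + 1 = 0 := (hF _).resolve_right (by simp)
  have hb : b = 1 := (hF b).resolve_left fun h =>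
    one_ne_zero (hab 0 1 (by rw [h]; ring)).2
  refine ⟨(hF a).resolve_left fun h => one_ne_zero (hab 1 1 ?_).1, hb⟩
  rw [h, hb]
  linear_combination h11

/-- The twisting element of a minus form. -/
theorem minus_twist (n : ℕ) (hn : 2 ≤ n) {a b : F} (hab : IsAniso a b)
    (H : Hyp (hypForm n (binForm a b))) : HasTwist (hypForm n (binForm a b)) := by
  classical
  cases nonempty_fintype F
  rcases Nat.lt_or_ge (Nat.card F) 4 with h4 | h4
  · have hq1 := Hyp.one_lt_q (F := F)
    rcases Nat.lt_or_ge (Nat.card F) 3 with h3 | h3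
    · have hF2 : Nat.card F = 2 := by omega
      have hF : ∀ c : F, c = 0 ∨ c = 1 := by
        obtain ⟨x, y, hxy, huniv⟩ := Nat.card_eq_two_iff.1 hF2
        intro c
        have hmem : ∀ z : F, z = x ∨ z = y := fun z => by
          have : z ∈ ({x, y} : Set F) := by rw [huniv]; trivial
          simpa using this
        rcases hmem c with rfl | rfl <;> rcases hmem 0 with h0 | h0 <;>
          rcases hmem 1 with h1 | h1 <;>
          first
            | exact Or.inl h0.symm
            | exact Or.inr h1.symm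
            | exact absurd (h0.trans h1.symm) zero_ne_one
      have h20 : (2 : F) = 0 := by
        rw [show (2 : F) = 1 + 1 by ring]
        exact (hF _).resolve_right (by simp)
      obtain ⟨rfl, rfl⟩ := aniso_two hF hab
      exact hasTwist_two h20 n hn H.hnd H.P
    · have hF3 : Nat.card F = 3 := by omega
      have h30 : (3 : F) = 0 := by
        have := FiniteField.cast_card_eq_zero F
        rw [← Nat.card_eq_fintype_card, hF3] at this
        exact_mod_cast this
      exact hasTwist_three n hn h30 hab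
  · exact hasTwist_of_four_le H h4

/-- The minimal index of a proper subgroup of `PΩ⁻_{2(n+2)}(q)`. -/
theorem minus_min_index (n : ℕ) (hn : 2 ≤ n) {a b : F} (hab : IsAniso a b) :
    ∃ d : ℕ, d * (Nat.card F - 1) =
        (Nat.card F ^ (n + 2) + 1) * (Nat.card F ^ (n + 1) - 1) ∧
      (∀ K : Subgroup (Cfsg.POmega F (Cfsg.quadFormMinus (n + 1) F a b)), K ≠ ⊤ → d ≤ K.index) ∧
        ∃ K : Subgroup (Cfsg.POmega F (Cfsg.quadFormMinus (n + 1) F a b)), K.index = d := by
  classical
  cases nonempty_fintype F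
  have hq1 := Hyp.one_lt_q (F := F)
  let R := hypForm n (binForm a b)
  set q := Nat.card F with hqdef
  obtain ⟨A, hA⟩ : ∃ A, q ^ n = A + 1 := ⟨q ^ n - 1, by
    have : 0 < q ^ n := pow_pos (by omega) _
    omega⟩
  obtain ⟨hS, hℓ⟩ := minus_counts n (by omega) hab q A rfl hA
  set S := Nat.card (sing R) with hSdef
  obtain ⟨r, hr⟩ : ∃ r, q = r + 1 := ⟨q - 1, by omega⟩
  have hr1 : 0 < r := by omega
  have hqT : q * q ≤ A + 1 := by
    rw [← hA, ← pow_two]
    exact Nat.pow_le_pow_right (by omega) hn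
  have hN : finrank F (((Fin n → F) × (Fin n → F)) × (Fin 2 → F)) = 2 * n + 2 := by
    rw [finrank_model, Module.finrank_fin_fun]
  have hd := Hyp.card_pts_sub (R := R)
  rw [hN, ← hqdef, ← hSdef, hS, show 2 * n + 2 = n + n + 1 + 1 by omega, pow_succ, pow_succ, pow_add,
    hA, hr, Nat.add_sub_cancel] at hd
  set d := Nat.card (Pts R) with hddef
  have hd' : d * r + ((r + 1) * (r + 1) * (A + 1) + 1) =
      ((r + 1) * (r + 1) * (A + 1) + 1) * ((r + 1) * (A + 1)) := by
    rw [hd]; ring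
  have hb := minus_bound hd'
  have hqq : (r + 1) * (r + 1) ≤ A + 1 := by rw [← hr]; exact hqT
  set ℓ := (A + 1) * ((r + 1) * (A + 1) + 1) with hℓdef
  have hs1 := one_le_sqCount (F := F)
  have key : d ≤ 5 * sqCount F * ℓ ∧ (4 ≤ q → d ≤ ringChar F * sqCount F * ℓ) := by
    rcases Nat.lt_or_ge q 4 with h4 | h4
    · refine ⟨le_trans (minus_le hr1 hb (k := 5) ?_)
        (Nat.mul_le_mul_right _ (Nat.le_mul_of_pos_right _ hs1)), fun h => by omega⟩
      rcases (show r = 1 ∨ r = 2 by omega) with rfl | rfl <;> norm_num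
    · by_cases h2 : (2 : F) = 0
      · have hs : r ≤ sqCount F := by
          have := sqCount_two h2
          rw [← hqdef, hr, Nat.add_sub_cancel] at this
          exact this
        have h := minus_le hr1 hb (k := 2 * sqCount F) (sq_le_two (by omega) hs)
        rw [char_eq h2]
        exact ⟨le_trans h (Nat.mul_le_mul_right _ (Nat.mul_le_mul_right _ (by omega))), fun _ => h⟩
      · have hodd : Odd q := two_ne_zero_iff_odd.1 h2
        obtain ⟨t, ht⟩ := hodd
        obtain ⟨-, hp3, hp5⟩ := char_bound (F := F) ⟨t, ht⟩ (show 5 ≤ q by omega)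
        have hs : r ≤ 2 * sqCount F := by
          have := sqCount_ge (F := F)
          rw [← hqdef, hr, Nat.add_sub_cancel] at this
          exact this
        have h5 := minus_le hr1 hb (k := 5 * sqCount F) (sq_le_five (by omega) hs)
        refine ⟨h5, fun _ => ?_⟩
        by_cases hq5 : q = 5
        · rw [hp5 hq5]; exact h5
        · have hr6 : 6 ≤ r := by omega
          exact le_trans (minus_le hr1 hb (k := 3 * sqCount F) (sq_le_three hr6 hs))
            (Nat.mul_le_mul_right _ (Nat.mul_le_mul_right _ hp3))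
  obtain ⟨hk5, hkp⟩ := key
  have hℓq : ∀ c : F, c ≠ 0 → ℓ ≤ Nat.card
      {v : ((Fin n → F) × (Fin n → F)) × (Fin 2 → F) // hypForm n (binForm a b) v = c} := by
    rw [hℓdef, ← hr]; exact hℓ
  obtain ⟨k₀, hk₀⟩ := exists_binForm_eq hab 1
  let H : Hyp R :=
    { hnd := ndPolar_hypForm (ndPolar_binForm hab) n
      P := hypFrameKernel hn k₀ (by rw [hk₀]; exact one_ne_zero)
      n := n
      two_le_n := hn
      hN := by rw [hN]; omega
      hidx := finrank_ts_le (fun w hw => binForm_eq_zero hab hw) n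
      cl := sqCount F * ℓ
      hcl := fun x hx => cls_card_ge hx hℓq
      h5 := by rw [← mul_assoc]; exact hk5
      hp := fun h => by rw [← mul_assoc]; exact hkp h
      h3 := fun h => by
        have hr2 : r = 2 := by omega
        have h1 : ℓ ≤ sqCount F * ℓ := Nat.le_mul_of_pos_left _ hs1
        show 2 * d ≤ 9 * (sqCount F * ℓ)
        rw [hr2] at hb
        omega
      h2 := fun h => by
        have hr2 : r = 1 := by omega
        have h1 : ℓ ≤ sqCount F * ℓ := Nat.le_mul_of_pos_left _ hs1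
        refine ⟨by omega, ?_, ?_⟩
        · show d ≤ 4 * (sqCount F * ℓ)
          rw [hr2] at hb
          omega
        · show 3 * d ≤ S * 2 ^ _
          rw [hN, show 2 * n + 2 - 2 = n + n by omega, pow_add, show (2 : ℕ) = q by omega, hA, hS, hr,
            hr2]
          rw [hr2] at hb hℓdef hqq
          rw [hℓdef] at hb
          exact minus_small_two (by omega) hb
      hS := by
        show S < sqCount F * ℓ
        refine lt_of_lt_of_le ?_ (Nat.le_mul_of_pos_left _ hs1)
        rw [hS, hℓdef, ← hr]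
        exact Nat.mul_lt_mul_of_pos_right (by omega) (by omega)
      hX := fun X hX => by
        rw [hN, ← hqdef, ← hSdef, hS, show 2 * n + 2 - 1 = n + n + 1 by omega,
          show 2 * n + 2 - 2 = n + n by omega, pow_succ, pow_add, hA] at hX
        have hqa : q ≤ A + 1 := le_trans (Nat.le_mul_of_pos_right _ (by omega)) hqT
        have hXv : X = (A + 1 - q) * (A + 2) := by
          zify [hqa] at hX ⊢
          linear_combination hX
        left
        rw [← hSdef, ← hddef, ← hqdef, hA, hS, hXv,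
          show A * (q * (A + 1) + 1) * ((A + 1 - q) * (A + 2)) =
            A * (q * (A + 1) + 1) * (A + 2) * (A + 1 - q) by ring]
        refine Nat.mul_le_mul_right _ ?_
        rw [hr]
        exact minus_gen hr1 hqq hd' }
  have hexc : 4 ≤ q → d ≤ (q + 2) * S := fun h4 => by
    rw [hS, hr]
    exact minus_hexc (by omega) hqq hb
  obtain ⟨h1, h2⟩ := pomega_min_index (Qf := Cfsg.quadFormMinus (n + 1) F a b) H hexc
    (minus_twist n hn hab H)
    ((minusEquiv (n + 1) F).trans (hypSuccEquiv n)) fun v => by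
      rw [LinearEquiv.trans_apply, plane_hypSuccEquiv, minusEquiv_spec]
  refine ⟨d, ?_, h1, h2⟩
  obtain ⟨c, hc⟩ : ∃ c, (r + 1) * (A + 1) = c + 1 := ⟨r * (A + 1) + A, by ring⟩
  rw [show n + 2 = n + 1 + 1 from rfl, pow_succ, pow_succ, hA, hr, Nat.add_sub_cancel,
    show (A + 1) * (r + 1) = c + 1 by rw [mul_comm]; exact hc, Nat.add_sub_cancel,
    show (c + 1) * (r + 1) = (r + 1) * (r + 1) * (A + 1) by rw [← hc]; ring]
  exact cancel_succ hd' hc

end CfsgLib.MinIndexOrth
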