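import Cfsg.Agent.Lib.MinIndexOrth.Index

/-!
The hypotheses for the model forms `Σ xᵢyᵢ + K(w)` with an anisotropic kernel.
-/

set_option autoImplicit false
set_option linter.unusedSectionVars false

namespace CfsgLib.MinIndexOrth

open QuadraticMap Module CfsgLib.Classical.Quad

variable {F W : Type*} [Field F] [AddCommGroup W] [Module F W] {K : QuadraticForm F W}

/-- The coordinates `x` of the hyperbolic part. -/
def xPart (F W : Type*) [Field F] [AddCommGroup W] [Module F W] (n : ℕ) :
    (((Fin n → F) × (Fin n → F)) × W) →ₗ[F] (Fin n → F) :=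
  (LinearMap.fst F _ _).comp (LinearMap.fst F _ _)

/-- The coordinates `y` of the hyperbolic part. -/
def yPart (F W : Type*) [Field F] [AddCommGroup W] [Module F W] (n : ℕ) :
    (((Fin n → F) × (Fin n → F)) × W) →ₗ[F] (Fin n → F) :=
  (LinearMap.snd F _ _).comp (LinearMap.fst F _ _)

/-- A totally singular subspace of a model form has dimension at most `n`. -/
theorem finrank_ts_le [Finite F] [Finite W] [FiniteDimensional F W]
    (haniso : ∀ w, K w = 0 → w = 0) (n : ℕ)
    (T : Submodule F (((Fin n → F) × (Fin n → F)) × W)) (hT : ∀ x ∈ T, hypForm n K x = 0) :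
    finrank F T ≤ n := by
  let π := (xPart F W n).comp T.subtype
  let ψ := ((yPart F W n).comp T.subtype).comp (LinearMap.ker π).subtype
  have hψ : Function.Injective ψ := by
    rw [injective_iff_map_eq_zero]
    rintro ⟨⟨⟨⟨x, y⟩, w⟩, hv⟩, hx⟩ hy
    have hx' : x = 0 := hx
    have hy' : y = 0 := hy
    have h := hT _ hv
    rw [hypForm_apply, hx', hy'] at h
    have hw : w = 0 := haniso w (by simpa using h)
    apply Subtype.ext
    apply Subtype.ext
    simp [hx', hy', hw]
  let δ : (Fin n → F) →ₗ[F] Module.Dual F (LinearMap.range π) :=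
    (LinearMap.lcomp F F (LinearMap.range π).subtype).comp
      (LinearMap.mk₂ F (fun y x : Fin n → F => ∑ i, x i * y i)
        (fun a b c => by simp [mul_add, Finset.sum_add_distrib])
        (fun r a b => by simp [Finset.mul_sum, mul_left_comm])
        (fun a b c => by simp [add_mul, Finset.sum_add_distrib])
        (fun r a b => by simp [Finset.mul_sum, mul_assoc]))
  have hsurj : LinearMap.range δ = ⊤ := by
    refine LinearMap.range_eq_top.2 fun φ => ?_
    obtain ⟨g, hg⟩ := LinearMap.exists_extend φ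
    refine ⟨fun i => g (Pi.single i 1), LinearMap.ext fun x => ?_⟩
    rw [← hg]
    show (∑ i, x.1 i * g (Pi.single i 1)) = g x.1
    conv_rhs => rw [← Finset.univ_sum_single x.1, map_sum]
    refine Finset.sum_congr rfl fun i _ => ?_
    rw [show (Pi.single i (x.1 i) : Fin n → F) = x.1 i • (Pi.single i 1 : Fin n → F) by
      rw [← Pi.single_smul, smul_eq_mul, mul_one], map_smul, smul_eq_mul]
  have hle : LinearMap.range ψ ≤ LinearMap.ker δ := by
    rintro y ⟨v, rfl⟩
    refine LinearMap.ext fun x => ?_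
    obtain ⟨u, hu⟩ := x.2
    have h := polar_zero_of_singular_submodule hT u.2 v.1.2
    have hv : v.1.1.1.1 = 0 := v.2
    have hvw : v.1.1.2 = 0 := by
      have h' := hT _ v.1.2
      rw [hypForm_apply, hv] at h'
      exact haniso _ (by simpa using h')
    rw [polar_hypForm, hv, hvw] at h
    show (∑ i, x.1 i * v.1.1.1.2 i) = 0
    rw [← hu]
    simpa [π, xPart, polar_zero_right] using h
  have h1 := LinearMap.finrank_range_add_finrank_ker π
  have h2 := LinearMap.finrank_range_of_inj hψ
  have h3 := Submodule.finrank_mono hle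
  have h4 := LinearMap.finrank_range_add_finrank_ker δ
  rw [hsurj, finrank_top, Subspace.dual_finrank_eq, Module.finrank_fin_fun] at h4
  omega

theorem finrank_model [FiniteDimensional F W] (n : ℕ) :
    finrank F (((Fin n → F) × (Fin n → F)) × W) = 2 * n + finrank F W := by
  rw [Module.finrank_prod, Module.finrank_prod, Module.finrank_fin_fun]
  omega

variable {U : Type*} [AddCommGroup U] [Module F U] {R : QuadraticForm F U} [Finite F] [Finite U]

/-- The squares of the units. -/
noncomputable def sqCount (F : Type*) [Field F] [Finite F] : ℕ :=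
  Nat.card (Set.range fun s : Fˣ => (s : F) * s)

theorem sqCount_ge : Nat.card F - 1 ≤ 2 * sqCount F := by
  classical
  cases nonempty_fintype F
  rw [sqCount, Nat.card_eq_fintype_card (α := F), ← Fintype.card_units, ← Finset.card_univ,
    Nat.card_coe_set_eq, Set.ncard_eq_toFinset_card', Set.toFinset_range]
  refine Finset.card_le_mul_card_image _ 2 fun y hy => ?_
  obtain ⟨s, -, rfl⟩ := Finset.mem_image.1 hy
  refine (Finset.card_le_card (t := ({s, -s} : Finset Fˣ)) fun t ht => ?_).trans Finset.card_le_two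
  have h : (t : F) * t = s * s := (Finset.mem_filter.1 ht).2
  rcases mul_self_eq_mul_self_iff.1 h with h1 | h1
  · simp [Units.ext h1]
  · simp [show t = -s from Units.ext (by rw [Units.val_neg]; exact h1)]

theorem sqCount_two (h2 : (2 : F) = 0) : Nat.card F - 1 ≤ sqCount F := by
  classical
  cases nonempty_fintype F
  rw [sqCount, Nat.card_eq_fintype_card (α := F), ← Fintype.card_units, ← Nat.card_eq_fintype_card]
  refine Nat.card_le_card_of_injective (fun s : Fˣ => ⟨(s : F) * s, s, rfl⟩) fun s t h => ?_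
  have h' : (s : F) * s = t * t := congrArg Subtype.val h
  rcases mul_self_eq_mul_self_iff.1 h' with h1 | h1
  · exact Units.ext h1
  · exact Units.ext (by rw [h1]; linear_combination -(t : F) * h2)

theorem one_le_sqCount : 1 ≤ sqCount F :=
  Nat.card_pos_iff.2 ⟨⟨⟨1, 1, by simp⟩⟩, inferInstance⟩

theorem cls_card_ge {a : U} (ha : R a ≠ 0) {ℓ : ℕ}
    (hℓ : ∀ c : F, c ≠ 0 → ℓ ≤ Nat.card {v : U // R v = c}) :
    sqCount F * ℓ ≤ Nat.card (cls R a) := by
  classical
  cases nonempty_fintype (Set.range fun s : Fˣ => (s : F) * s)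
  have h1 : sqCount F * ℓ ≤
      ∑ t : Set.range fun s : Fˣ => (s : F) * s, Nat.card {v : U // R v = t.1 * R a} := by
    refine le_trans ?_ (Finset.sum_le_sum fun t _ => hℓ _ ?_)
    · rw [Finset.sum_const, smul_eq_mul, Finset.card_univ, sqCount, Nat.card_eq_fintype_card]
    · obtain ⟨-, s, rfl⟩ := t
      exact mul_ne_zero (mul_ne_zero s.ne_zero s.ne_zero) ha
  rw [← Nat.card_sigma] at h1
  refine le_trans h1 (Nat.card_le_card_of_injective (fun x => ⟨x.2.1, ?_⟩) ?_)
  · obtain ⟨⟨-, s, rfl⟩, v, hv⟩ := x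
    exact ⟨s, s.ne_zero, hv⟩
  · rintro ⟨t, v, hv⟩ ⟨t', v', hv'⟩ e
    obtain rfl : v = v' := congrArg Subtype.val e
    obtain rfl : t = t' := Subtype.ext (mul_right_cancel₀ ha (hv.symm.trans hv'))
    rfl

/-- The characteristic is at least three and not three for five elements. -/
theorem char_bound (hodd : Odd (Nat.card F)) (h5 : 5 ≤ Nat.card F) :
    20 ≤ ringChar F * (Nat.card F - 1) ∧ 3 ≤ ringChar F ∧
      (Nat.card F = 5 → ringChar F = 5) := by
  cases nonempty_fintype F
  obtain ⟨f, hp, hf⟩ := FiniteField.card F (ringChar F)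
  rw [← Nat.card_eq_fintype_card] at hf
  have h2 : ringChar F ≠ 2 := fun h => by
    rw [hf, h] at hodd
    exact (Nat.not_odd_iff_even.2 (Nat.even_pow.2 ⟨even_two, f.pos.ne'⟩)) hodd
  have h3 : 3 ≤ ringChar F := by have := hp.two_le; omega
  have hq5 : Nat.card F = 5 → ringChar F = 5 := fun h => by
    have hd : ringChar F ∣ 5 := by rw [← h, hf]; exact dvd_pow_self _ f.pos.ne'
    exact (Nat.prime_dvd_prime_iff_eq hp (by norm_num)).1 hd
  refine ⟨?_, h3, hq5⟩
  rcases Nat.lt_or_ge (Nat.card F) 9 with h9 | h9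
  · by_cases h : Nat.card F = 5
    · rw [hq5 h, h]
    · have hq7 : Nat.card F = 7 := by
        obtain ⟨r, hr⟩ := hodd; omega
      have hd : ringChar F ∣ 7 := by rw [← hq7, hf]; exact dvd_pow_self _ f.pos.ne'
      rw [(Nat.prime_dvd_prime_iff_eq hp (by norm_num)).1 hd, hq7]
      norm_num
  · calc 20 ≤ 3 * 8 := by norm_num
      _ ≤ _ := Nat.mul_le_mul h3 (by omega)

end CfsgLib.MinIndexOrth
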