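import Cfsg.Agent.Lib.MinIndexOrth.Models

/-!
The minimal index of `PΩ_{2m+1}(q)`, `m ≥ 3`, `q ≥ 5` odd.
-/

set_option autoImplicit false
set_option linter.unusedSectionVars false

namespace CfsgLib.MinIndexOrth

open QuadraticMap Module CfsgLib.Classical.Quad

theorem odd_bound {r a d : ℕ} (hr : 0 < r)
    (hd : d * r + 1 = (r + 1) * (r + 1) * ((a + 1) * (a + 1))) {k c u v : ℕ} (hc : c * r ≤ 2 * k)
    (hu : v * ((r + 1) * (r + 1)) ≤ u * (r * r)) (hv : 0 < v)
    (hb : 2 * (a + 1) * u ≤ c * v * a) : d ≤ k * (a * (a + 1)) := by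
  refine Nat.le_of_mul_le_mul_right ?_ (show 0 < 2 * r * v by positivity)
  calc d * (2 * r * v) = 2 * (d * r) * v := by ring
    _ ≤ 2 * ((r + 1) * (r + 1) * ((a + 1) * (a + 1))) * v := by
        refine Nat.mul_le_mul_right _ (Nat.mul_le_mul_left _ ?_); omega
    _ = v * ((r + 1) * (r + 1)) * (2 * (a + 1) * (a + 1)) := by ring
    _ ≤ u * (r * r) * (2 * (a + 1) * (a + 1)) := Nat.mul_le_mul_right _ hu
    _ = 2 * (a + 1) * u * (r * r * (a + 1)) := by ring
    _ ≤ c * v * a * (r * r * (a + 1)) := Nat.mul_le_mul_right _ hb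
    _ = c * r * (v * r * (a * (a + 1))) := by ring
    _ ≤ 2 * k * (v * r * (a * (a + 1))) := Nat.mul_le_mul_right _ hc
    _ = _ := by ring

theorem odd_five {r a d s : ℕ} (hr : 4 ≤ r) (ha : 16 ≤ a)
    (hd : d * r + 1 = (r + 1) * (r + 1) * ((a + 1) * (a + 1))) (hs : r ≤ 2 * s) :
    d ≤ 5 * s * (a * (a + 1)) :=
  odd_bound (c := 5) (u := 25) (v := 16) (by omega) hd (by omega) (by nlinarith) (by omega)
    (by omega)

theorem odd_three {r a d s : ℕ} (hr : 6 ≤ r) (ha : 20 ≤ a)
    (hd : d * r + 1 = (r + 1) * (r + 1) * ((a + 1) * (a + 1))) (hs : r ≤ 2 * s) :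
    d ≤ 3 * s * (a * (a + 1)) :=
  odd_bound (c := 3) (u := 49) (v := 36) (by omega) hd (by omega) (by nlinarith) (by omega)
    (by omega)

theorem odd_exc {r a d : ℕ} (hr : 0 < r) (ha : a + 1 = (r + 1) * (r + 1))
    (hd : d * r + 1 = (r + 1) * (r + 1) * ((a + 1) * (a + 1))) :
    d ≤ (r + 2) * (a + 2) * (a + 2) := by
  refine Nat.le_of_mul_le_mul_right ?_ hr
  have h1 : r * (r + 2) + 1 = a + 1 := by rw [ha]; ring
  have h2 : (r + 2) * (a + 2) * (a + 2) * r = a * ((a + 2) * (a + 2)) := by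
    rw [show (r + 2) * (a + 2) * (a + 2) * r = r * (r + 2) * ((a + 2) * (a + 2)) by ring,
      show r * (r + 2) = a by omega]
  rw [← ha] at hd
  rw [h2]
  nlinarith

theorem odd_gen {r a P d : ℕ} (hr : 2 ≤ r) (ha : 1 ≤ a) (hP : (r + 1) * (r + 1) ≤ P)
    (hd : d * r + 1 = (r + 1) * (r + 1) * ((a + 1) * (a + 1))) :
    d ≤ a * (a + 2) * (P + 1) := by
  refine Nat.le_of_mul_le_mul_right ?_ (show 0 < r by omega)
  have e1 : (a + 1) * (a + 1) ≤ 2 * (a * (a + 2)) := by nlinarith
  have e2 : 2 * ((r + 1) * (r + 1)) ≤ r * (P + 1) := by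
    calc 2 * ((r + 1) * (r + 1)) ≤ r * ((r + 1) * (r + 1)) := Nat.mul_le_mul_right _ hr
      _ ≤ _ := Nat.mul_le_mul_left _ (by omega)
  calc d * r ≤ (r + 1) * (r + 1) * ((a + 1) * (a + 1)) := by omega
    _ ≤ (r + 1) * (r + 1) * (2 * (a * (a + 2))) := Nat.mul_le_mul_left _ e1
    _ = 2 * ((r + 1) * (r + 1)) * (a * (a + 2)) := by ring
    _ ≤ r * (P + 1) * (a * (a + 2)) := Nat.mul_le_mul_right _ e2
    _ = _ := by ring

theorem odd_hexc {r a d : ℕ} (hr : 4 ≤ r) (ha : (r + 1) * (r + 1) ≤ a + 1)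
    (hd : d * r + 1 = (r + 1) * (r + 1) * ((a + 1) * (a + 1))) :
    d ≤ (r + 3) * (a * (a + 2)) := by
  refine Nat.le_of_mul_le_mul_right ?_ (show 0 < r by omega)
  have e1 : a * (a + 2) + 1 = (a + 1) * (a + 1) := by ring
  have e2 : (r + 1) * (r + 1) ≤ r * (a * (a + 2)) := by nlinarith
  rw [← e1] at hd
  nlinarith

variable {F : Type*} [Field F] [Finite F]

theorem odd_counts (n : ℕ) (hn : 1 ≤ n) (a : ℕ) (ha : Nat.card F ^ n = a + 1) :
    Nat.card (sing (hypForm n (lineForm F))) = a * (a + 2) ∧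
      ∀ c : F, c ≠ 0 → a * (a + 1) ≤
        Nat.card {v : ((Fin n → F) × (Fin n → F)) × (Unit → F) // hypForm n (lineForm F) v = c} := by
  classical
  cases nonempty_fintype F
  have hW : Nat.card F ^ (n - 1) * Nat.card (Unit → F) = a + 1 := by
    rw [Nat.card_fun, Nat.card_eq_fintype_card (α := Unit), Fintype.card_unit, pow_one, ← pow_succ,
      Nat.sub_add_cancel hn, ha]
  refine ⟨?_, fun c hc => ?_⟩
  · have h := Hyp.card_zeros_eq (R := hypForm n (lineForm F))
    rw [card_level_hypForm, card_zeros_lineForm, mul_assoc, hW, ha, Nat.add_sub_cancel, mul_one] at h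
    linarith
  · rw [card_level_hypForm, mul_assoc (Nat.card F ^ n - 1), hW, ha, Nat.add_sub_cancel]
    exact Nat.le_add_right _ _

/-- The minimal index of a proper subgroup of `PΩ_{2(n+1)+1}(q)`. -/
theorem odd_min_index (n : ℕ) (hn : 2 ≤ n) (hodd : Odd (Nat.card F)) (h5 : 5 ≤ Nat.card F) :
    ∃ d : ℕ, d * (Nat.card F - 1) = Nat.card F ^ (2 * (n + 1)) - 1 ∧
      (∀ K : Subgroup (Cfsg.POmega F (Cfsg.quadFormOdd (n + 1) F)), K ≠ ⊤ → d ≤ K.index) ∧
        ∃ K : Subgroup (Cfsg.POmega F (Cfsg.quadFormOdd (n + 1) F)), K.index = d := by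
  classical
  cases nonempty_fintype F
  have h2 : (2 : F) ≠ 0 := two_ne_zero_iff_odd.2 hodd
  let R := hypForm n (lineForm F)
  set q := Nat.card F with hqdef
  set P := q ^ (n - 1) with hPdef
  have hqn : q ^ n = q * P := by rw [hPdef, ← pow_succ', Nat.sub_add_cancel (by omega)]
  have hPq : q ≤ P := by
    rw [hPdef]; exact Nat.le_self_pow (by omega) _
  obtain ⟨a, ha⟩ : ∃ a, q * P = a + 1 := ⟨q * P - 1, by
    have : 0 < q * P := Nat.mul_pos (by omega) (by omega)
    omega⟩
  obtain ⟨hS, hℓ⟩ := odd_counts n (by omega) a (by rw [← hqdef, hqn, ha])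
  set S := Nat.card (sing R) with hSdef
  obtain ⟨r, hr⟩ : ∃ r, q = r + 1 := ⟨q - 1, by omega⟩
  have hr4 : 4 ≤ r := by omega
  have ha24 : 24 ≤ a := by
    have : 5 * 5 ≤ q * P := Nat.mul_le_mul h5 (le_trans h5 hPq)
    omega
  have hN : finrank F (((Fin n → F) × (Fin n → F)) × (Unit → F)) = 2 * n + 1 := by
    rw [finrank_model, Module.finrank_fintype_fun_eq_card, Fintype.card_unit]
  have hd := Hyp.card_pts_sub (R := R)
  rw [hN, ← hqdef, ← hSdef, hS, show 2 * n + 1 = n + n + 1 by omega, pow_succ, pow_add, hqn, ha,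
    hr, Nat.add_sub_cancel] at hd
  set d := Nat.card (Pts R) with hddef
  have hd' : d * r + 1 = (r + 1) * (r + 1) * ((a + 1) * (a + 1)) := by rw [hd]; ring
  have hsq : r ≤ 2 * sqCount F := by
    have := sqCount_ge (F := F)
    rw [← hqdef, hr, Nat.add_sub_cancel] at this
    exact this
  have hk5 := odd_five hr4 (by omega) hd' hsq
  have hkp : d ≤ ringChar F * sqCount F * (a * (a + 1)) := by
    obtain ⟨-, hp3, hp5⟩ := char_bound (F := F) hodd h5
    by_cases hq5 : q = 5
    · rw [hp5 hq5]; exact hk5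
    · have : 6 ≤ r := by
        obtain ⟨t, ht⟩ := hodd
        omega
      exact le_trans (odd_three this (by omega) hd' hsq)
        (Nat.mul_le_mul_right _ (Nat.mul_le_mul_right _ hp3))
  have hSℓ : S < sqCount F * (a * (a + 1)) := by
    refine lt_of_lt_of_le ?_ (Nat.mul_le_mul_right _ (show 2 ≤ sqCount F by omega))
    rw [hS, show 2 * (a * (a + 1)) = a * (2 * (a + 1)) by ring]
    exact Nat.mul_lt_mul_of_pos_left (by omega) (by omega)
  let H : Hyp R :=
    { hnd := ndPolar_hypForm (ndPolar_lineForm h2) n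
      P := hypFrameKernel hn (fun _ => 1) (by rw [lineForm_apply]; simp)
      n := n
      two_le_n := hn
      hN := by rw [hN]; omega
      hidx := finrank_ts_le (fun w hw => by
        rw [lineForm_apply] at hw
        funext i
        exact mul_self_eq_zero.1 hw) n
      cl := sqCount F * (a * (a + 1))
      hcl := fun x hx => cls_card_ge hx hℓ
      h5 := by rw [← mul_assoc]; exact hk5
      hp := fun _ => by rw [← mul_assoc]; exact hkp
      h3 := fun h => by omega
      h2 := fun h => by omega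
      hS := hSℓ
      hX := fun X hX => by
        rw [hN, ← hqdef, ← hSdef, hS, show 2 * n + 1 - 1 = n + n by omega,
          show 2 * n + 1 - 2 = n + (n - 1) by omega, pow_add, pow_add, ← hPdef, hqn, ha] at hX
        have hXv : X = (a + 1 - q) * (P + 1) := by
          have hqa : q ≤ a + 1 := by rw [← ha]; exact Nat.le_mul_of_pos_right _ (by omega)
          have hqP' : (q : ℤ) * P = a + 1 := by exact_mod_cast ha
          zify [hqa] at hX ⊢
          linear_combination hX + hqP'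
        rw [← hSdef, ← hddef, ← hqdef, hqn, ha, hS, hXv]
        rcases Nat.lt_or_ge n 3 with h3 | h3
        · have hn2 : n = 2 := by omega
          have hP2 : P = q := by rw [hPdef, hn2]; exact pow_one q
          refine Or.inr ⟨by omega, by rw [hP2, mul_comm], (q + 1) * (a + 2), ?_, ?_⟩
          · rw [Nat.add_sub_cancel]; ring
          · rw [hr]
            exact odd_exc (by omega) (by rw [← ha, hP2, hr]) hd'
        · left
          have hP2 : (r + 1) * (r + 1) ≤ P := by
            rw [← hr, hPdef, ← pow_two]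
            exact Nat.pow_le_pow_right (by omega) (by omega)
          rw [show a * (a + 2) * ((a + 1 - q) * (P + 1)) =
            a * (a + 2) * (P + 1) * (a + 1 - q) by ring]
          exact Nat.mul_le_mul_right _ (odd_gen (by omega) (by omega) hP2 hd') }
  have hexc : d ≤ (q + 2) * S := by
    rw [hS, hr]
    refine odd_hexc hr4 ?_ hd'
    rw [← hr, ← ha]
    exact Nat.mul_le_mul_left _ hPq
  obtain ⟨h1, h2⟩ := pomega_min_index (Qf := Cfsg.quadFormOdd (n + 1) F) H (fun _ => hexc)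
    (hasTwist_of_four_le H (by omega))
    ((oddEquiv (n + 1) F).trans (hypSuccEquiv n)) fun v => by
      rw [LinearEquiv.trans_apply, plane_hypSuccEquiv, oddEquiv_spec]
  refine ⟨d, ?_, h1, h2⟩
  rw [show 2 * (n + 1) = n + 1 + (n + 1) by omega, pow_add, pow_succ, hqn, ha, hr,
    Nat.add_sub_cancel,
    show (a + 1) * (r + 1) * ((a + 1) * (r + 1)) = d * r + 1 by rw [hd']; ring, Nat.add_sub_cancel]

end CfsgLib.MinIndexOrth
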