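import Cfsg.Agent.Lib.MinIndexOrth.Form
import Cfsg.Agent.Lib.Classical.Quad.Model

/-!
The space `(F × F) × U` with the form `xy + R u`: the unipotent radical of a point stabiliser, the
Levi elements, membership in the Siegel group, and the singular points.
-/

set_option autoImplicit false
set_option linter.unusedSectionVars false

namespace CfsgLib.MinIndexOrth

open QuadraticMap Module CfsgLib.Classical.Quad

variable {F U : Type*} [Field F] [AddCommGroup U] [Module F U] {R : QuadraticForm F U}

/-- The first vector of the hyperbolic pair. -/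
def eP (F U : Type*) [Field F] [AddCommGroup U] : (F × F) × U := ((1, 0), 0)

/-- The second vector of the hyperbolic pair. -/
def eP' (F U : Type*) [Field F] [AddCommGroup U] : (F × F) × U := ((0, 1), 0)

/-- The embedding of `U`. -/
def iu (F : Type*) {U : Type*} [Field F] [AddCommGroup U] (a : U) : (F × F) × U := ((0, 0), a)

theorem polar_iu (a b : U) : polar (plane R) (iu F a) (iu F b) = polar R a b := by
  simp [polar_plane, iu]

theorem Q_iu (a : U) : plane R (iu F a) = R a := by simp [plane_apply, iu]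

theorem Q_eP : plane R (eP F U) = 0 := by simp [plane_apply, eP]

theorem Q_eP' : plane R (eP' F U) = 0 := by simp [plane_apply, eP']

theorem polar_eP_iu (a : U) : polar (plane R) (eP F U) (iu F a) = 0 := by
  simp [polar_plane, iu, eP, polar_zero_left]

theorem polar_eP_eP' : polar (plane R) (eP F U) (eP' F U) = 1 := by
  simp [polar_plane, eP, eP']

theorem iu_add (a b : U) : iu F (a + b) = iu F a + iu F b := by simp [iu]

theorem iu_smul (c : F) (a : U) : iu F (c • a) = c • iu F a := by simp [iu]

theorem iu_injective : Function.Injective (iu F : U → (F × F) × U) := fun _ _ h =>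
  congrArg Prod.snd h

/-- The frame of the plane extension. -/
def planeFrame (P : Frame R) : Frame (plane R) where
  e₁ := eP F U
  f₁ := eP' F U
  e₂ := iu F P.e₁
  f₂ := iu F P.f₁
  a := iu F P.a
  pair₁ := ⟨Q_eP, Q_eP', polar_eP_eP'⟩
  pair₂ := ⟨by rw [Q_iu]; exact P.pair₁.1, by rw [Q_iu]; exact P.pair₁.2.1,
    by rw [polar_iu]; exact P.pair₁.2.2⟩
  e₁e₂ := polar_eP_iu _
  e₁f₂ := polar_eP_iu _
  f₁e₂ := by simp [polar_plane, iu, eP', polar_zero_left]
  f₁f₂ := by simp [polar_plane, iu, eP', polar_zero_left]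
  ae₁ := by rw [polar_comm]; exact polar_eP_iu _
  af₁ := by simp [polar_plane, iu, eP', polar_zero_right]
  ae₂ := by rw [polar_iu]; exact P.ae₁
  af₂ := by rw [polar_iu]; exact P.af₁
  Qa := by rw [Q_iu]; exact P.Qa

/-! ### The elements -/

/-- The elements of the unipotent radical. -/
def sgQ (R : QuadraticForm F U) (a : U) : siegelGroup (plane R) :=
  ⟨siegel (plane R) (eP F U) (iu F a) Q_eP (polar_eP_iu a), siegel_mem _ _⟩

theorem sgQ_apply (a : U) (x y : F) (u : U) :
    (sgQ R a).1.1 ((x, y), u) = ((x - polar R u a - R a * y, y), u + y • a) := by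
  rw [sgQ, siegel_apply, Q_iu]
  simp [polar_plane, eP, iu, polar_zero_right, Prod.ext_iff]
  ring

theorem sgQ_add (a b : U) : sgQ R (a + b) = sgQ R a * sgQ R b := by
  apply Subtype.ext
  exact ((siegel_mul Q_eP (polar_eP_iu a) (polar_eP_iu b)).trans
    (siegel_congr _ _ Q_eP (polar_eP_iu (a + b)) rfl (iu_add a b).symm)).symm

theorem sgQ_zero : sgQ R 0 = 1 := by
  have h := sgQ_add (R := R) 0 0
  rw [add_zero] at h
  exact mul_eq_left.1 h.symm

theorem sgQ_neg (a : U) : sgQ R (-a) = (sgQ R a)⁻¹ := by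
  rw [eq_inv_iff_mul_eq_one, ← sgQ_add, neg_add_cancel, sgQ_zero]

/-- The extension of an isometry of `U`. -/
def liftO (R : QuadraticForm F U) : Orth R →* Orth (plane R) where
  toFun g := ⟨(LinearEquiv.refl F (F × F)).prodCongr g.1, fun x => by
    simp [plane_apply, orth_Q]⟩
  map_one' := rfl
  map_mul' _ _ := rfl

theorem liftO_apply (g : Orth R) (x : (F × F) × U) : (liftO R g).1 x = (x.1, g.1 x.2) := rfl

theorem liftO_siegel {u w : U} (hu : R u = 0) (hw : polar R u w = 0) :
    liftO R (siegel R u w hu hw) =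
      siegel (plane R) (iu F u) (iu F w) (by rw [Q_iu, hu]) (by rw [polar_iu, hw]) := by
  refine orth_ext fun x => ?_
  rw [liftO_apply, siegel_apply, siegel_apply]
  simp [polar_plane, iu, Prod.ext_iff, plane_apply]

theorem liftO_mem {g : Orth R} (hg : g ∈ siegelGroup R) : liftO R g ∈ siegelGroup (plane R) := by
  induction hg using Subgroup.closure_induction with
  | mem x hx =>
    obtain ⟨u, w, hu, hw, rfl⟩ := hx
    rw [liftO_siegel]
    exact siegel_mem _ _
  | one => rw [map_one]; exact one_mem _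
  | mul x y _ _ hx hy => rw [map_mul]; exact mul_mem hx hy
  | inv x _ hx => rw [map_inv]; exact inv_mem hx

theorem liftO_refl (v : U) : liftO R (refl R v) = refl (plane R) (iu F v) := by
  refine orth_ext fun x => ?_
  rw [liftO_apply, refl_apply, refl_apply]
  simp [polar_plane, iu, Prod.ext_iff, plane_apply]

/-- The diagonal elements on the hyperbolic pair. -/
def diagO (R : QuadraticForm F U) (l : Fˣ) : Orth (plane R) :=
  ⟨((LinearEquiv.smulOfUnit l).prodCongr (LinearEquiv.smulOfUnit l⁻¹)).prodCongr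
    (LinearEquiv.refl F U), fun x => by
      simp only [plane_apply, LinearEquiv.prodCongr_apply, LinearEquiv.refl_apply]
      show ((l : F) * x.1.1) * (((l⁻¹ : Fˣ) : F) * x.1.2) + R x.2 = _
      rw [Units.val_inv_eq_inv_val]
      field_simp⟩

theorem diagO_apply (l : Fˣ) (x y : F) (u : U) :
    (diagO R l).1 ((x, y), u) = (((l : F) * x, ((l⁻¹ : Fˣ) : F) * y), u) := rfl

/-- A Levi element. -/
def levO (R : QuadraticForm F U) (l : Fˣ) (h : Orth R) : Orth (plane R) := diagO R l * liftO R h

theorem levO_apply (l : Fˣ) (h : Orth R) (x y : F) (u : U) :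
    (levO R l h).1 ((x, y), u) = (((l : F) * x, ((l⁻¹ : Fˣ) : F) * y), h.1 u) := rfl

theorem levO_one (h : Orth R) : levO R 1 h = liftO R h := by
  refine orth_ext fun x => ?_
  obtain ⟨⟨x, y⟩, u⟩ := x
  simp [levO_apply, liftO_apply]

theorem diagO_eq_levO (l : Fˣ) : diagO R l = levO R l 1 := by simp [levO]

theorem levO_mul (l l' : Fˣ) (h h' : Orth R) :
    levO R l h * levO R l' h' = levO R (l * l') (h * h') := by
  refine orth_ext fun x => ?_
  obtain ⟨⟨x, y⟩, u⟩ := x
  simp [levO_apply, mul_comm, mul_left_comm]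

theorem levO_conj_siegel (l : Fˣ) (h : Orth R) (a : U) :
    levO R l h * (sgQ R a).1 * (levO R l h)⁻¹ = (sgQ R ((l : F) • h.1 a)).1 := by
  rw [mul_inv_eq_iff_eq_mul]
  refine orth_ext fun x => ?_
  obtain ⟨⟨x, y⟩, u⟩ := x
  simp only [mul_apply, levO_apply, sgQ_apply, map_add, map_smul, polar_smul_right, orth_polar,
    QuadraticMap.map_smul, orth_Q, smul_eq_mul, smul_smul, Units.val_inv_eq_inv_val]
  have hl := l.ne_zero
  refine Prod.ext (Prod.ext ?_ rfl) ?_
  · field_simp
  · show h.1 u + y • h.1 a = h.1 u + ((l : F)⁻¹ * y * l) • h.1 a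
    congr 2
    field_simp

section Finite

variable [FiniteDimensional F U] (hnd : NDPolar R) (P : Frame R)

include hnd P

theorem diagO_eq_refl (l : Fˣ) :
    diagO R l = refl (plane R) ((1, 1), 0) * refl (plane R) ((1, (l : F)), 0) := by
  refine orth_ext fun x => ?_
  obtain ⟨⟨x, y⟩, u⟩ := x
  simp only [diagO_apply, mul_apply, refl_apply, polar_plane, plane_apply, QuadraticMap.map_zero,
    polar_zero_right, Prod.smul_mk, smul_zero, Prod.mk_add_mk, add_zero, smul_eq_mul, mul_one,
    one_mul, Units.val_inv_eq_inv_val]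
  have hl := l.ne_zero
  refine Prod.ext (Prod.ext ?_ ?_) rfl <;> field_simp <;> ring

theorem mk_refl_plane (v : (F × F) × U) :
    QuotientGroup.mk' (siegelGroup (plane R)) (refl (plane R) v) =
      reflClass (planeFrame P) (plane R v) :=
  reflClass_eq (ndPolar_plane hnd) (planeFrame P) v

theorem levO_refl_mem (l : Fˣ) (u₁ u₂ : U)
    (h : reflClass (planeFrame P) (R u₁) * reflClass (planeFrame P) (R u₂) =
      reflClass (planeFrame P) 1 * reflClass (planeFrame P) (l : F)) :
    levO R l (refl R u₁ * refl R u₂) ∈ siegelGroup (plane R) := by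
  rw [← QuotientGroup.eq_one_iff, ← QuotientGroup.mk'_apply, levO, diagO_eq_refl hnd P,
    map_mul (liftO R), liftO_refl, liftO_refl]
  simp only [map_mul, mk_refl_plane hnd P]
  simp only [plane_apply, iu, QuadraticMap.map_zero, one_mul, add_zero, mul_zero, zero_add]
  rw [h, mul_assoc, ← mul_assoc (reflClass (planeFrame P) (l : F)),
    reflClass_comm (ndPolar_plane hnd) (planeFrame P) (l : F) 1, mul_assoc (reflClass (planeFrame P) 1),
    reflClass_mul_self, mul_one, reflClass_mul_self]

theorem diagO_sq_mem (s : Fˣ) : diagO R (s * s) ∈ siegelGroup (plane R) := by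
  rw [← QuotientGroup.eq_one_iff, ← QuotientGroup.mk'_apply, diagO_eq_refl hnd P, map_mul]
  simp only [mk_refl_plane hnd P]
  simp only [plane_apply, QuadraticMap.map_zero, one_mul, add_zero, Units.val_mul]
  have h := reflClass_sq (ndPolar_plane hnd) (planeFrame P) s.ne_zero 1
  rw [mul_one] at h
  rw [h, reflClass_mul_self]

theorem exists_val (c : F) : ∃ u : U, R u = c :=
  ⟨P.f₁ + c • P.e₁, Q_f₁_add P c⟩

theorem exists_levO (l : Fˣ) : ∃ h : Orth R, levO R l h ∈ siegelGroup (plane R) := by
  obtain ⟨u₁, h₁⟩ := exists_val hnd P 1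
  obtain ⟨u₂, h₂⟩ := exists_val hnd P (l : F)
  exact ⟨_, levO_refl_mem hnd P l u₁ u₂ (by rw [h₁, h₂])⟩

/-- A Levi element carrying `a` to any vector whose value differs from `R a` by a square. -/
theorem exists_levO_map {a v : U} (ha : R a ≠ 0) {s : F} (hs : s ≠ 0) (hv : R v = s * s * R a) :
    ∃ (l : Fˣ) (h : Orth R), levO R l h ∈ siegelGroup (plane R) ∧ (l : F) • h.1 a = v := by
  obtain ⟨h₁, hm₁⟩ := exists_levO hnd P (Units.mk0 s hs)
  have hQ : R (s • h₁.1 a) = R v := by rw [QuadraticMap.map_smul, orth_Q, hv, smul_eq_mul]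
  have hv0 : R v ≠ 0 := by rw [hv]; exact mul_ne_zero (mul_ne_zero hs hs) ha
  obtain ⟨g, hg, hgv⟩ := level_trans hnd P
    (fun h => hv0 (by rw [← hQ, h, QuadraticMap.map_zero]))
    (fun h => hv0 (by rw [h, QuadraticMap.map_zero])) hQ
  refine ⟨Units.mk0 s hs, g * h₁, ?_, ?_⟩
  · have := mul_mem (liftO_mem hg) hm₁
    rwa [← levO_one, levO_mul, one_mul] at this
  · rw [Units.val_mk0, mul_apply, ← map_smul, hgv]

/-- A root element of `U` is conjugate to an element of the unipotent radical. -/
theorem exists_conj_root {a b : U} (ha : R a = 0) (hb : R b = 0) (hab : polar R a b = 0)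
    (hind : ∀ c : F, c • a ≠ b) (ha0 : a ≠ 0) :
    ∃ k : siegelGroup (plane R),
      k * ⟨_, liftO_mem (siegel_mem (w := b) ha hab)⟩ * k⁻¹ = sgQ R (-a) := by
  have hli : LinearIndependent F ![b, a] := not_smul_eq_of_indep ha0 hind
  obtain ⟨c₀, hc1, hc2⟩ := exists_polar_pair hnd hli 1 0
  have hab' : polar R b a = 0 := by rw [polar_comm]; exact hab
  set c : (F × F) × U := ((-(R c₀), 1), c₀) with hc
  have hcQ : plane R c = 0 := by simp [hc, plane_apply]
  have hce : polar (plane R) c (eP F U - iu F b) = 0 := by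
    simp [hc, polar_plane, eP, iu, polar_comm R c₀ b, hc1]
  refine ⟨⟨_, siegel_mem hcQ hce⟩, ?_⟩
  have hb' : (siegel (plane R) c _ hcQ hce).1 (iu F b) = eP F U := by
    simp [siegel_apply, hc, polar_plane, eP, iu, hc1, hb, plane_apply,
      QuadraticMap.map_neg]
  have ha' : (siegel (plane R) c _ hcQ hce).1 (iu F a) = iu F a := by
    refine siegel_fix _ _ ?_ ?_
    · simp [hc, polar_plane, iu, hc2]
    · simp [polar_plane, iu, eP, hab]
  apply Subtype.ext
  show siegel (plane R) c _ hcQ hce * liftO R (siegel R a b ha hab) *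
    (siegel (plane R) c _ hcQ hce)⁻¹ =
      siegel (plane R) (eP F U) (iu F (-a)) Q_eP (polar_eP_iu (-a))
  rw [liftO_siegel, siegel_conj, siegel_congr _ _ (by rw [Q_iu, ha]) (by rw [polar_comm]; exact polar_eP_iu a)
    ha' hb']
  refine orth_ext fun x => ?_
  simp only [siegel_apply, iu, eP, polar_plane, plane_apply, QuadraticMap.map_neg, ha,
    QuadraticMap.map_zero, polar_neg_right, polar_zero_right, Prod.smul_mk, smul_zero, smul_eq_mul]
  simp [Prod.ext_iff]

/-! ### Singular points -/

omit P in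
omit hnd in
/-- The singular points. -/
abbrev Pts (R : QuadraticForm F U) : Type _ := Quotient (sameLine (plane R))

omit P in
omit hnd in
instance instSMulPts : SMul (siegelGroup (plane R)) (Pts R) :=
  ⟨fun g => Quotient.map (singPerm (plane R) g.1) fun x y ⟨c, hc⟩ => ⟨c, by
    show c • g.1.1 x.1 = g.1.1 y.1
    rw [← map_smul, hc]⟩⟩

omit P in
omit hnd in
theorem smul_mk_pts (g : siegelGroup (plane R)) (v : SingVec (plane R)) :
    g • (⟦v⟧ : Pts R) = ⟦singPerm (plane R) g.1 v⟧ := rfl

omit P in
omit hnd in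
instance instMulActionPts : MulAction (siegelGroup (plane R)) (Pts R) where
  one_smul p := by induction p using Quotient.inductionOn; rfl
  mul_smul _ _ p := by induction p using Quotient.inductionOn; rfl

theorem isPretransitive_pts : MulAction.IsPretransitive (siegelGroup (plane R)) (Pts R) := by
  refine ⟨fun p p' => ?_⟩
  induction p using Quotient.inductionOn with
  | _ u =>
  induction p' using Quotient.inductionOn with
  | _ w =>
  obtain ⟨g, hg, hgu⟩ := siegelGroup_to_e₁ (ndPolar_plane hnd) (planeFrame P) u.2.2 u.2.1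
  obtain ⟨g', hg', hgw⟩ := siegelGroup_to_e₁ (ndPolar_plane hnd) (planeFrame P) w.2.2 w.2.1
  refine ⟨⟨g'⁻¹ * g, mul_mem (inv_mem hg') hg⟩, ?_⟩
  rw [smul_mk_pts]
  congr 1
  refine Subtype.ext ?_
  show (g'⁻¹ * g).1 u.1 = w.1
  rw [mul_apply, hgu, ← hgw, inv_apply_self]

theorem center_le_stabilizer_pts (p : Pts R) :
    Subgroup.center (siegelGroup (plane R)) ≤ MulAction.stabilizer (siegelGroup (plane R)) p := by
  intro z hz
  rw [MulAction.mem_stabilizer_iff]
  induction p using Quotient.inductionOn with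
  | _ u =>
  rw [smul_mk_pts, Quotient.eq]
  rcases (mem_center_siegelGroup_iff (ndPolar_plane hnd) (planeFrame P) z).1 hz with h | h
  · exact ⟨1, by show (1 : F) • z.1.1 u.1 = u.1; rw [h, one_smul]⟩
  · exact ⟨-1, by show (-1 : F) • z.1.1 u.1 = u.1; rw [h, neg_one_smul, neg_neg]⟩

variable [Finite F] [Finite U]

omit P in
omit hnd in
theorem card_zeros_plane :
    Nat.card {v : (F × F) × U // plane R v = 0} + Nat.card U =
      Nat.card F * Nat.card U + Nat.card F * Nat.card {u : U // R u = 0} := by
  classical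
  have h1 := card_split (fun v : (F × F) × U => plane R v = 0) (fun v => v.1.1 = 0)
  have h2 : Nat.card {v : (F × F) × U // plane R v = 0 ∧ v.1.1 = 0} =
      Nat.card F * Nat.card {u : U // R u = 0} := by
    rw [← Nat.card_prod]
    exact Nat.card_congr
      { toFun := fun v => (v.1.1.2, ⟨v.1.2, by simpa [plane_apply, v.2.2] using v.2.1⟩)
        invFun := fun p => ⟨((0, p.1), p.2.1), by simp [plane_apply, p.2.2], rfl⟩
        left_inv := fun v => Subtype.ext (Prod.ext (Prod.ext v.2.2.symm rfl) rfl)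
        right_inv := fun _ => rfl }
  have h3 : Nat.card {v : (F × F) × U // plane R v = 0 ∧ ¬ v.1.1 = 0} =
      Nat.card {x : F // x ≠ 0} * Nat.card U := by
    rw [← Nat.card_prod]
    exact Nat.card_congr
      { toFun := fun v => (⟨v.1.1.1, v.2.2⟩, v.1.2)
        invFun := fun p => ⟨((p.1.1, -(R p.2) / p.1.1), p.2), by
          rw [plane_apply]
          field_simp [p.1.2]
          ring, p.1.2⟩
        left_inv := fun v => by
          obtain ⟨⟨⟨x, y⟩, u⟩, hv, hx⟩ := v
          refine Subtype.ext (Prod.ext (Prod.ext rfl ?_) rfl)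
          show -(R u) / x = y
          rw [plane_apply] at hv
          rw [div_eq_iff hx]
          linear_combination -hv
        right_inv := fun _ => rfl }
  have h4 : Nat.card {x : F // x ≠ 0} + 1 = Nat.card F := by
    cases nonempty_fintype F
    rw [← Nat.card_congr unitsEquivNeZero, Nat.card_eq_fintype_card, Fintype.card_units,
      Nat.card_eq_fintype_card]
    exact Nat.sub_add_cancel Fintype.card_pos
  rw [h1, h2, h3, ← h4]
  ring

omit P in
omit hnd in
theorem card_pts_mul :
    Nat.card (Pts R) * (Nat.card F - 1) + 1 = Nat.card {v : (F × F) × U // plane R v = 0} := by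
  classical
  cases nonempty_fintype F
  let rep : Pts R → SingVec (plane R) := Quotient.out
  have h1 : Nat.card (SingVec (plane R)) = Nat.card (Pts R) * (Nat.card F - 1) := by
    rw [Nat.card_eq_fintype_card (α := F), ← Fintype.card_units, ← Nat.card_eq_fintype_card,
      ← Nat.card_prod]
    refine (Nat.card_congr (Equiv.ofBijective (fun p : Pts R × Fˣ =>
      (⟨(p.2 : F) • (rep p.1).1, smul_ne_zero p.2.ne_zero (rep p.1).2.1, by
        simp [QuadraticMap.map_smul, (rep p.1).2.2]⟩ : SingVec (plane R))) ⟨?_, ?_⟩)).symm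
    · rintro ⟨p, c⟩ ⟨p', c'⟩ h
      have h' : (c : F) • (rep p).1 = (c' : F) • (rep p').1 := congrArg Subtype.val h
      obtain rfl : p = p' := by
        rw [← Quotient.out_eq p, ← Quotient.out_eq p']
        exact Quotient.sound ⟨((c'⁻¹ : Fˣ) : F) * c, by
          show _ • (rep p).1 = (rep p').1
          rw [mul_smul, h', smul_smul, Units.inv_mul, one_smul]⟩
      exact Prod.ext rfl (Units.ext (smul_left_injective F (rep p).2.1 h'))
    · intro v
      obtain ⟨c, hc⟩ := Quotient.mk_out (s := sameLine (plane R)) v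
      have hc0 : c ≠ 0 := by
        rintro rfl
        exact v.2.1 (by rw [← hc, zero_smul])
      exact ⟨(⟦v⟧, Units.mk0 c hc0), Subtype.ext hc⟩
  rw [← h1, card_split (fun v : (F × F) × U => plane R v = 0) (fun v => v = 0), add_comm]
  congr 1
  · rw [eq_comm, Nat.card_eq_one_iff_unique]
    exact ⟨⟨fun a b => Subtype.ext (a.2.2.trans b.2.2.symm)⟩,
      ⟨⟨0, QuadraticMap.map_zero _, rfl⟩⟩⟩
  · exact Nat.card_congr (Equiv.subtypeEquivRight fun v => and_comm)

end Finite

end CfsgLib.MinIndexOrth
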