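import Cfsg.Agent.Lib.MinIndexOrth.Models

/-!
The minimal index of `PΩ⁺_{2m}(q)`, `m ≥ 4`, `q ≥ 4`.
-/

set_option autoImplicit false
set_option linter.unusedSectionVars false

namespace CfsgLib.MinIndexOrth

open QuadraticMap Module CfsgLib.Classical.Quad

variable {F : Type*} [Field F] [Finite F]

theorem plus_counts (n : ℕ) (hn : 1 ≤ n) (q P : ℕ) (hq : Nat.card F = q) (hP : q ^ (n - 1) = P) :
    Nat.card (sing (hypForm n (zeroKernel F))) = (q * P - 1) * (P + 1) ∧
      ∀ c : F, c ≠ 0 → (q * P - 1) * P ≤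
        Nat.card {v : ((Fin n → F) × (Fin n → F)) × (Fin 0 → F) // hypForm n (zeroKernel F) v = c} := by
  classical
  cases nonempty_fintype F
  have hqn : q ^ n = q * P := by rw [← hP, ← pow_succ', Nat.sub_add_cancel hn]
  have hW : Nat.card (Fin 0 → F) = 1 := by simp
  refine ⟨?_, fun c hc => ?_⟩
  · have h := Hyp.card_zeros_eq (R := hypForm n (zeroKernel F))
    rw [card_level_hypForm, card_zeros_zeroKernel, hW, hq, hqn, hP, mul_one, mul_one] at h
    have h1 : 1 ≤ q * P := by
      rw [← hqn, ← hq]; exact Nat.one_le_pow _ _ Nat.card_pos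
    obtain ⟨a, ha⟩ : ∃ a, q * P = a + 1 := ⟨_, (Nat.sub_add_cancel h1).symm⟩
    rw [ha, Nat.add_sub_cancel] at h ⊢
    rw [mul_add, mul_one]
    omega
  · rw [card_level_hypForm, hW, hq, hqn, hP, mul_one]
    exact Nat.le_add_right _ _

theorem num_ratio {r b c u v : ℕ} (hu : v * ((r + 1) * (r + 1)) ≤ u * (r * r))
    (hv : 0 < v) (hb : 2 * (b + 2) * u ≤ c * v * b) :
    (r + 1) * (r + 1) * (b + 2) * 2 ≤ c * (r * r) * b := by
  refine Nat.le_of_mul_le_mul_left ?_ hv
  calc v * ((r + 1) * (r + 1) * (b + 2) * 2) = v * ((r + 1) * (r + 1)) * (2 * (b + 2)) := by ring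
    _ ≤ u * (r * r) * (2 * (b + 2)) := Nat.mul_le_mul_right _ hu
    _ = r * r * (2 * (b + 2) * u) := by ring
    _ ≤ r * r * (c * v * b) := Nat.mul_le_mul_left _ hb
    _ = _ := by ring

theorem plus_bound {r a P d : ℕ} (hr : 2 ≤ r) (hPr : (r + 1) * P = a + 1)
    (hd : d * r = (r * (a + 1) + a) * (a + 2)) {k c : ℕ} (hc : c * r ≤ 2 * k)
    (hnum : (r + 1) * (r + 1) * (a + 2) * 2 ≤ c * (r * r) * a) : d ≤ k * (a * P) := by
  have hbound : d * r ≤ (r + 1) * (r + 1) * P * (a + 2) := by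
    rw [hd]
    refine Nat.mul_le_mul_right _ ?_
    rw [mul_assoc, hPr, add_one_mul]
    omega
  refine Nat.le_of_mul_le_mul_right ?_ (show 0 < 2 * r by omega)
  calc d * (2 * r) = 2 * (d * r) := by ring
    _ ≤ 2 * ((r + 1) * (r + 1) * P * (a + 2)) := Nat.mul_le_mul_left _ hbound
    _ = P * ((r + 1) * (r + 1) * (a + 2) * 2) := by ring
    _ ≤ P * (c * (r * r) * a) := Nat.mul_le_mul_left _ hnum
    _ = c * r * r * (a * P) := by ring
    _ ≤ 2 * k * r * (a * P) := Nat.mul_le_mul_right _ (Nat.mul_le_mul_right _ hc)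
    _ = _ := by ring

theorem plus_two {r a P d s : ℕ} (hr : 3 ≤ r) (ha : 16 ≤ a) (hPr : (r + 1) * P = a + 1)
    (hd : d * r = (r * (a + 1) + a) * (a + 2)) (hs : r ≤ s) : d ≤ 2 * s * (a * P) :=
  plus_bound (c := 4) (by omega) hPr hd (by omega)
    (num_ratio (u := 16) (v := 9) (by nlinarith) (by omega) (by omega))

theorem plus_five {r a P d s : ℕ} (hr : 4 ≤ r) (ha : 16 ≤ a) (hPr : (r + 1) * P = a + 1)
    (hd : d * r = (r * (a + 1) + a) * (a + 2)) (hs : r ≤ 2 * s) : d ≤ 5 * s * (a * P) :=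
  plus_bound (c := 5) (by omega) hPr hd (by omega)
    (num_ratio (u := 25) (v := 16) (by nlinarith) (by omega) (by omega))

theorem plus_three {r a P d s : ℕ} (hr : 6 ≤ r) (ha : 20 ≤ a) (hPr : (r + 1) * P = a + 1)
    (hd : d * r = (r * (a + 1) + a) * (a + 2)) (hs : r ≤ 2 * s) : d ≤ 3 * s * (a * P) :=
  plus_bound (c := 3) (by omega) hPr hd (by omega)
    (num_ratio (u := 49) (v := 36) (by nlinarith) (by omega) (by omega))

theorem plus_exc {r a P d : ℕ} (hr : 0 < r) (hP : P = (r + 1) * (r + 1))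
    (hPr : (r + 1) * P = a + 1) (hd : d * r = (r * (a + 1) + a) * (a + 2)) :
    d ≤ (r + 2) * (P + 1) * (a + 2) := by
  refine Nat.le_of_mul_le_mul_right ?_ hr
  rw [hd]
  have h : r * (a + 1) + a ≤ (r + 2) * (P + 1) * r := by nlinarith
  calc (r * (a + 1) + a) * (a + 2) ≤ (r + 2) * (P + 1) * r * (a + 2) := Nat.mul_le_mul_right _ h
    _ = _ := by ring

theorem plus_gen {r a P T d : ℕ} (hr : 2 ≤ r) (hP : 0 < P) (hT : (r + 1) * (r + 1) ≤ T)
    (hPr : (r + 1) * P = a + 1) (hd : d * r = (r * (a + 1) + a) * (a + 2)) :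
    d ≤ a * (P + 1) * (T + 1) := by
  refine Nat.le_of_mul_le_mul_right ?_ (show 0 < r by omega)
  rw [hd]
  have e0 : r ≤ a := by nlinarith
  have e1 : r * (a + 1) + a ≤ (r + 2) * a := by nlinarith
  have e2 : a + 2 ≤ (r + 1) * (P + 1) := by nlinarith
  have e3 : (r + 2) * (r + 1) ≤ r * (T + 1) := by nlinarith
  calc (r * (a + 1) + a) * (a + 2) ≤ (r + 2) * a * ((r + 1) * (P + 1)) := Nat.mul_le_mul e1 e2
    _ = (r + 2) * (r + 1) * (a * (P + 1)) := by ring
    _ ≤ r * (T + 1) * (a * (P + 1)) := Nat.mul_le_mul_right _ e3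
    _ = _ := by ring

theorem plus_hexc {r a P d : ℕ} (hr : 3 ≤ r) (hPb : (r + 1) * (r + 1) ≤ P)
    (hPr : (r + 1) * P = a + 1) (hd : d * r = (r * (a + 1) + a) * (a + 2)) :
    d ≤ (r + 3) * (a * (P + 1)) := by
  refine Nat.le_of_mul_le_mul_right ?_ (show 0 < r by omega)
  have e0 : r + 1 ≤ a := by nlinarith
  rw [hd, show a + 2 = (r + 1) * P + 1 by omega]
  have e1 : r * ((r + 1) * P) = r * (a + 1) := by rw [hPr]
  have e2 : 0 ≤ (r - 1) * (a * P) := Nat.zero_le _
  have e3 : a * P ≤ r * (a * P) := Nat.le_mul_of_pos_left _ (by omega)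
  have e4 : 2 * r ≤ r * r * a := by
    have : r * 2 ≤ r * (r * a) := Nat.mul_le_mul_left _ (by nlinarith)
    nlinarith
  nlinarith

theorem plus_X {q a P T X : ℕ} (hT : P = q * T) (hqP : q * P = a + 1)
    (hX : X + q + (a + 1) * P = a * (P + 1) + 1 + P * P) :
    X = (a + 1 - q) * (T + 1) := by
  have hqa : q ≤ a + 1 := by
    rcases Nat.eq_zero_or_pos P with h | h
    · subst h; simp at hqP
    · rw [← hqP]; exact Nat.le_mul_of_pos_right _ h
  have hqT' : (q : ℤ) * T = P := by exact_mod_cast hT.symm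
  have hqP' : (q : ℤ) * P = a + 1 := by exact_mod_cast hqP
  zify [hqa] at hX ⊢
  linear_combination hX + (T : ℤ) * hqP' - ((P : ℤ) - 1) * hqT'

/-- The minimal index of a proper subgroup of `PΩ⁺_{2(n+1)}(q)`. -/
theorem plus_min_index (n : ℕ) (hn : 3 ≤ n) (hq4 : 4 ≤ Nat.card F) :
    ∃ d : ℕ, d * (Nat.card F - 1) =
        (Nat.card F ^ (n + 1) - 1) * (Nat.card F ^ n + 1) ∧
      (∀ K : Subgroup (Cfsg.POmega F (Cfsg.quadFormPlus (n + 1) F)), K ≠ ⊤ → d ≤ K.index) ∧
        ∃ K : Subgroup (Cfsg.POmega F (Cfsg.quadFormPlus (n + 1) F)), K.index = d := by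
  classical
  cases nonempty_fintype F
  let R := hypForm n (zeroKernel F)
  set q := Nat.card F with hqdef
  set P := q ^ (n - 1) with hPdef
  obtain ⟨hS, hℓ⟩ := plus_counts n (by omega) q P rfl rfl
  set S := Nat.card (sing R) with hSdef
  have hqn : q ^ n = q * P := by rw [hPdef, ← pow_succ', Nat.sub_add_cancel (by omega)]
  have hN : finrank F (((Fin n → F) × (Fin n → F)) × (Fin 0 → F)) = 2 * n := by
    rw [finrank_model, Module.finrank_fin_fun]; rfl
  have hPge : q * q ≤ P := by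
    rw [hPdef, ← pow_two]
    exact Nat.pow_le_pow_right (by omega) (by omega)
  obtain ⟨T, hT⟩ : ∃ T, P = q * T := ⟨q ^ (n - 2), by
    rw [hPdef, ← pow_succ']; congr 1; omega⟩
  have hqT : q ≤ T := Nat.le_of_mul_le_mul_left (hT ▸ hPge) (by omega)
  obtain ⟨a, ha⟩ : ∃ a, q * P = a + 1 := ⟨q * P - 1, by
    have : 0 < q * P := Nat.mul_pos (by omega) (by nlinarith)
    omega⟩
  obtain ⟨r, hr⟩ : ∃ r, q = r + 1 := ⟨q - 1, by omega⟩
  rw [ha, Nat.add_sub_cancel] at hS hℓ
  have hd := Hyp.card_pts_sub (R := R)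
  rw [hN, ← hqdef, ← hSdef, hS, show 2 * n = n + n by omega, pow_add, hqn, ha, hr,
    Nat.add_sub_cancel] at hd
  set d := Nat.card (Pts R) with hddef
  have hPr : (r + 1) * P = a + 1 := by rw [← hr]; exact ha
  have hPr : (r + 1) * P = a + 1 := by rw [← hr]; exact ha
  have hd' : d * r = (r * (a + 1) + a) * (a + 2) := by
    rw [hd]
    linear_combination a * hPr
  have hr3 : 3 ≤ r := by omega
  have hP0 : 0 < P := by rw [hPdef]; exact pow_pos (by omega) _
  have hP16 : (r + 1) * (r + 1) ≤ P := by rw [← hr]; exact hPge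
  have ha64 : 63 ≤ a := by
    have h1 : 4 * 4 ≤ P := le_trans (Nat.mul_le_mul (by omega) (by omega)) hP16
    have h2 : 4 * P ≤ (r + 1) * P := Nat.mul_le_mul_right _ (by omega)
    omega
  have key : d ≤ ringChar F * sqCount F * (a * P) ∧ d ≤ 5 * sqCount F * (a * P) ∧
      2 ≤ sqCount F := by
    by_cases h2 : (2 : F) = 0
    · have hp : ringChar F = 2 := by
        have h' : ((2 : ℕ) : F) = 0 := by exact_mod_cast h2
        exact (Nat.prime_dvd_prime_iff_eq (CharP.char_is_prime F _) Nat.prime_two).1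
          ((ringChar.spec F 2).1 h')
      have hs : r ≤ sqCount F := by
        have := sqCount_two h2
        rw [← hqdef, hr, Nat.add_sub_cancel] at this
        exact this
      have h4 := plus_two hr3 (by omega) hPr hd' hs
      exact ⟨by rw [hp]; exact h4,
        le_trans h4 (Nat.mul_le_mul_right _ (Nat.mul_le_mul_right _ (by omega))), by omega⟩
    · have hodd : Odd q := (two_ne_zero_iff_odd).1 h2
      obtain ⟨t, ht⟩ := hodd
      obtain ⟨-, hp3, hp5⟩ := char_bound (F := F) ⟨t, ht⟩ (show 5 ≤ q by omega)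
      have hs : r ≤ 2 * sqCount F := by
        have := sqCount_ge (F := F)
        rw [← hqdef, hr, Nat.add_sub_cancel] at this
        exact this
      have h5 := plus_five (show 4 ≤ r by omega) (by omega) hPr hd' hs
      refine ⟨?_, h5, by omega⟩
      by_cases hq5 : q = 5
      · rw [hp5 hq5]; exact h5
      · exact le_trans (plus_three (show 6 ≤ r by omega) (by omega) hPr hd' hs)
          (Nat.mul_le_mul_right _ (Nat.mul_le_mul_right _ hp3))
  obtain ⟨hkp, hk5, hk2⟩ := key
  have hSℓ : S < sqCount F * (a * P) := by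
    refine lt_of_lt_of_le ?_ (Nat.mul_le_mul_right _ hk2)
    rw [hS, show 2 * (a * P) = a * (2 * P) by ring]
    have hP1 : 4 * 4 ≤ P := le_trans (Nat.mul_le_mul (by omega) (by omega)) hP16
    exact Nat.mul_lt_mul_of_pos_left (by omega) (by omega)
  let H : Hyp R :=
    { hnd := ndPolar_hypForm ndPolar_zeroKernel n
      P := hypFrameThree (zeroKernel F) hn
      n := n
      two_le_n := by omega
      hN := by rw [hN]; omega
      hidx := finrank_ts_le (fun w _ => Subsingleton.elim w 0) n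
      cl := sqCount F * (a * P)
      hcl := fun x hx => cls_card_ge hx hℓ
      h5 := by rw [← mul_assoc]; exact hk5
      hp := fun _ => by rw [← mul_assoc]; exact hkp
      h3 := fun h => by omega
      h2 := fun h => by omega
      hS := hSℓ
      hX := fun X hX => by
        rw [hN, ← hqdef, ← hSdef, hS, show 2 * n - 1 = n + (n - 1) by omega,
          show 2 * n - 2 = (n - 1) + (n - 1) by omega, pow_add, pow_add, ← hPdef, hqn, ha] at hX
        rw [← hSdef, ← hddef, ← hqdef, hqn, ha, hS, plus_X hT ha hX]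
        rcases Nat.lt_or_ge n 4 with h4 | h4
        · have hn3 : n = 3 := by omega
          have hP2 : P = q * q := by rw [hPdef, hn3]; ring
          have hTq : T = q := Nat.eq_of_mul_eq_mul_left (show 0 < q by omega) (hT.symm.trans hP2)
          refine Or.inr ⟨hq4, by rw [hTq, mul_comm], (q + 1) * (P + 1), ?_, ?_⟩
          · rw [Nat.add_sub_cancel]; ring
          · rw [hr]
            exact plus_exc (by omega) (by rw [hP2, hr]) hPr hd'
        · left
          have hT2 : (r + 1) * (r + 1) ≤ T := by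
            rw [← hr]
            refine Nat.le_of_mul_le_mul_left ?_ (show 0 < q by omega)
            rw [← hT, hPdef, show q * (q * q) = q ^ 3 by ring]
            exact Nat.pow_le_pow_right (by omega) (by omega)
          rw [show a * (P + 1) * ((a + 1 - q) * (T + 1)) =
            a * (P + 1) * (T + 1) * (a + 1 - q) by ring]
          exact Nat.mul_le_mul_right _ (plus_gen (by omega) (by omega) hT2 hPr hd') }
  have hexc : d ≤ (q + 2) * S := by
    rw [hS, hr]
    exact plus_hexc hr3 hP16 hPr hd'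
  obtain ⟨h1, h2⟩ := pomega_min_index (Qf := Cfsg.quadFormPlus (n + 1) F) H (fun _ => hexc)
    (hasTwist_of_four_le H hq4)
    ((plusEquiv (n + 1) F).trans (hypSuccEquiv n)) fun v => by
      rw [LinearEquiv.trans_apply, plane_hypSuccEquiv, plusEquiv_spec]
  refine ⟨d, ?_, h1, h2⟩
  rw [pow_succ, hqn, ha, hr, Nat.add_sub_cancel, hd',
    show (a + 1) * (r + 1) - 1 = r * (a + 1) + a by
      rw [show (a + 1) * (r + 1) = r * (a + 1) + a + 1 by ring, Nat.add_sub_cancel]]

end CfsgLib.MinIndexOrth
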