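import Cfsg.Agent.Lib.MinIndexOrth.Class
import Cfsg.Agent.Lib.Linear.Transvection

/-!
In an action of small degree a totally singular annihilator lies in a line.
-/

set_option autoImplicit false
set_option linter.unusedSectionVars false

namespace CfsgLib.MinIndexOrth

open QuadraticMap Module CfsgLib.Classical.Quad

variable {F U : Type*} [Field F] [AddCommGroup U] [Module F U] {R : QuadraticForm F U}
variable [Finite F] [Finite U] [FiniteDimensional F U]
variable {Ω : Type*} [MulAction (siegelGroup (plane R)) Ω] [Finite Ω]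
variable [MulAction.IsPretransitive (siegelGroup (plane R)) Ω]
variable (H : Hyp R) (χ : AddChar F ℂ) (hχ : χ ≠ 1) (hne : 1 < Nat.card Ω)
variable (hlt : Nat.card Ω < Nat.card (Pts R))

/-- A non-zero totally singular annihilator. -/
def IsTS (χ : AddChar F ℂ) (o : Orb R Ω) : Prop :=
  oA χ o ≠ ⊥ ∧ ∀ x ∈ oA χ o, R x = 0

/-- An annihilator which is a totally singular subspace of the maximal dimension. -/
def IsGen (n : ℕ) (χ : AddChar F ℂ) (o : Orb R Ω) : Prop :=
  Nat.card (oA χ o) = Nat.card F ^ n ∧ (∀ x ∈ oA χ o, R x = 0) ∧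
    ∀ (c : F), ∀ x ∈ oA χ o, c • x ∈ oA χ o

theorem IsTS.polar_eq {χ : AddChar F ℂ} {o : Orb R Ω} (h : ∀ x ∈ oA χ o, R x = 0) {x y : U}
    (hx : x ∈ oA χ o) (hy : y ∈ oA χ o) : polar R x y = 0 :=
  polar_eq_zero_of_singular (h x hx) (h y hy) (h _ (add_mem hx hy))

theorem exists_card_pow (A : AddSubgroup U) {p N : ℕ} (hp : p.Prime)
    (hU : Nat.card U = p ^ N) : ∃ i, Nat.card A = p ^ i := by
  obtain ⟨i, -, hi⟩ := (Nat.dvd_prime_pow hp).1 (hU ▸ AddSubgroup.card_addSubgroup_dvd_card A)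
  exact ⟨i, hi⟩

include H

theorem isTS_mkL {h : Orth R} (hh : h ∈ siegelGroup R) {o : Orb R Ω}
    (ho : ∀ x ∈ oA χ o, R x = 0) : ∀ x ∈ oA χ (mkL R hh • o), R x = 0 := by
  intro x hx
  rw [← self_apply_inv h x, oA_mkL] at hx
  rw [← self_apply_inv h x, orth_Q]
  exact ho _ hx

theorem span_card_le {o : Orb R Ω} (ho : ∀ x ∈ oA χ o, R x = 0) :
    Nat.card (Submodule.span F (oA χ o : Set U)) ≤ Nat.card F ^ H.n :=
  H.card_span_le ho fun _ hx _ hy => IsTS.polar_eq ho hx hy

theorem oA_card_le {o : Orb R Ω} (ho : ∀ x ∈ oA χ o, R x = 0) :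
    Nat.card (oA χ o) ≤ Nat.card F ^ H.n :=
  le_trans (Nat.card_le_card_of_injective
    (fun x => (⟨x.1, Submodule.subset_span x.2⟩ : Submodule.span F (oA χ o : Set U)))
    fun _ _ h => Subtype.ext (congrArg Subtype.val h :)) (span_card_le H χ ho)

include hχ hlt

open scoped _root_.Classical in
theorem orbsWith_sing_le (hexc : Nat.card (Pts R) ≤ (Nat.card F + 2) * Nat.card (sing R)) {w : U}
    (hw : w ∈ sing R) : (orbsWith (R := R) (Ω := Ω) χ w).card ≤ Nat.card F + 1 := by
  by_contra hcon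
  push Not at hcon
  have h := le_card_of_cover (Ω := Ω) H.hnd χ hχ Finset.univ (sing R) (Nat.card F + 2) 1 1
    (fun v hv => ?_) fun o _ => by
      rw [mul_one, mul_one]
      exact Nat.card_le_card_of_injective (fun v => (⟨v.1, v.2.2⟩ : oA χ o))
        fun v w h => Subtype.ext (congrArg Subtype.val h :)
  · rw [← card_eq_sum H.hnd χ hχ, mul_one, mul_one] at h
    omega
  · obtain ⟨g, hg, rfl⟩ := level_trans H.hnd H.P hw.1 hv.1 (hw.2.trans hv.2.symm)
    refine le_trans (Nat.succ_le_of_lt hcon) (le_of_eq ?_)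
    have := card_orbsWith_mkLev (Ω := Ω) χ 1 g (by rw [levO_one]; exact liftO_mem hg) w
    rw [inv_one, Units.val_one, one_smul] at this
    exact this.symm

/-- The members of a family which is not collinear cover all pairs. -/
theorem ts_pair_count {o : Orb R Ω} (hts : IsTS χ o)
    (hline : ∀ w, ∃ x ∈ oA χ o, ∀ c : F, x ≠ c • w) :
    ∃ s : Finset (Orb R Ω), o ∈ s ∧ (∀ o' ∈ s, Nat.card (oA χ o') = Nat.card (oA χ o)) ∧
      ∀ X, (∀ w ∈ sing R, X ≤ Nat.card (sideSet R w)) →
        Nat.card (sing R) * X ≤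
          s.card * ((Nat.card (oA χ o) - 1) * (Nat.card F ^ H.n - Nat.card F)) := by
  classical
  let s : Finset (Orb R Ω) := Finset.univ.filter fun o' =>
    (∀ x ∈ oA χ o', R x = 0) ∧ Nat.card (oA χ o') = Nat.card (oA χ o)
  refine ⟨s, Finset.mem_filter.2 ⟨Finset.mem_univ _, hts.2, rfl⟩, fun o' ho' => (Finset.mem_filter.1 ho').2.2, fun X hX => ?_⟩
  obtain ⟨w₀, hw₀, hw₀0⟩ : ∃ x ∈ oA χ o, x ≠ 0 := by
    by_contra hcon
    push Not at hcon
    exact hts.1 ((AddSubgroup.eq_bot_iff_forall _).2 hcon)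
  obtain ⟨y₀, hy₀, hy₀i⟩ := hline w₀
  refine H.pair_count s (fun o' => (oA χ o' : Set U))
    (fun o' => Submodule.span F (oA χ o' : Set U)) _ (fun o' _ => Submodule.subset_span)
    (fun o' ho' => ?_) (fun o' ho' => span_card_le H χ (Finset.mem_filter.1 ho').2.1) X hX
    fun w hw v => ?_
  · rw [← (Finset.mem_filter.1 ho').2.2]
    refine Nat.le_sub_one_of_lt ?_
    have h1 := card_split (fun x : U => x ∈ oA χ o') (fun x => x ∈ sing R)
    have h0 : 0 < Nat.card {x : U // x ∈ oA χ o' ∧ ¬ x ∈ sing R} :=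
      Nat.card_pos_iff.2 ⟨⟨⟨0, zero_mem _, fun h => h.1 rfl⟩⟩, inferInstance⟩
    show Nat.card {x : U // x ∈ oA χ o' ∧ x ∈ sing R} < Nat.card {x : U // x ∈ oA χ o'}
    omega
  · obtain ⟨h, hh, hhw, hhy⟩ := pair_cover H.hnd H.P H.hidx H.hN hw₀0 (hts.2 _ hw₀)
      (hts.2 _ hy₀) (IsTS.polar_eq hts.2 hw₀ hy₀) (fun c hc => hy₀i c hc.symm) hw.1 hw.2 v.2.1
      (by rw [polar_comm]; exact v.2.2.1) v.2.2.2
    refine ⟨mkL R hh • o, Finset.mem_filter.2 ⟨Finset.mem_univ _, isTS_mkL H χ hh hts.2,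
      card_oA_smul χ _ _⟩, ?_, ?_⟩
    · rw [SetLike.mem_coe, ← hhw, oA_mkL]
      exact hw₀
    · have h1 : h.1 y₀ ∈ Submodule.span F (oA χ (mkL R hh • o) : Set U) :=
        Submodule.subset_span ((oA_mkL χ hh o y₀).2 hy₀)
      have h2 : w ∈ Submodule.span F (oA χ (mkL R hh • o) : Set U) :=
        hhw ▸ Submodule.subset_span ((oA_mkL χ hh o w₀).2 hw₀)
      obtain ⟨α, β, hαβ⟩ := Submodule.mem_span_pair.1 hhy
      have hβ : β ≠ 0 := by
        rintro rfl
        rw [zero_smul, add_zero, ← hhw, ← map_smul] at hαβ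
        exact hy₀i α (h.1.injective hαβ).symm
      have hv : v.1 = β⁻¹ • h.1 y₀ - (β⁻¹ * α) • w := by
        rw [← hαβ, smul_add, smul_smul, smul_smul, inv_mul_cancel₀ hβ]
        module
      rw [hv]
      exact sub_mem (Submodule.smul_mem _ _ h1) (Submodule.smul_mem _ _ h2)

variable (hq4 : 4 ≤ Nat.card F) {k₀ : ℕ}
variable (hk : (Nat.card F + 1) * Nat.card (sing R) = k₀ * (Nat.card F ^ H.n - 1))
variable (hd : Nat.card (Pts R) ≤ k₀ * (Nat.card F ^ H.n + 1))
variable (hexc : Nat.card (Pts R) ≤ (Nat.card F + 2) * Nat.card (sing R))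
variable (hside : ∀ w ∈ sing R,
  Nat.card (sideSet R w) = (Nat.card F + 1) * (Nat.card F ^ H.n - Nat.card F))

include hk hd hside

/-- In the exceptional case a non-collinear totally singular annihilator is a subspace. -/
theorem exc_isGen {o : Orb R Ω} (hts : IsTS χ o) (hline : ∀ w, ∃ x ∈ oA χ o, ∀ c : F, x ≠ c • w) :
    IsGen H.n χ o := by
  classical
  obtain ⟨s, hos, hcard, hcount⟩ := ts_pair_count H χ hχ hlt hts hline
  have h1 := hcount _ fun w hw => (hside w hw).ge
  have hq1 := Hyp.one_lt_q (F := F)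
  have hn := H.two_le_n
  have hqn2 : Nat.card F < Nat.card F ^ H.n :=
    calc Nat.card F = Nat.card F ^ 1 := (pow_one _).symm
      _ < _ := Nat.pow_lt_pow_right hq1 (by omega)
  set s₀ := Nat.card (oA χ o)
  set Q := Nat.card F ^ H.n
  have h2 : k₀ * (Q - 1) ≤ s.card * (s₀ - 1) := by
    rw [← hk]
    refine Nat.le_of_mul_le_mul_right ?_ (show 0 < Q - Nat.card F by omega)
    calc (Nat.card F + 1) * Nat.card (sing R) * (Q - Nat.card F)
        = Nat.card (sing R) * ((Nat.card F + 1) * (Q - Nat.card F)) := by ring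
      _ ≤ _ := h1
      _ = _ := by ring
  have h3 : s.card * s₀ ≤ Nat.card Ω := by
    refine le_trans ?_ (sum_le H.hnd χ hχ s)
    rw [← smul_eq_mul]
    exact Finset.card_nsmul_le_sum _ _ _ fun o' ho' => (hcard o' ho').ge
  have hle : s₀ ≤ Q := oA_card_le H χ hts.2
  have heq : s₀ = Q := by
    by_contra hne'
    obtain ⟨p, f, hp, hf⟩ : ∃ p f, p.Prime ∧ Nat.card F = p ^ f := by
      cases nonempty_fintype F
      obtain ⟨f, hp, hf⟩ := FiniteField.card F (ringChar F)
      exact ⟨ringChar F, f, hp, by rw [Nat.card_eq_fintype_card, hf]⟩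
    obtain ⟨i, hi⟩ := exists_card_pow (oA χ o) (N := f * finrank F U) hp
      (by rw [card_univ_eq (F := F), hf, pow_mul])
    have hQ : Q = p ^ (f * H.n) := by rw [pow_mul, ← hf]
    have hij : i < f * H.n := by
      have : p ^ i < p ^ (f * H.n) := by
        rw [← hi, ← hQ]
        exact lt_of_le_of_ne hle hne'
      exact (Nat.pow_lt_pow_iff_right hp.one_lt).1 this
    have h2s : 2 * s₀ ≤ Q := by
      rw [show s₀ = p ^ i from hi, hQ]
      calc 2 * p ^ i ≤ p * p ^ i := Nat.mul_le_mul_right _ hp.two_le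
        _ = p ^ (i + 1) := by rw [pow_succ, mul_comm]
        _ ≤ _ := Nat.pow_le_pow_right hp.pos hij
    have hs1 : 1 < s₀ := by
      by_contra h
      push Not at h
      exact hts.1 (AddSubgroup.eq_bot_of_card_le _ h)
    have hk2 : 2 * k₀ ≤ s.card := by
      refine Nat.le_of_mul_le_mul_right (le_trans ?_ h2) (show 0 < s₀ - 1 by omega)
      calc 2 * k₀ * (s₀ - 1) = k₀ * (2 * (s₀ - 1)) := by ring
        _ ≤ _ := Nat.mul_le_mul_left _ (by omega)
    have h4 : k₀ * (Q + 1) ≤ s.card * s₀ :=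
      calc k₀ * (Q + 1) = k₀ * (Q - 1) + 2 * k₀ := by
            rw [show Q + 1 = (Q - 1) + 2 by omega]; ring
        _ ≤ s.card * (s₀ - 1) + s.card := Nat.add_le_add h2 hk2
        _ = s.card * (s₀ - 1 + 1) := by ring
        _ = _ := by rw [Nat.sub_add_cancel hs1.le]
    omega
  refine ⟨heq, hts.2, fun c x hx => ?_⟩
  have hbij : (fun x : oA χ o => (⟨x.1, Submodule.subset_span x.2⟩ :
      Submodule.span F (oA χ o : Set U))).Bijective :=
    (Nat.bijective_iff_injective_and_card _).2
      ⟨fun _ _ h => Subtype.ext (congrArg Subtype.val h :),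
        le_antisymm (Nat.card_le_card_of_injective (fun x : oA χ o =>
            (⟨x.1, Submodule.subset_span x.2⟩ : Submodule.span F (oA χ o : Set U)))
          fun _ _ h => Subtype.ext (congrArg Subtype.val h :)) ((span_card_le H χ hts.2).trans heq.ge)⟩
  obtain ⟨z, hz⟩ := hbij.2 ⟨c • x, Submodule.smul_mem _ c (Submodule.subset_span hx)⟩
  have hz' : z.1 = c • x := congrArg Subtype.val hz
  exact hz' ▸ z.2

include hne hq4 hexc

/-- In the exceptional case every orbit is a generator, and two vectors determine it. -/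
theorem exc_struct {o : Orb R Ω} (hts : IsTS χ o)
    (hline : ∀ w, ∃ x ∈ oA χ o, ∀ c : F, x ≠ c • w) :
    (∀ o' : Orb R Ω, IsGen H.n χ o') ∧
      ∀ w ∈ sing R, (orbsWith (R := R) (Ω := Ω) χ w).card = Nat.card F + 1 ∧
        ∀ v : sideSet R w, ∀ o₁ o₂ : Orb R Ω, w ∈ oA χ o₁ → w ∈ oA χ o₂ → v.1 ∈ oA χ o₁ →
          v.1 ∈ oA χ o₂ → o₁ = o₂ := by
  classical
  cases nonempty_fintype U
  cases nonempty_fintype F
  have hq1 := Hyp.one_lt_q (F := F)
  have hn := H.two_le_n
  have hN := H.hN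
  set q := Nat.card F
  set Q := q ^ H.n with hQdef
  have hqQ : q < Q :=
    calc q = q ^ 1 := (pow_one _).symm
      _ < _ := Nat.pow_lt_pow_right hq1 (by omega)
  have hqQ2 : q + 2 ≤ Q := by
    have h1 : 4 * q ≤ q * q := Nat.mul_le_mul_right _ hq4
    have h2 : q * q ≤ Q := by
      rw [hQdef, ← pow_two]
      exact Nat.pow_le_pow_right (by omega) hn
    omega
  obtain ⟨w₀, hw₀, hw₀0⟩ : ∃ x ∈ oA χ o, x ≠ 0 := by
    by_contra hcon
    push Not at hcon
    exact hts.1 ((AddSubgroup.eq_bot_iff_forall _).2 hcon)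
  obtain ⟨y₀, hy₀, hy₀i⟩ := hline w₀
  -- every orbit with a singular vector in its annihilator is a generator, and two vectors determine it
  have hgen := exc_isGen H χ hχ hlt hk hd hside hts hline
  let Kw : U → Orb R Ω → Finset U := fun w o' => Finset.univ.filter fun v =>
    v ∈ oA χ o' ∧ ¬ v ∈ F ∙ w
  have hside' : ∀ w ∈ sing R, ∀ v : sideSet R w, ∃ o' : Orb R Ω, IsGen H.n χ o' ∧ w ∈ oA χ o' ∧
      v.1 ∈ oA χ o' := by
    intro w hw v
    obtain ⟨h, hh, hhw, hhy⟩ := pair_cover H.hnd H.P H.hidx H.hN hw₀0 (hts.2 _ hw₀)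
      (hts.2 _ hy₀) (IsTS.polar_eq hts.2 hw₀ hy₀) (fun c hc => hy₀i c hc.symm) hw.1 hw.2 v.2.1
      (by rw [polar_comm]; exact v.2.2.1) v.2.2.2
    have hmem1 : w ∈ oA χ (mkL R hh • o) := hhw ▸ (oA_mkL χ hh o w₀).2 hw₀
    have hmem2 : h.1 y₀ ∈ oA χ (mkL R hh • o) := (oA_mkL χ hh o y₀).2 hy₀
    have hline' : ∀ z, ∃ x ∈ oA χ (mkL R hh • o), ∀ c : F, x ≠ c • z := by
      intro z
      obtain ⟨x, hx, hxi⟩ := hline ((h⁻¹).1 z)
      refine ⟨h.1 x, (oA_mkL χ hh o x).2 hx, fun c hc => hxi c ?_⟩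
      rw [← map_smul, ← hc, inv_apply_self]
    have hts' : IsTS χ (mkL R hh • o) := ⟨fun e => by
      rw [e, AddSubgroup.mem_bot] at hmem1; exact hw.1 hmem1, isTS_mkL H χ hh hts.2⟩
    have hg := exc_isGen H χ hχ hlt hk hd hside hts' hline'
    refine ⟨_, hg, hmem1, ?_⟩
    obtain ⟨α, β, hαβ⟩ := Submodule.mem_span_pair.1 hhy
    have hβ : β ≠ 0 := by
      rintro rfl
      rw [zero_smul, add_zero, ← hhw, ← map_smul] at hαβ
      exact hy₀i α (h.1.injective hαβ).symm
    have hv : v.1 = β⁻¹ • h.1 y₀ - (β⁻¹ * α) • w := by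
      rw [← hαβ, smul_add, smul_smul, smul_smul, inv_mul_cancel₀ hβ]
      module
    rw [hv]
    exact sub_mem (hg.2.2 _ _ hmem2) (hg.2.2 _ _ hmem1)
  have hKw : ∀ w ∈ sing R, ∀ o' : Orb R Ω, IsGen H.n χ o' → w ∈ oA χ o' → (Kw w o').card + q ≤ Q := by
    intro w hw o' hg' hwo'
    rw [hQdef, ← hg'.1]
    have e1 : Nat.card (oA χ o') = Nat.card {v : U // v ∈ oA χ o' ∧ v ∈ F ∙ w} +
        Nat.card {v : U // v ∈ oA χ o' ∧ ¬ v ∈ F ∙ w} :=
      card_split (fun v => v ∈ oA χ o') (fun v => v ∈ F ∙ w)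
    have e2 : Nat.card {v : U // v ∈ oA χ o' ∧ ¬ v ∈ F ∙ w} = (Kw w o').card := by
      rw [Nat.card_eq_fintype_card, Fintype.card_subtype]
    have e3 : q ≤ Nat.card {v : U // v ∈ oA χ o' ∧ v ∈ F ∙ w} := by
      refine Nat.card_le_card_of_injective (fun c => ⟨c • w, hg'.2.2 c w hwo',
        Submodule.smul_mem _ c (Submodule.mem_span_singleton_self _)⟩) fun c c' e => ?_
      exact smul_left_injective F hw.1 (congrArg Subtype.val e)
    rw [e1, e2]
    omega
  let G : U → Finset (Orb R Ω) := fun w => (orbsWith χ w).filter (IsGen H.n χ)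
  have hS : ∀ w, (Finset.univ.filter fun v => R v = 0 ∧ polar R v w = 0 ∧ ∀ c : F, c • w ≠ v).card
      = Nat.card (sideSet R w) := fun w => by
    rw [Nat.card_eq_fintype_card, Fintype.card_subtype]
  have hFw : ∀ w ∈ sing R, (∀ o' ∈ orbsWith (R := R) (Ω := Ω) χ w, IsGen H.n χ o') ∧
      (orbsWith (R := R) (Ω := Ω) χ w).card = q + 1 ∧
      ∀ v : sideSet R w, ∀ o₁ o₂ : Orb R Ω, w ∈ oA χ o₁ → w ∈ oA χ o₂ → v.1 ∈ oA χ o₁ →
        v.1 ∈ oA χ o₂ → o₁ = o₂ := by
    intro w hw
    set Sd := Finset.univ.filter fun v => R v = 0 ∧ polar R v w = 0 ∧ ∀ c : F, c • w ≠ v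
    have hSd : Sd.card = (q + 1) * (Q - q) := by rw [hS, hside w hw]
    have hcov : Sd ⊆ (G w).biUnion (Kw w) := by
      intro v hv
      obtain ⟨-, hvs⟩ := Finset.mem_filter.1 hv
      obtain ⟨o', hg', hwo', hvo'⟩ := hside' w hw ⟨v, hvs⟩
      refine Finset.mem_biUnion.2 ⟨o', Finset.mem_filter.2 ⟨(mem_orbsWith χ).2 hwo', hg'⟩,
        Finset.mem_filter.2 ⟨Finset.mem_univ _, hvo', fun hm => ?_⟩⟩
      obtain ⟨c, hc⟩ := Submodule.mem_span_singleton.1 hm
      exact hvs.2.2 c hc
    have hK : ∀ o' ∈ G w, (Kw w o').card ≤ Q - q := fun o' ho' => Nat.le_sub_of_add_le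
      (hKw w hw o' (Finset.mem_filter.1 ho').2 ((mem_orbsWith χ).1 (Finset.mem_filter.1 ho').1))
    have h1 : q + 1 ≤ (G w).card := by
      have := (Finset.card_le_card hcov).trans (Finset.card_biUnion_le_card_mul _ _ _ hK)
      rw [hSd] at this
      exact Nat.le_of_mul_le_mul_right this (by omega)
    have h2 := orbsWith_sing_le H χ hχ hlt (Ω := Ω) hexc hw
    have h3 : G w = orbsWith χ w := Finset.eq_of_subset_of_card_le (Finset.filter_subset _ _)
      (le_trans h2 h1)
    refine ⟨fun o' ho' => ?_, le_antisymm h2 (h3 ▸ h1), ?_⟩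
    · rw [← h3] at ho'
      exact (Finset.mem_filter.1 ho').2
    · intro v o₁ o₂ hw1 hw2 hv1 hv2
      by_contra hne12
      have ho1 : o₁ ∈ G w := by rw [h3, mem_orbsWith]; exact hw1
      have ho2 : o₂ ∈ G w := by rw [h3, mem_orbsWith]; exact hw2
      have hvK : ∀ o', v.1 ∈ oA χ o' → v.1 ∈ Kw w o' := fun o' h => Finset.mem_filter.2
        ⟨Finset.mem_univ _, h, fun hm => by
          obtain ⟨c, hc⟩ := Submodule.mem_span_singleton.1 hm
          exact v.2.2.2 c hc⟩
      have hsub : Sd ⊆ ((G w).erase o₂).biUnion (Kw w) ∪ (Kw w o₂).erase v.1 := by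
        intro u hu
        obtain ⟨o', ho', huo'⟩ := Finset.mem_biUnion.1 (hcov hu)
        by_cases he : o' = o₂
        · subst he
          by_cases huv : u = v.1
          · subst huv
            exact Finset.mem_union_left _ (Finset.mem_biUnion.2
              ⟨o₁, Finset.mem_erase.2 ⟨hne12, ho1⟩, hvK o₁ hv1⟩)
          · exact Finset.mem_union_right _ (Finset.mem_erase.2 ⟨huv, huo'⟩)
        · exact Finset.mem_union_left _
            (Finset.mem_biUnion.2 ⟨o', Finset.mem_erase.2 ⟨he, ho'⟩, huo'⟩)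
      have h4 := (Finset.card_le_card hsub).trans ((Finset.card_union_le _ _).trans
        (Nat.add_le_add_right (Finset.card_biUnion_le_card_mul _ _ _
          fun o' ho' => hK o' (Finset.mem_of_mem_erase ho')) _))
      rw [hSd, Finset.card_erase_of_mem ho2, Finset.card_erase_of_mem (hvK o₂ hv2)] at h4
      have h5 := hK o₂ ho2
      have h6 : (G w).card = q + 1 := le_antisymm (h3 ▸ h2) h1
      rw [h6, Nat.add_sub_cancel, add_mul, one_mul] at h4
      omega
  -- all orbits are generators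
  let Gs : Finset (Orb R Ω) := Finset.univ.filter (IsGen H.n χ)
  have hGcard : Gs.card = k₀ := by
    refine Nat.eq_of_mul_eq_mul_right (show 0 < Q - 1 by omega) ?_
    rw [← hk]
    let Sg : Finset U := Finset.univ.filter fun v => v ∈ sing R
    have eS : Sg.card = Nat.card (sing R) := by
      rw [Nat.card_eq_fintype_card]; exact (Fintype.card_subtype _).symm
    calc Gs.card * (Q - 1) = ∑ o' ∈ Gs, (Sg.filter fun v => v ∈ oA χ o').card := by
          rw [← smul_eq_mul, ← Finset.sum_const]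
          refine Finset.sum_congr rfl fun o' ho' => ?_
          obtain ⟨-, hg'⟩ := Finset.mem_filter.1 ho'
          have e : (Sg.filter fun v => v ∈ oA χ o') =
              (Finset.univ.filter fun v => v ∈ oA χ o').erase 0 := by
            ext v
            simp only [Sg, Finset.mem_filter, Finset.mem_univ, true_and, Finset.mem_erase]
            exact ⟨fun h => ⟨h.1.1, h.2⟩, fun h => ⟨⟨h.1, hg'.2.1 v h.2⟩, h.2⟩⟩
          rw [e, Finset.card_erase_of_mem (by simp), ← Fintype.card_subtype,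
            ← Nat.card_eq_fintype_card]
          show Q - 1 = Nat.card (oA χ o') - 1
          rw [hg'.1]
      _ = ∑ v ∈ Sg, (Gs.filter fun o' => v ∈ oA χ o').card := by
          simp only [Finset.card_filter]
          exact Finset.sum_comm
      _ = ∑ v ∈ Sg, (q + 1) := by
          refine Finset.sum_congr rfl fun v hv => ?_
          obtain ⟨h1, h2, -⟩ := hFw v (Finset.mem_filter.1 hv).2
          rw [← h2]
          congr 1
          ext o'
          simp only [Gs, Finset.mem_filter, Finset.mem_univ, true_and, mem_orbsWith]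
          exact ⟨fun h => h.2, fun h => ⟨h1 o' ((mem_orbsWith χ).2 h), h⟩⟩
      _ = _ := by rw [Finset.sum_const, smul_eq_mul, eS, mul_comm]
  have hGsum : ∑ o' ∈ Gs, Nat.card (oA χ o') = k₀ * Q := by
    rw [Finset.sum_congr rfl fun o' ho' => (Finset.mem_filter.1 ho').2.1, Finset.sum_const,
      smul_eq_mul, hGcard]
  have hall : ∀ o' : Orb R Ω, IsGen H.n χ o' := by
    intro o'
    by_contra hng
    have hk0S : k₀ ≤ Nat.card (sing R) := by
      refine Nat.le_of_mul_le_mul_right ?_ (show 0 < Q - 1 by omega)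
      rw [← hk, mul_comm (q + 1)]
      exact Nat.mul_le_mul_left _ (by omega)
    have hno : ∀ x ∈ oA χ o', x ∈ sing R → False := fun x hx hxs =>
      hng ((hFw x hxs).1 o' ((mem_orbsWith χ).2 hx))
    by_cases hns : ∃ x ∈ oA χ o', R x ≠ 0
    · obtain ⟨x, hx, hRx⟩ := hns
      let T : Finset (Orb R Ω) := Finset.univ.filter fun o'' => ∃ y ∈ oA χ o'', R y ≠ 0
      have hT := le_card_of_cover (Ω := Ω) H.hnd χ hχ T (cls R x) 1 1 1 (fun v hv => ?_)
        fun o'' _ => by
          rw [mul_one, mul_one]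
          exact Nat.card_le_card_of_injective (fun v => (⟨v.1, v.2.2⟩ : oA χ o''))
            fun v w h => Subtype.ext (congrArg Subtype.val h :)
      · rw [one_mul, mul_one, mul_one] at hT
        have hdis : Disjoint Gs T := by
          rw [Finset.disjoint_filter]
          rintro o'' - hg'' ⟨y, hy, hyR⟩
          exact hyR (hg''.2.1 y hy)
        have h1 := sum_le (Ω := Ω) H.hnd χ hχ (Gs ∪ T)
        rw [Finset.sum_union hdis, hGsum] at h1
        have h2 := H.hcl x hRx
        have h3 := H.hS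
        rw [mul_add, mul_one] at hd
        omega
      · obtain ⟨l, h, hm, rfl⟩ := exists_lev_cls H hRx hv
        refine Finset.card_pos.2 ⟨mkLev R l h hm • o', Finset.mem_filter.2
          ⟨Finset.mem_filter.2 ⟨Finset.mem_univ _, _, (oA_mkLev χ l h hm o' x).2 hx, ?_⟩,
            (oA_mkLev χ l h hm o' x).2 hx⟩⟩
        rw [QuadraticMap.map_smul, orth_Q, smul_eq_mul]
        exact mul_ne_zero (mul_ne_zero (Units.ne_zero _) (Units.ne_zero _)) hRx
    · push Not at hns
      have hbot : oA χ o' = ⊥ := (AddSubgroup.eq_bot_iff_forall _).2 fun x hx => by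
        by_contra hx0
        exact hno x hx ⟨hx0, hns x hx⟩
      obtain ⟨x, rfl⟩ := omk_surjective o'
      have hRs : Rs R x = ⊤ := by
        have h := card_oA H.hnd χ hχ (omk R x)
        rw [hbot, AddSubgroup.card_bot, one_mul] at h
        exact AddSubgroup.eq_top_of_card_eq _ h
      have hr := card_fixed_ge H hne hlt hk _ rfl (fun w hw => (hside w hw).ge) hRs
      let Z : Finset (Orb R Ω) := Finset.univ.filter fun o'' => oR o'' = ⊤
      have hZ : Nat.card {y : Ω // Rs R y = ⊤} ≤ ∑ o'' ∈ Z, Nat.card (oA χ o'') := by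
        rw [← Finset.sum_congr rfl fun o'' _ => card_fiber H.hnd χ hχ o'', ← Finset.sum_coe_sort,
          ← Nat.card_sigma]
        exact Nat.card_le_card_of_injective (fun y => ⟨⟨omk R y.1, Finset.mem_filter.2
          ⟨Finset.mem_univ _, y.2⟩⟩, y.1, rfl⟩)
          fun a b e => Subtype.ext (congrArg (fun s => s.2.1) e)
      have hdis : Disjoint Gs Z := by
        rw [Finset.disjoint_filter]
        rintro o'' - hg'' htop
        have h := card_oA H.hnd χ hχ o''
        rw [htop, AddSubgroup.card_top, hg''.1] at h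
        have : Q = 1 := Nat.eq_of_mul_eq_mul_right (show 0 < Nat.card U from Nat.card_pos)
          (by rw [one_mul]; exact h)
        omega
      have h1 := sum_le (Ω := Ω) H.hnd χ hχ (Gs ∪ Z)
      rw [Finset.sum_union hdis, hGsum] at h1
      rw [mul_add, mul_one] at hd
      omega
  exact ⟨hall, fun w hw => (hFw w hw).2⟩

set_option maxHeartbeats 800000 in
/-- In the exceptional case there is no non-collinear totally singular annihilator. -/
theorem exc_false {o : Orb R Ω} (hts : IsTS χ o)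
    (hline : ∀ w, ∃ x ∈ oA χ o, ∀ c : F, x ≠ c • w) : False := by
  classical
  cases nonempty_fintype U
  cases nonempty_fintype F
  have hq1 := Hyp.one_lt_q (F := F)
  have hn := H.two_le_n
  have hN := H.hN
  set q := Nat.card F
  set Q := q ^ H.n with hQdef
  have hqQ : q < Q :=
    calc q = q ^ 1 := (pow_one _).symm
      _ < _ := Nat.pow_lt_pow_right hq1 (by omega)
  have hqQ2 : q + 2 ≤ Q := by
    have h1 : 4 * q ≤ q * q := Nat.mul_le_mul_right _ hq4
    have h2 : q * q ≤ Q := by
      rw [hQdef, ← pow_two]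
      exact Nat.pow_le_pow_right (by omega) hn
    omega
  obtain ⟨w₀, hw₀, hw₀0⟩ : ∃ x ∈ oA χ o, x ≠ 0 := by
    by_contra hcon
    push Not at hcon
    exact hts.1 ((AddSubgroup.eq_bot_iff_forall _).2 hcon)
  obtain ⟨y₀, hy₀, hy₀i⟩ := hline w₀
  obtain ⟨hall, hFw⟩ := exc_struct H χ hχ hne hlt hq4 hk hd hexc hside hts hline
  -- a root element and its conjugate in the radical
  set a := w₀ with ha_def
  set b := y₀ with hb_def
  have ha : a ∈ sing R := ⟨hw₀0, hts.2 _ hw₀⟩
  have hab : polar R a b = 0 := IsTS.polar_eq hts.2 hw₀ hy₀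
  have hba : polar R b a = 0 := by rw [polar_comm]; exact hab
  have hbQ : R b = 0 := hts.2 _ hy₀
  have hb0 : b ≠ 0 := fun h => hy₀i 0 (by rw [zero_smul]; exact h)
  have hind : ∀ c : F, c • a ≠ b := fun c hc => hy₀i c hc.symm
  obtain ⟨kc, hkc⟩ := exists_conj_root H.hnd H.P ha.2 hbQ hab hind ha.1
  set g := mkL R (siegel_mem (Q := R) ha.2 hab) with hgdef
  have hgapp : ∀ w, (siegel R a b ha.2 hab).1 w = w + polar R w a • b + (-(polar R w b)) • a := by
    intro w
    rw [siegel_apply, hbQ, zero_mul, sub_zero]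
  have hfix : Nat.card {x : Ω // g.1 • x = x} = Nat.card {x : Ω // sgQ R (-a) • x = x} := by
    have hg' : g.1 = ⟨_, liftO_mem (siegel_mem (w := b) ha.2 hab)⟩ :=
      Subtype.ext (mkL_coe _)
    rw [← hkc, hg']
    refine Nat.card_congr ((MulAction.toPerm kc).subtypeEquiv fun x => ?_)
    show _ ↔ (kc * _ * kc⁻¹) • kc • x = kc • x
    rw [← mul_smul, mul_assoc, inv_mul_cancel, mul_one, mul_smul, smul_left_cancel_iff]
  have hup : Nat.card {x : Ω // sgQ R (-a) • x = x} ≤ (q + 1) * Q := by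
    rw [card_fix_sgQ H.hnd χ hχ]
    have hsub : (Finset.univ.filter fun o' : Orb R Ω => -a ∈ oR o') ⊆ orbsWith χ a := by
      intro o' ho'
      obtain ⟨-, ho'⟩ := Finset.mem_filter.1 ho'
      rw [mem_orbsWith]
      obtain ⟨hc', hs', hF'⟩ := hall o'
      have hperp : ∀ x ∈ oA χ o', polar R x a = 0 := by
        intro x hx
        by_contra hxa
        obtain ⟨d, hd'⟩ := AddChar.ne_one_iff.1 hχ
        have h1 := (mem_oR_iff H.hnd χ hχ o' (-a)).1 ho' _ (hF' (-(d / polar R x a)) x hx)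
        rw [polar_smul_left, polar_neg_right, smul_eq_mul, neg_mul_neg, div_mul_cancel₀ _ hxa] at h1
        exact hd' h1
      by_contra haA
      let W : Submodule F U :=
        { carrier := oA χ o'
          add_mem' := fun hx hy => add_mem hx hy
          zero_mem' := zero_mem _
          smul_mem' := fun c x hx => hF' c x hx }
      have hW : finrank F W = H.n := by
        refine Nat.pow_right_injective hq1 ?_
        show q ^ finrank F W = q ^ H.n
        rw [← Module.natCard_eq_pow_finrank (K := F)]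
        exact hc'
      have hlt' : W < W ⊔ F ∙ a := lt_of_le_of_ne le_sup_left fun e => haA (by
        show a ∈ W
        rw [e]
        exact Submodule.mem_sup_right (Submodule.mem_span_singleton_self a))
      have h1 := Submodule.finrank_lt_finrank_of_lt hlt'
      have h2 := H.hidx (W ⊔ F ∙ a) fun x hx => by
        obtain ⟨k, hk', t, ht, rfl⟩ := Submodule.mem_sup.1 hx
        obtain ⟨c, rfl⟩ := Submodule.mem_span_singleton.1 ht
        rw [Q_comb1, hs' k hk', ha.2, hperp k hk']
        ring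
      omega
    refine (Finset.sum_le_sum_of_subset hsub).trans ?_
    rw [Finset.sum_congr rfl fun o' _ => (hall o').1, Finset.sum_const, smul_eq_mul,
      (hFw a ha).1]
  -- fixed points of the root element
  obtain ⟨s, hs0, hs⟩ := CfsgLib.Linear.exists_sq_ne_one_of_four_le_card (F := F) hq4
  set l : Fˣ := Units.mk0 s hs0 * Units.mk0 s hs0
  have hlm : levO R l 1 ∈ siegelGroup (plane R) := by
    rw [← diagO_eq_levO]; exact diagO_sq_mem H.hnd H.P _
  have hl1 : (l : F) ≠ 1 := by
    show ((Units.mk0 s hs0 * Units.mk0 s hs0 : Fˣ) : F) ≠ 1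
    rw [Units.val_mul, Units.val_mk0, ← pow_two]
    exact hs
  have hRperp : ∀ o' : Orb R Ω, ∀ r, r ∈ oR o' → ∀ x ∈ oA χ o', polar R x r = 0 := by
    intro o' r hr x hx
    by_contra hxr
    obtain ⟨d, hd'⟩ := AddChar.ne_one_iff.1 hχ
    have h1 := (mem_oR_iff H.hnd χ hχ o' r).1 hr _ ((hall o').2.2 (d / polar R x r) x hx)
    rw [polar_smul_left, smul_eq_mul, div_mul_cancel₀ _ hxr] at h1
    exact hd' h1
  have huniq : ∀ (w : U), w ∈ sing R → ∀ (v : U) (o₁ o₂ : Orb R Ω), w ∈ oA χ o₁ → w ∈ oA χ o₂ →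
      v ∈ oA χ o₁ → v ∈ oA χ o₂ → (∀ c : F, c • w ≠ v) → o₁ = o₂ := by
    intro w hw v o₁ o₂ h1 h2 h3 h4 h5
    exact (hFw w hw).2 ⟨v, (hall o₁).2.1 v h3, IsTS.polar_eq (hall o₁).2.1 h3 h1, h5⟩
      o₁ o₂ h1 h2 h3 h4
  have hfixed : ∀ o' : Orb R Ω, g • o' = o' → ∀ D : AddSubgroup U,
      (∀ c ∈ D, ∀ x ∈ oA χ o', polar R x ((siegel R a b ha.2 hab).1 c - c) = 0) →
      Nat.card D ≤ Nat.card {x : Ω // omk R x = o' ∧ g.1 • x = x} * Nat.card (oR o') := by
    intro o' hgo D hD
    have hto : mkLev R l 1 hlm • o' = o' := by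
      obtain ⟨w, hw', hw0⟩ : ∃ x ∈ oA χ o', x ≠ 0 := by
        by_contra hcon
        push Not at hcon
        have hb' : oA χ o' = ⊥ := (AddSubgroup.eq_bot_iff_forall _).2 hcon
        have h1 := (hall o').1
        rw [hb', AddSubgroup.card_bot] at h1
        change 1 = Q at h1
        omega
      obtain ⟨v, hv, hvi⟩ : ∃ v ∈ oA χ o', ∀ c : F, c • w ≠ v := by
        by_contra hcon
        push Not at hcon
        have h1 : Nat.card (oA χ o') ≤ q := by
          choose c hc using hcon
          refine Nat.card_le_card_of_injective (fun x : oA χ o' => c x.1 x.2) fun x x' e => ?_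
          exact Subtype.ext (by rw [← hc x.1 x.2, ← hc x'.1 x'.2]; exact congrArg (· • w) e)
        rw [(hall o').1] at h1
        change Q ≤ q at h1
        omega
      have hmap : ∀ x ∈ oA χ o', x ∈ oA χ (mkLev R l 1 hlm • o') := by
        intro x hx
        have h1 := (oA_mkLev χ l 1 hlm o' ((l : F) • x)).2 ((hall o').2.2 _ x hx)
        rwa [one_apply, smul_smul, Units.inv_mul, one_smul] at h1
      exact (huniq w ⟨hw0, (hall o').2.1 w hw'⟩ v o' _ hw' (hmap w hw') hv (hmap v hv) hvi).symm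
    have hinj : ∀ c, (l : F) • (1 : Orth R).1 c - c ∈ oR o' → c ∈ oR o' := by
      intro c hc
      refine mem_oR_of_perp H.hnd χ hχ fun x hx => ?_
      have h1 := hRperp o' _ hc x hx
      rw [one_apply, polar_sub_right, polar_smul_right, smul_eq_mul, ← sub_one_mul] at h1
      exact (mul_eq_zero.1 h1).resolve_left (sub_ne_zero.2 hl1)
    obtain ⟨y, ⟨hy, hty⟩, huy⟩ := existsUnique_fix hto hinj
    have hcomm : (mkLev R l 1 hlm).1 * g.1 = g.1 * (mkLev R l 1 hlm).1 := by
      refine Subtype.ext ?_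
      show levO R l 1 * levO R 1 (siegel R a b ha.2 hab) =
        levO R 1 (siegel R a b ha.2 hab) * levO R l 1
      rw [levO_mul, levO_mul, one_mul, mul_one, one_mul, mul_one]
    have hgy : g.1 • y = y := huy _ ⟨by rw [← smul_omk, hy, hgo], by
      rw [← mul_smul, hcomm, mul_smul, hty]⟩
    subst hy
    exact card_fix_ge (siegel_mem (Q := R) ha.2 hab) hgy D fun c hc =>
      (mem_Rs_iff H.hnd χ hχ y _).2 fun x hx => by rw [hD c hc x hx, AddChar.map_zero_eq_one]
  let pts : Finset U := insert b ((Finset.univ : Finset F).image fun c => a + c • b)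
  have hline_mem : ∀ p ∈ pts, p ∈ sing R ∧ p ∈ oA χ o ∧
      ∀ w, polar R w p = 0 → ∃ t : F, polar R w a • b + (-(polar R w b)) • a = t • p := by
    intro p hp
    rcases Finset.mem_insert.1 hp with rfl | hp
    · refine ⟨⟨hb0, hbQ⟩, hy₀, fun w hw => ⟨polar R w a, ?_⟩⟩
      rw [hw, neg_zero, zero_smul, add_zero]
    · obtain ⟨c, -, rfl⟩ := Finset.mem_image.1 hp
      refine ⟨⟨fun h0 => ?_, by rw [Q_comb1, ha.2, hbQ, hab]; ring⟩,
        add_mem hw₀ ((hall o).2.2 c _ hy₀), fun w hw => ⟨-(polar R w b), ?_⟩⟩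
      · by_cases hc : c = 0
        · rw [hc, zero_smul, add_zero] at h0
          exact ha.1 h0
        · refine hind (-c⁻¹) ?_
          rw [eq_neg_of_add_eq_zero_left h0, smul_neg, neg_smul, neg_neg, smul_smul,
            inv_mul_cancel₀ hc, one_smul]
      · rw [polar_add_right, polar_smul_right, smul_eq_mul] at hw
        rw [show polar R w a = -(c * polar R w b) by linear_combination hw]
        module
  have hpts : q + 1 ≤ pts.card := by
    rw [Finset.card_insert_of_notMem fun hb' => ?_]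
    · refine Nat.add_le_add_right ?_ _
      show Nat.card F ≤ _
      rw [Finset.card_image_of_injective _ fun c c' e => smul_left_injective F hb0 (add_left_cancel e),
        Finset.card_univ, Nat.card_eq_fintype_card]
    · obtain ⟨c, -, hc'⟩ := Finset.mem_image.1 hb'
      have hc := hc'.symm
      by_cases h1 : (1 : F) - c = 0
      · rw [← sub_eq_zero.1 h1, one_smul] at hc
        exact ha.1 (add_eq_right.1 hc.symm)
      · refine hind (1 - c)⁻¹ ?_
        have : a = (1 - c) • b := by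
          rw [sub_smul, one_smul]
          nth_rewrite 1 [hc]
          abel
        rw [this, smul_smul, inv_mul_cancel₀ h1, one_smul]
  let fam : Finset (Orb R Ω) := pts.biUnion fun p => (orbsWith χ p).erase o
  have hfam : q * (q + 1) ≤ fam.card := by
    rw [Finset.card_biUnion]
    · calc q * (q + 1) ≤ q * pts.card := Nat.mul_le_mul_left _ hpts
        _ = ∑ p ∈ pts, q := by rw [Finset.sum_const, smul_eq_mul, mul_comm]
        _ ≤ _ := Finset.sum_le_sum fun p hp => by
          rw [Finset.card_erase_of_mem ((mem_orbsWith χ).2 (hline_mem p hp).2.1),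
            (hFw p (hline_mem p hp).1).1]
          omega
    · intro p hp p' hp' hpp'
      refine Finset.disjoint_left.2 fun o' h1 h2 => ?_
      obtain ⟨h1ne, h1'⟩ := Finset.mem_erase.1 h1
      obtain ⟨-, h2'⟩ := Finset.mem_erase.1 h2
      rw [mem_orbsWith] at h1' h2'
      refine h1ne (huniq p (hline_mem p hp).1 p' o' o h1' (hline_mem p hp).2.1 h2'
        (hline_mem p' hp').2.1 fun c hc => hpp' ?_)
      -- proportional representatives are equal
      rcases Finset.mem_insert.1 hp with rfl | hp2 <;> rcases Finset.mem_insert.1 hp' with rfl | hp2'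
      · rfl
      · exfalso
        obtain ⟨d, -, rfl⟩ := Finset.mem_image.1 hp2'
        by_cases h0 : c - d = 0
        · rw [sub_eq_zero.1 h0] at hc
          exact ha.1 (add_eq_right.1 hc.symm)
        · refine hind (c - d)⁻¹ ?_
          have : a = (c - d) • b := by rw [sub_smul, hc]; abel
          rw [this, smul_smul, inv_mul_cancel₀ h0, one_smul]
      · exfalso
        obtain ⟨d, -, rfl⟩ := Finset.mem_image.1 hp2
        by_cases h0 : 1 - c * d = 0
        · rw [smul_add, smul_smul, ← sub_eq_zero.1 h0, one_smul, add_eq_right, smul_eq_zero] at hc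
          exact hc.elim (fun e => by rw [e] at h0; simp at h0) ha.1
        · refine hind ((1 - c * d)⁻¹ * c) ?_
          have : c • a = (1 - c * d) • b := by
            linear_combination (norm := module) hc
          rw [mul_smul, this, smul_smul, inv_mul_cancel₀ h0, one_smul]
      · obtain ⟨d, -, rfl⟩ := Finset.mem_image.1 hp2
        obtain ⟨d', -, rfl⟩ := Finset.mem_image.1 hp2'
        have h3 : (c - 1) • a + (c * d - d') • b = 0 := by
          linear_combination (norm := module) hc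
        obtain ⟨h4, h5⟩ :=
          LinearIndependent.pair_iff.1 (not_smul_eq_of_indep ha.1 hind) _ _ ((add_comm _ _).trans h3)
        have hc1 : c = 1 := sub_eq_zero.1 h5
        rw [hc1, one_mul] at h4
        rw [sub_eq_zero.1 h4]
  have hNn : H.n ≤ finrank F U := by omega
  have hcardR : ∀ o' : Orb R Ω, Nat.card (oR o') * Q = q ^ finrank F U := fun o' => by
    rw [mul_comm, ← card_univ_eq (F := F) (U := U), hQdef, ← (hall o').1]
    exact card_oA H.hnd χ hχ o'
  have hoRpos : ∀ o' : Orb R Ω, 0 < Nat.card (oR o') := fun o' => Nat.card_pos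
  have hgfix : ∀ o' : Orb R Ω, ∀ p ∈ pts, p ∈ oA χ o' → g • o' = o' := by
    intro o' p hp hpo
    have hgA : ∀ x ∈ oA χ o', (siegel R a b ha.2 hab).1 x ∈ oA χ o' := by
      intro x hx
      obtain ⟨t, ht⟩ := (hline_mem p hp).2.2 x (IsTS.polar_eq (hall o').2.1 hx hpo)
      rw [hgapp, add_assoc, ht]
      exact add_mem hx ((hall o').2.2 t p hpo)
    obtain ⟨x, hx, hxi⟩ : ∃ x ∈ oA χ o', ∀ c : F, c • p ≠ x := by
      by_contra hcon
      push Not at hcon
      have h1 : Nat.card (oA χ o') ≤ q := by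
        choose c hc using hcon
        refine Nat.card_le_card_of_injective (fun x : oA χ o' => c x.1 x.2) fun x x' e => ?_
        exact Subtype.ext (by rw [← hc x.1 x.2, ← hc x'.1 x'.2]; exact congrArg (· • p) e)
      rw [(hall o').1] at h1
      change Q ≤ q at h1
      omega
    have hpp : (siegel R a b ha.2 hab).1 p = p := by
      refine siegel_fix _ _ ?_ ?_
      · exact IsTS.polar_eq hts.2 (hline_mem p hp).2.1 hw₀
      · exact IsTS.polar_eq hts.2 (hline_mem p hp).2.1 hy₀
    refine (huniq p (hline_mem p hp).1 ((siegel R a b ha.2 hab).1 x) o' _ hpo ?_ (hgA x hx)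
      ((oA_mkL χ _ o' x).2 hx) ?_).symm
    · have := (oA_mkL χ (siegel_mem (Q := R) ha.2 hab) o' p).2 hpo
      rwa [hpp] at this
    · intro c hc
      rw [← hpp, ← map_smul] at hc
      exact hxi c ((siegel R a b ha.2 hab).1.injective hc)
  have hfo : Q ≤ Nat.card {x : Ω // omk R x = o ∧ g.1 • x = x} := by
    have h1 := hfixed o (hgfix o b (Finset.mem_insert_self _ _) hy₀) ⊤ fun c _ x hx => by
      rw [hgapp, add_assoc, add_sub_cancel_left, polar_add_right, polar_smul_right,
        polar_smul_right, IsTS.polar_eq hts.2 hx hw₀, IsTS.polar_eq hts.2 hx hy₀]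
      simp
    rw [AddSubgroup.card_top, card_univ_eq (F := F), ← hcardR o, mul_comm] at h1
    exact Nat.le_of_mul_le_mul_right h1 (hoRpos o)
  have hff : ∀ o' ∈ fam, q ^ (H.n - 1) ≤ Nat.card {x : Ω // omk R x = o' ∧ g.1 • x = x} := by
    intro o' ho'
    obtain ⟨p, hp, ho''⟩ := Finset.mem_biUnion.1 ho'
    have hpo : p ∈ oA χ o' := (mem_orbsWith χ).1 (Finset.mem_of_mem_erase ho'')
    have h1 := hfixed o' (hgfix o' p hp hpo) (perp R p).toAddSubgroup fun c hc x hx => by
      have hcp : polar R c p = 0 := mem_perp.1 hc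
      have hxp := IsTS.polar_eq (hall o').2.1 hx hpo
      rw [hgapp, add_assoc, add_sub_cancel_left]
      obtain ⟨t, ht⟩ := (hline_mem p hp).2.2 c hcp
      rw [ht, polar_smul_right, hxp, smul_zero]
    rw [show Nat.card (perp R p).toAddSubgroup = q ^ (finrank F U - 1) from
      card_perp H.hnd (hline_mem p hp).1.1] at h1
    refine Nat.le_of_mul_le_mul_right (le_trans (le_of_eq ?_) h1) (hoRpos o')
    refine Nat.eq_of_mul_eq_mul_right (show 0 < Q by omega) ?_
    rw [mul_assoc, hcardR o', hQdef, ← pow_add, ← pow_add]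
    congr 1
    omega
  have hlow : Q + q * (q + 1) * q ^ (H.n - 1) ≤ Nat.card {x : Ω // g.1 • x = x} := by
    have hof : o ∉ fam := fun h => by
      obtain ⟨p, -, hp⟩ := Finset.mem_biUnion.1 h
      exact (Finset.mem_erase.1 hp).1 rfl
    calc Q + q * (q + 1) * q ^ (H.n - 1)
        ≤ ∑ o' ∈ insert o fam, Nat.card {x : Ω // omk R x = o' ∧ g.1 • x = x} := by
          rw [Finset.sum_insert hof]
          refine Nat.add_le_add hfo ?_
          refine le_trans ?_ (Finset.card_nsmul_le_sum _ _ _ hff)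
          rw [smul_eq_mul]
          exact Nat.mul_le_mul_right _ hfam
      _ ≤ _ := by
          rw [← Finset.sum_coe_sort, ← Nat.card_sigma]
          refine Nat.card_le_card_of_injective (fun s => ⟨s.2.1, s.2.2.2⟩) ?_
          rintro ⟨⟨o₁, h₁⟩, x, hx, hx'⟩ ⟨⟨o₂, h₂⟩, y, hy, hy'⟩ e
          obtain rfl : x = y := congrArg Subtype.val e
          obtain rfl : o₁ = o₂ := hx.symm.trans hy
          rfl
  have hpow : q * q ^ (H.n - 1) = Q := by
    rw [hQdef, ← pow_succ', Nat.sub_add_cancel (by omega)]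
  rw [hfix] at hlow
  rw [mul_comm q (q + 1), mul_assoc, hpow] at hlow
  omega

omit hk hd hside hq4 hexc

/-- A totally singular annihilator lies in a line. -/
theorem singular_class {o : Orb R Ω} (ho : ∀ x ∈ oA χ o, R x = 0)
    (hexc : 4 ≤ Nat.card F → Nat.card (Pts R) ≤ (Nat.card F + 2) * Nat.card (sing R)) :
    ∃ w : U, ∀ x ∈ oA χ o, ∃ c : F, x = c • w := by
  classical
  by_contra hcon
  push Not at hcon
  have hts : IsTS χ o := ⟨fun e => by
    obtain ⟨x, hx, hxi⟩ := hcon 0
    rw [e, AddSubgroup.mem_bot] at hx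
    exact hxi 0 (by rw [hx, zero_smul]), ho⟩
  obtain ⟨w, hw⟩ : ∃ w, w ∈ sing R := ⟨H.P.e₁, H.P.pair₁.left_ne_zero, H.P.pair₁.1⟩
  set X := Nat.card (sideSet R w) with hXdef
  have hside : ∀ v ∈ sing R, Nat.card (sideSet R v) = X := fun v hv => by
    have h1 := H.card_side hv.1 hv.2
    have h2 := H.card_side hw.1 hw.2
    omega
  have hq1 := Hyp.one_lt_q (F := F)
  have hn := H.two_le_n
  rcases H.hX X (H.card_side hw.1 hw.2) with h | ⟨hq4, hXe, k₀, hk, hd⟩
  · obtain ⟨s, -, hcard, hcount⟩ := ts_pair_count H χ hχ hlt hts hcon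
    have h1 := hcount X fun v hv => (hside v hv).ge
    have hqn2 : Nat.card F < Nat.card F ^ H.n :=
      calc Nat.card F = Nat.card F ^ 1 := (pow_one _).symm
        _ < _ := Nat.pow_lt_pow_right hq1 (by omega)
    have h2 : Nat.card (Pts R) ≤ s.card * (Nat.card (oA χ o) - 1) := by
      refine Nat.le_of_mul_le_mul_right (le_trans h (le_trans h1 (le_of_eq ?_)))
        (show 0 < Nat.card F ^ H.n - Nat.card F by omega)
      ring
    have h3 : s.card * Nat.card (oA χ o) ≤ Nat.card Ω := by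
      refine le_trans ?_ (sum_le H.hnd χ hχ s)
      rw [← smul_eq_mul]
      exact Finset.card_nsmul_le_sum _ _ _ fun o' ho' => (hcard o' ho').ge
    have h4 : s.card * (Nat.card (oA χ o) - 1) ≤ s.card * Nat.card (oA χ o) :=
      Nat.mul_le_mul_left _ (Nat.sub_le _ _)
    omega
  · exact exc_false H χ hχ hne hlt hq4 hk hd (hexc hq4)
      (fun v hv => (hside v hv).trans hXe) hts hcon

end CfsgLib.MinIndexOrth
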